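import Mathlib
import Groth.Agent.EtCons.Basic

/-!
Stratifications adapted to a predicate on morphisms into a scheme.
-/

set_option autoImplicit false
set_option backward.isDefEq.respectTransparency false
set_option backward.isDefEq.respectTransparency.types false

universe u

open CategoryTheory CategoryTheory.Limits AlgebraicGeometry Opposite Topology TopologicalSpace

noncomputable section

namespace Groth.Agent.EtTrivGen

variable {X : Scheme.{u}}

/-- stable under precomposition with immersions -/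
def StableQ (Q : ∀ T : Scheme.{u}, (T ⟶ X) → Prop) : Prop :=
  ∀ (T T' : Scheme.{u}) (j : T' ⟶ T) (g : T ⟶ X), IsImmersion j → IsImmersion g → Q T g → Q T' (j ≫ g)

/-- a finite constructible stratification with `Q` -/
def AdaptedQ (Q : ∀ T : Scheme.{u}, (T ⟶ X) → Prop) (S : Set X) : Prop :=
  ∃ (n : ℕ) (T : Fin n → Scheme.{u}) (g : ∀ i, T i ⟶ X),
    (∀ i, IsImmersion (g i)) ∧
    (∀ i, Topology.IsConstructible ((Subtype.val : S → X) ⁻¹' Set.range (g i))) ∧
    Pairwise (fun i j => Disjoint (Set.range (g i)) (Set.range (g j))) ∧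
    (⋃ i, Set.range (g i)) = S ∧
    ∀ i, Q (T i) (g i)

/-- A piece of a stratification near `x`, inside the open `U`. -/
def GoodQ (Q : ∀ T : Scheme.{u}, (T ⟶ X) → Prop) (U : X.Opens) (x : X) : Prop :=
  ∃ (T : Scheme.{u}) (g : T ⟶ X) (C : Set (U : Set X)), IsImmersion g ∧ IsConstructible C ∧
    (∃ h : x ∈ U, (⟨x, h⟩ : (U : Set X)) ∈ C) ∧ Subtype.val '' C ⊆ Set.range g ∧ Q T g

/-- at a point -/
def GoodAtQ (Q : ∀ T : Scheme.{u}, (T ⟶ X) → Prop) (x : X) : Prop :=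
  ∃ U : X.Opens, IsAffineOpen U ∧ x ∈ U ∧ GoodQ Q U x

variable {Q Q' Q'' : ∀ T : Scheme.{u}, (T ⟶ X) → Prop}

theorem goodQ_of_adapted {U : X.Opens} (h : AdaptedQ Q (U : Set X)) {x : X} (hx : x ∈ U) : GoodQ Q U x := by
  obtain ⟨n, T, g, himm, hc, -, hU, hF⟩ := h
  have hx' : x ∈ ⋃ i, Set.range (g i) := by rw [hU]; exact hx
  obtain ⟨i, hi⟩ := Set.mem_iUnion.1 hx'
  exact ⟨T i, g i, _, himm i, hc i, ⟨hx, hi⟩, Set.image_preimage_subset _ _, hF i⟩

theorem adapted_of_goodQ (hQ : StableQ Q) {U : X.Opens} [CompactSpace (U : Set X)]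
    [QuasiSeparatedSpace (U : Set X)] (h : ∀ x ∈ U, GoodQ Q U x) : AdaptedQ Q (U : Set X) := by
  haveI : CompactSpace U.toScheme := ‹CompactSpace (U : Set X)›
  haveI : QuasiSeparatedSpace U.toScheme := ‹QuasiSeparatedSpace (U : Set X)›
  choose T g C himm hC hxC hCg hF using fun x : (U : Set X) => h x.1 x.2
  have hxC' : ∀ x : (U : Set X), x ∈ C x := fun x => (hxC x).2
  obtain ⟨t, ht⟩ := EtCons.exists_finite_constructible_cover (S := U.toScheme) C hC hxC'
  obtain ⟨n, A, c, hA, hdis, hun⟩ := EtCons.exists_partition (fun i : t => C i.1) (fun i => hC i.1)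
    (fun y => by obtain ⟨x, hx, hy⟩ := ht y; exact ⟨⟨x, hx⟩, hy⟩)
  have hlc : ∀ k, IsLocallyClosed (g (c k).1 ⁻¹' (Subtype.val '' A k)) := fun k =>
    ((hA k).2.1.image U.isOpen.isOpenEmbedding_subtypeVal.isInducing
      (by rw [Subtype.range_coe_subtype]; exact U.isOpen.isLocallyClosed)).preimage (g (c k).1).continuous
  choose O j hj hjr using fun k => EtCons.exists_immersion_range (hlc k)
  have hr : ∀ k, Set.range (j k ≫ g (c k).1) = Subtype.val '' A k := fun k => by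
    rw [Scheme.Hom.comp_base, TopCat.coe_comp, Set.range_comp, hjr, Set.image_preimage_eq_inter_range,
      Set.inter_eq_left]
    exact (Set.image_mono (hA k).2.2).trans (hCg _)
  refine ⟨n, O, fun k => j k ≫ g (c k).1, fun k => ?_, fun k => ?_, fun k l hkl => ?_, ?_, fun k => ?_⟩
  · haveI := hj k
    haveI := himm (c k).1
    infer_instance
  · rw [hr]
    exact (congrArg IsConstructible (Set.preimage_image_eq (A k) Subtype.val_injective)).mpr (hA k).1
  · show Disjoint (Set.range (j k ≫ g (c k).1)) (Set.range (j l ≫ g (c l).1))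
    exact (hr k).symm ▸ (hr l).symm ▸ Set.disjoint_image_of_injective Subtype.val_injective (hdis hkl)
  · simp only [hr]
    rw [← Set.image_iUnion, hun, Set.image_univ, Subtype.range_coe_subtype]
    rfl
  · exact hQ _ _ (j k) (g (c k).1) (hj k) (himm _) (hF _)

theorem goodQ_iff_of_le {D U : X.Opens} (h : D ≤ U) [CompactSpace (D : Set X)] [QuasiSeparatedSpace (U : Set X)]
    {x : X} (hx : x ∈ D) : GoodQ Q D x ↔ GoodQ Q U x := by
  constructor
  · rintro ⟨T, g, C, hg, hC, ⟨hxD, hxC⟩, hCg, hF⟩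
    refine ⟨T, g, EtCons.incl h '' C, hg, hC.image_of_isOpenEmbedding (EtCons.isOpenEmbedding_incl h)
      (EtCons.isRetrocompact_range_incl h), ⟨h hxD, ⟨_, hxC, rfl⟩⟩, ?_, hF⟩
    rintro _ ⟨_, ⟨y, hy, rfl⟩, rfl⟩
    exact hCg ⟨y, hy, rfl⟩
  · rintro ⟨T, g, C, hg, hC, ⟨hxU, hxC⟩, hCg, hF⟩
    refine ⟨T, g, EtCons.incl h ⁻¹' C, hg, hC.preimage_of_isOpenEmbedding (EtCons.isOpenEmbedding_incl h),
      ⟨hx, hxC⟩, ?_, hF⟩
    rintro _ ⟨y, hy, rfl⟩
    exact hCg ⟨EtCons.incl h y, hy, rfl⟩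

theorem goodQ_of_goodAtQ {U : X.Opens} [CompactSpace (U : Set X)] [QuasiSeparatedSpace (U : Set X)] {x : X}
    (hx : x ∈ U) (h : GoodAtQ Q x) : GoodQ Q U x := by
  obtain ⟨U', hU', hxU', hg⟩ := h
  obtain ⟨D, hD, hxD, hDle⟩ := EtCons.exists_affine_le (V := U ⊓ U') ⟨hx, hxU'⟩
  haveI : CompactSpace (D : Set X) := isCompact_iff_compactSpace.1 hD.isCompact
  haveI := (ConsTop.affine_instances hU').2.1
  exact (goodQ_iff_of_le (hDle.trans inf_le_left) hxD).1 ((goodQ_iff_of_le (hDle.trans inf_le_right) hxD).2 hg)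

theorem goodAtQ_of_goodQ {U : X.Opens} [QuasiSeparatedSpace (U : Set X)] {x : X} (hx : x ∈ U) (h : GoodQ Q U x) :
    GoodAtQ Q x := by
  obtain ⟨D, hD, hxD, hDle⟩ := EtCons.exists_affine_le hx
  haveI : CompactSpace (D : Set X) := isCompact_iff_compactSpace.1 hD.isCompact
  exact ⟨D, hD, hxD, (goodQ_iff_of_le hDle hxD).2 h⟩

/-- being stratifiable on affine opens is pointwise -/
theorem forall_adaptedQ_iff (hQ : StableQ Q) :
    (∀ U : X.Opens, IsAffineOpen U → AdaptedQ Q (U : Set X)) ↔ ∀ x, GoodAtQ Q x := by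
  constructor
  · intro h x
    obtain ⟨U, hU, hxU, -⟩ := EtCons.exists_affine_le (V := (⊤ : X.Opens)) (x := x) trivial
    exact ⟨U, hU, hxU, goodQ_of_adapted (h U hU) hxU⟩
  · intro h U hU
    haveI := EtCons.compact_of_affine hU
    haveI := EtCons.qs_of_affine hU
    exact adapted_of_goodQ hQ fun x hx => goodQ_of_goodAtQ hx (h x)

/-- on a quasi-compact quasi-separated scheme one stratification suffices -/
theorem adaptedQ_univ_iff [CompactSpace X] [QuasiSeparatedSpace X] (hQ : StableQ Q) :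
    AdaptedQ Q (Set.univ : Set X) ↔ ∀ x, GoodAtQ Q x := by
  obtain ⟨_, _⟩ := EtCons.qcqs_top (X := X)
  constructor
  · intro h x
    exact goodAtQ_of_goodQ (U := (⊤ : X.Opens)) trivial (goodQ_of_adapted (U := (⊤ : X.Opens)) h trivial)
  · intro h
    exact adapted_of_goodQ (U := (⊤ : X.Opens)) hQ fun x hx => goodQ_of_goodAtQ hx (h x)

theorem GoodAtQ.mono (h : ∀ T g, IsImmersion g → Q T g → Q' T g) {x : X} (hx : GoodAtQ Q x) : GoodAtQ Q' x := by
  obtain ⟨U, hU, hxU, T, g, C, hg, hC, hxC, hCg, hF⟩ := hx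
  exact ⟨U, hU, hxU, T, g, C, hg, hC, hxC, hCg, h T g hg hF⟩

/-- two conditions together -/
theorem GoodAtQ.and (hQ : StableQ Q) (hQ' : StableQ Q') {x : X} (h : GoodAtQ Q x) (h' : GoodAtQ Q' x) :
    GoodAtQ (fun T g => Q T g ∧ Q' T g) x := by
  obtain ⟨U, hU, hxU, T, g, C, hg, hC, ⟨_, hxC⟩, hCg, hF⟩ := h
  haveI := EtCons.compact_of_affine hU
  haveI := EtCons.qs_of_affine hU
  obtain ⟨T', g', C', hg', hC', ⟨_, hxC'⟩, hCg', hG⟩ := goodQ_of_goodAtQ hxU h'
  haveI := hg; haveI := hg'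
  haveI h1 : IsImmersion (pullback.fst g g') := MorphismProperty.pullback_fst _ _ hg'
  haveI h2 : IsImmersion (pullback.snd g g') := MorphismProperty.pullback_snd _ _ hg
  refine ⟨U, hU, hxU, pullback g g', pullback.fst g g' ≫ g, C ∩ C', inferInstance, hC.inter hC',
    ⟨hxU, hxC, hxC'⟩, ?_, hQ _ _ _ _ h1 hg hF, pullback.condition (f := g) (g := g') ▸ hQ' _ _ _ _ h2 hg' hG⟩
  rintro _ ⟨c, ⟨hc, hc'⟩, rfl⟩
  obtain ⟨t, ht⟩ := hCg ⟨c, hc, rfl⟩
  obtain ⟨t', ht'⟩ := hCg' ⟨c, hc', rfl⟩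
  obtain ⟨z, hz, -⟩ := Scheme.Pullback.exists_preimage_pullback t t' (ht.trans ht'.symm)
  exact ⟨z, (congrArg g hz).trans ht⟩

/-- inverse images -/
theorem GoodAtQ.pull {Y : Scheme.{u}} (f : Y ⟶ X) {R : ∀ T : Scheme.{u}, (T ⟶ Y) → Prop}
    (hR : ∀ (T T' : Scheme.{u}) (g : T ⟶ X) (a : T' ⟶ T) (g' : T' ⟶ Y), a ≫ g = g' ≫ f → IsImmersion g →
      IsImmersion g' → Q T g → R T' g')
    {y : Y} (h : GoodAtQ Q (f y)) : GoodAtQ R y := by
  obtain ⟨V, hV, hfx, T, g, C, hg, hC, ⟨hh, hxC⟩, hCg, hF⟩ := h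
  obtain ⟨D, hD, hxD, hDV⟩ := EtCons.exists_affine_le (V := f ⁻¹ᵁ V) (x := y) hfx
  haveI := hg
  let φ : ↥(D : Set Y) → ↥(V : Set X) := fun d => ⟨f d.1, hDV d.2⟩
  have hφ : Continuous φ := Continuous.subtype_mk (f.continuous.comp continuous_subtype_val) _
  haveI h1 : IsImmersion (pullback.fst f g) := MorphismProperty.pullback_fst _ _ hg
  refine ⟨D, hD, hxD, pullback f g, pullback.fst f g, φ ⁻¹' C, h1, ?_,
    ⟨hxD, hxC⟩, ?_, hR T _ g (pullback.snd f g) _ pullback.condition.symm hg h1 hF⟩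
  · haveI := EtCons.qs_of_affine hV
    haveI := EtCons.compact_of_affine hV
    haveI := EtCons.qs_of_affine hD
    haveI := EtCons.compact_of_affine hD
    refine hC.preimage hφ fun s hso hsr => ?_
    have hs : IsCompact s := hsr.isCompact
    intro K hK hKo
    haveI : IsAffine D.toScheme := hD
    haveI : IsAffine V.toScheme := hV
    have hc : IsCompact ((f.resLE V D hDV) ⁻¹' (s : Set V.toScheme)) :=
      QuasiCompact.isCompact_preimage (f := f.resLE V D hDV) s hso hs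
    have e : ∀ d : D.toScheme, (f.resLE V D hDV) d = φ d := fun d =>
      Subtype.ext (congrArg (fun k => k d) (f.resLE_comp_ι hDV))
    have e' : (f.resLE V D hDV) ⁻¹' (s : Set V.toScheme) = φ ⁻¹' s := Set.ext fun d => by
      show (f.resLE V D hDV) d ∈ (s : Set V.toScheme) ↔ φ d ∈ s
      exact Eq.to_iff (congrArg (fun y : V.toScheme => y ∈ (s : Set V.toScheme)) (e d))
    have hc' : IsCompact (φ ⁻¹' s) := e' ▸ hc
    exact hc'.inter_of_isOpen hK (hso.preimage hφ) hKo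
  · rintro _ ⟨d, hd, rfl⟩
    obtain ⟨t, ht⟩ := hCg ⟨φ d, hd, rfl⟩
    obtain ⟨z, hz, -⟩ := Scheme.Pullback.exists_preimage_pullback (d.1 : Y) t ht.symm
    exact ⟨z, hz⟩

end Groth.Agent.EtTrivGen
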