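import Groth.Agent.EtTrivGen.Serre
import Groth.Agent.EtTrivGen.Strata
import Groth.Agent.RPlusComp.Etale
import Groth.Prelude.Def_SixF1

/-!
Constructible sheaves of modules: pointwise criterion, inverse images, weak Serre subcategory.
-/

set_option autoImplicit false
set_option backward.isDefEq.respectTransparency false
set_option linter.style.haveILetI false
set_option linter.unusedSectionVars false

universe u

open CategoryTheory CategoryTheory.Limits AlgebraicGeometry Opposite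

noncomputable section

namespace Groth.Agent.EtTrivGen

variable {Λ : Type (u + 1)} [CommRing Λ] {X Y : Scheme.{u}}

theorem IsFTLocConst.ofIso {F G : EtModW.Mod Λ X} (i : F ≅ G) (h : EtModW.IsFTLocConst Λ F) :
    EtModW.IsFTLocConst Λ G := by
  obtain ⟨ι, U, hU, hM⟩ := h
  refine ⟨ι, U, hU, fun k => ?_⟩
  obtain ⟨M, _, _, _, ⟨e⟩⟩ := hM k
  exact ⟨M, inferInstance, inferInstance, inferInstance,
    ⟨((X.smallEtaleTopology.overPullback (ModuleCat.{u + 1} Λ) (U k)).mapIso i).symm ≪≫ e⟩⟩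

theorem isFTLocConst_pull (f : X ⟶ Y) {G : EtModW.Mod Λ Y} (hG : EtModW.IsFTLocConst Λ G) :
    EtModW.IsFTLocConst Λ ((EtModW.pull Λ f).obj G) := by
  obtain ⟨ι, U, hU, h⟩ := hG
  refine ⟨ι, fun i => (EtCoh.bc f).obj (U i), covers_bc f hU, fun i => ?_⟩
  obtain ⟨M, _, _, _, ⟨e⟩⟩ := h i
  exact ⟨M, inferInstance, inferInstance, inferInstance, pull_over_iso f G (U i) _ e⟩

/-- the stratum condition -/
def FT (F : EtModW.Mod Λ X) (T : Scheme.{u}) (g : T ⟶ X) : Prop :=
  EtModW.IsFTLocConst Λ ((EtModW.pull Λ g).obj F)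

theorem FT.comp {F : EtModW.Mod Λ X} {T T' : Scheme.{u}} (j : T' ⟶ T) (g : T ⟶ X) (h : FT F T g) :
    FT F T' (j ≫ g) :=
  IsFTLocConst.ofIso ((EtSix.pullModComp Λ j g).app F).symm (isFTLocConst_pull j h)

theorem FT.congr {F : EtModW.Mod Λ X} {T : Scheme.{u}} {g g' : T ⟶ X} (e : g = g') (h : FT F T g) : FT F T g' :=
  e ▸ h

theorem stableQ_FT (F : EtModW.Mod Λ X) : StableQ (FT F) :=
  fun _ _ j g _ _ h => FT.comp j g h

theorem adaptedStrata_iff (F : EtModW.Mod Λ X) (S : Set X) :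
    EtModW.AdaptedStrata Λ F S ↔ AdaptedQ (FT F) S :=
  Iff.rfl

/-- constructibility is pointwise -/
theorem isConstructible_iff_goodAt (F : EtModW.Mod Λ X) :
    EtModW.IsConstructible Λ F ↔ ∀ x, GoodAtQ (FT F) x :=
  forall_adaptedQ_iff (stableQ_FT F)

theorem IsConstructible.ofIso {F G : EtModW.Mod Λ X} (i : F ≅ G) (h : EtModW.IsConstructible Λ F) :
    EtModW.IsConstructible Λ G := by
  rw [isConstructible_iff_goodAt] at h ⊢
  exact fun x => (h x).mono fun T g _ hg => IsFTLocConst.ofIso ((EtModW.pull Λ g).mapIso i) hg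

theorem isConstructible_pull (f : X ⟶ Y) {F : EtModW.Mod Λ Y} (h : EtModW.IsConstructible Λ F) :
    EtModW.IsConstructible Λ ((EtModW.pull Λ f).obj F) := by
  rw [isConstructible_iff_goodAt] at h ⊢
  refine fun x => (h (f x)).pull f fun T T' g a g' e _ _ hg => ?_
  exact IsFTLocConst.ofIso ((EtSix.pullModComp Λ g' f).app F) (FT.congr e (FT.comp a g hg))

theorem isConstructible_of_isFTLocConst {F : EtModW.Mod Λ X} (h : EtModW.IsFTLocConst Λ F) :
    EtModW.IsConstructible Λ F := by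
  rw [isConstructible_iff_goodAt]
  intro x
  obtain ⟨U, hU, hxU, -⟩ := EtCons.exists_affine_le (V := (⊤ : X.Opens)) (x := x) trivial
  exact ⟨U, hU, hxU, U.toScheme, U.ι, Set.univ, inferInstance, .univ, ⟨hxU, trivial⟩,
    fun y ⟨z, _, hz⟩ => ⟨z, hz⟩, isFTLocConst_pull U.ι h⟩

variable [IsNoetherianRing Λ]

theorem isConstructible_kernel_cokernel {F G : EtModW.Mod Λ X} (φ : F ⟶ G) (hF : EtModW.IsConstructible Λ F)
    (hG : EtModW.IsConstructible Λ G) :
    EtModW.IsConstructible Λ (kernel φ) ∧ EtModW.IsConstructible Λ (cokernel φ) := by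
  simp only [isConstructible_iff_goodAt] at hF hG ⊢
  have h : ∀ x, GoodAtQ (fun T g => FT F T g ∧ FT G T g) x := fun x =>
    (hF x).and (stableQ_FT F) (stableQ_FT G) (hG x)
  refine ⟨fun x => (h x).mono fun T g _ hg => ?_, fun x => (h x).mono fun T g _ hg => ?_⟩
  · haveI := RPlusComp.pullMod_preservesFiniteLimits Λ g
    exact IsFTLocConst.ofIso (PreservesKernel.iso (EtModW.pull Λ g) φ).symm (isFTLocConst_kernel _ hg.1 hg.2)
  · haveI : (EtModW.pull Λ g).IsLeftAdjoint := (EtSix.pullPushModAdj Λ g).isLeftAdjoint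
    exact IsFTLocConst.ofIso (PreservesCokernel.iso (EtModW.pull Λ g) φ).symm (isFTLocConst_cokernel _ hg.1 hg.2)

theorem isConstructible_middle {S : ShortComplex (EtModW.Mod Λ X)} (hS : S.ShortExact)
    (h1 : EtModW.IsConstructible Λ S.X₁) (h3 : EtModW.IsConstructible Λ S.X₃) :
    EtModW.IsConstructible Λ S.X₂ := by
  simp only [isConstructible_iff_goodAt] at h1 h3 ⊢
  refine fun x => ((h1 x).and (stableQ_FT S.X₁) (stableQ_FT S.X₃) (h3 x)).mono fun T g _ hg => ?_
  haveI := RPlusComp.pullMod_preservesFiniteLimits Λ g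
  haveI : (EtModW.pull Λ g).IsLeftAdjoint := (EtSix.pullPushModAdj Λ g).isLeftAdjoint
  exact isFTLocConst_of_shortExact (hS.map_of_exact (EtModW.pull Λ g)) hg.1 hg.2

end Groth.Agent.EtTrivGen
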