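import Groth.Agent.EtTrivGen.ConsMod
import Groth.Agent.EtPushStalk.OpenImm
import Groth.Agent.EtCons.Supp

/-!
Local constancy of sheaves of modules is local on the base.
-/

set_option autoImplicit false
set_option backward.isDefEq.respectTransparency false
set_option backward.isDefEq.respectTransparency.types false
set_option linter.style.haveILetI false
set_option linter.unusedSectionVars false

universe u

open CategoryTheory CategoryTheory.Limits AlgebraicGeometry Opposite

noncomputable section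

namespace Groth.Agent.EtTrivGen

variable {Λ : Type (u + 1)} [CommRing Λ] {X U : Scheme.{u}}

/-- transport along isomorphisms -/
theorem IsTrivG.ofIso {F G : EtModW.Mod Λ X} (i : F ≅ G) {W : X.Etale} {M : Type (u + 1)} [AddCommGroup M]
    [Module Λ M] {σ : M →ₗ[Λ] F.obj.obj (op W)} (h : IsTrivG F W (fun m => σ m)) :
    IsTrivG G W (fun m => (ap i.hom W).comp σ m) := by
  rw [isTrivG_iff] at h ⊢
  intro Ω _ _ ξ x
  have hb : Function.Bijective ((EtModW.stalk Λ ξ).map i.hom) :=
    (ConcreteCategory.isIso_iff_bijective _).1 inferInstance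
  refine (congrArg Function.Bijective (funext fun m => ?_)).mp (hb.comp (h Ω ξ x))
  exact map_gm i.hom x (σ m)

section Restr

variable (j : U ⟶ X) [Etale j] [EtShriek.JCont j]

/-- restriction along an etale morphism is the inverse image -/
def restrPullMod : (EtShriek.compEtale j).sheafPushforwardContinuous (ModuleCat.{u + 1} Λ) U.smallEtaleTopology
    X.smallEtaleTopology ≅ EtModW.pull Λ j :=
  Adjunction.leftAdjointUniq
    (((EtPushStalk.compBcAdj j).op.whiskerLeft (ModuleCat.{u + 1} Λ)).restrictFullyFaithful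
      (fullyFaithfulSheafToPresheaf _ _) (fullyFaithfulSheafToPresheaf _ _) (Iso.refl _) (Iso.refl _))
    (EtSix.pullPushModAdj Λ j)

/-- trivialisations descend along an etale morphism -/
theorem exists_triv_compEtale (K : EtModW.Mod Λ X) (W : U.Etale) {M : Type (u + 1)} [AddCommGroup M] [Module Λ M]
    (τ : M →ₗ[Λ] ((EtModW.pull Λ j).obj K).obj.obj (op W)) (hτ : IsTrivG ((EtModW.pull Λ j).obj K) W (fun m => τ m)) :
    ∃ σ : M →ₗ[Λ] K.obj.obj (op ((EtShriek.compEtale j).obj W)),
      IsTrivG K ((EtShriek.compEtale j).obj W) (fun m => σ m) := by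
  let R := ((EtShriek.compEtale j).sheafPushforwardContinuous (ModuleCat.{u + 1} Λ) U.smallEtaleTopology
    X.smallEtaleTopology).obj K
  let σ : M →ₗ[Λ] R.obj.obj (op W) := (ap ((restrPullMod j).app K).inv W).comp τ
  have hσ : IsTrivG R W (fun m => σ m) := hτ.ofIso ((restrPullMod j).app K).symm
  let C := EtShriek.compEtale j
  have key : ∀ {V : X.Etale} (g : V ⟶ C.obj W), ∃ (V' : U.Etale) (g' : V' ⟶ W) (a : C.obj V' ≅ V),
      a.hom ≫ g = C.map g' := by
    intro V g
    haveI : Etale g.left := EtShLib.etale_left g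
    haveI : Etale W.hom := W.prop
    have hw : g.left ≫ W.hom ≫ j = V.hom := MorphismProperty.Over.w g
    refine ⟨Scheme.Etale.mk (g.left ≫ W.hom), MorphismProperty.Over.homMk g.left rfl,
      MorphismProperty.Over.isoMk (Iso.refl _) ?_, ?_⟩
    · exact (Category.id_comp _).trans (hw.symm.trans (Category.assoc _ _ _).symm)
    · exact MorphismProperty.Over.Hom.ext (Category.id_comp _)
  refine ⟨σ, ⟨fun {V} g s v => ?_, fun {V} g m m' hm v => ?_⟩⟩
  · obtain ⟨V', g', a, ha⟩ := key g
    obtain ⟨W', h, m, ⟨w, hw⟩, hm⟩ := hσ.surj g' (K.obj.map a.hom.op s) (a.inv.left v)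
    refine ⟨C.obj W', C.map h ≫ a.hom, m, ⟨w, ?_⟩, ?_⟩
    · change a.hom.left (h.left w) = v
      rw [hw]
      exact congrArg (fun k : V ⟶ V => k.left v) a.inv_hom_id
    · rw [← map_map']
      refine Eq.trans hm ?_
      change K.obj.map (C.map (h ≫ g')).op (σ m) = K.obj.map ((C.map h ≫ a.hom) ≫ g).op (σ m)
      rw [Category.assoc, ha, Functor.map_comp]
  · obtain ⟨V', g', a, ha⟩ := key g
    refine hσ.inj g' m m' ?_ (a.inv.left v)
    change K.obj.map (C.map g').op (σ m) = K.obj.map (C.map g').op (σ m')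
    rw [← ha, ← map_map', ← map_map']
    exact congrArg (K.obj.map a.hom.op) hm

end Restr

/-- local constancy is local on the base -/
theorem isFTLocConst_of_open_cover {K : EtModW.Mod Λ X}
    (h : ∀ x : X, ∃ O : X.Opens, x ∈ O ∧ FT K O.toScheme O.ι) : EtModW.IsFTLocConst Λ K := by
  rw [isFTLocConst_iff]
  intro Ω _ _ ξ
  obtain ⟨O, hxO, hO⟩ := h (ξ (default : Spec (CommRingCat.of Ω)))
  obtain ⟨η, rfl, -⟩ := EtCons.exists_point_lift O.ι ξ ⟨_, hxO⟩ rfl
  obtain ⟨W, y, M, _, _, _, τ, hτ⟩ := (isFTLocConst_iff _).1 hO Ω η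
  obtain ⟨σ, hσ⟩ := exists_triv_compEtale O.ι K W τ hτ
  let y' : Over.mk η ⟶ (Scheme.Etale.forget _).obj W := y
  exact ⟨(EtShriek.compEtale O.ι).obj W,
    (Over.homMk y'.left ((Category.assoc _ _ _).symm.trans (congrArg (· ≫ O.ι) (Over.w y'))) :
      Over.mk (η ≫ O.ι) ⟶ (Scheme.Etale.forget X).obj ((EtShriek.compEtale O.ι).obj W)),
    M, inferInstance, inferInstance, inferInstance, σ, hσ⟩

end Groth.Agent.EtTrivGen
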