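import Groth.Agent.EtTrivGen.Pull
import Groth.Prelude.Def_EtModD2
import Mathlib.CategoryTheory.Sites.Point.Monoidal
import Mathlib.Algebra.Category.ModuleCat.Monoidal.Closed
import Mathlib.Algebra.Category.ModuleCat.Monoidal.Symmetric

/-!
Tensor products of locally constant sheaves of modules.
-/

set_option autoImplicit false
set_option backward.isDefEq.respectTransparency false
set_option linter.style.haveILetI false
set_option linter.unusedSectionVars false

universe w' v' u' u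

open CategoryTheory CategoryTheory.Limits AlgebraicGeometry Opposite MonoidalCategory

noncomputable section

namespace Groth.Agent.EtTrivGen

section

variable {A : Type u'} [Category.{v'} A] [HasColimitsOfSize.{u, u} A]
  {FC : A → A → Type*} {CC : A → Type w'} [∀ (M N : A), FunLike (FC M N) (CC M) (CC N)]
  [ConcreteCategory.{w'} A FC] [PreservesFilteredColimitsOfSize.{u, u} (forget A)]

variable {X : Scheme.{u}}

/-- trivialisations restrict -/
theorem IsTrivG.comap {F : Sheaf X.smallEtaleTopology A} {U U' : X.Etale} {M : Type*}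
    {σ : M → ToType (F.obj.obj (op U))} (h : IsTrivG F U σ) (k : U' ⟶ U) :
    IsTrivG F U' (fun m => F.obj.map k.op (σ m)) where
  surj g s v := by
    obtain ⟨W, l, m, hv, hm⟩ := h.surj (g ≫ k) s v
    exact ⟨W, l, m, hv, by rw [hm, map_map', Category.assoc]⟩
  inj g m m' hm := h.inj (g ≫ k) m m' (by rwa [map_map', map_map'] at hm)

end

variable {Λ : Type (u + 1)} [CommRing Λ] {X : Scheme.{u}}

/-- germs of the tensor of two trivialisations -/
theorem isTrivG_tensor {F G : EtModW.Mod Λ X} {W : X.Etale} {M N : ModuleCat.{u + 1} Λ}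
    {σ : M ⟶ F.obj.obj (op W)} {τ : N ⟶ G.obj.obj (op W)}
    (hσ : IsTrivG F W (fun m : ToType M => σ m)) (hτ : IsTrivG G W (fun n : ToType N => τ n)) :
    IsTrivG (((EtModD.tensorBi Λ X).obj F).obj G) W
      (fun t : ToType (M ⊗ N : ModuleCat.{u + 1} Λ) =>
        ((σ ⊗ₘ τ) ≫ (toSheafify X.smallEtaleTopology (F.obj ⊗ G.obj)).app (op W) :
          M ⊗ N ⟶ ((((EtModD.tensorBi Λ X).obj F).obj G).obj.obj (op W))) t) := by
  rw [isTrivG_iff] at hσ hτ ⊢
  intro Ω _ _ ξ x
  let Φ := Scheme.pointSmallEtale ξ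
  let gF : M ⟶ Φ.presheafFiber.obj F.obj := σ ≫ Φ.toPresheafFiber W x F.obj
  let gG : N ⟶ Φ.presheafFiber.obj G.obj := τ ≫ Φ.toPresheafFiber W x G.obj
  haveI : IsIso gF := (ConcreteCategory.isIso_iff_bijective gF).2 (hσ Ω ξ x)
  haveI : IsIso gG := (ConcreteCategory.isIso_iff_bijective gG).2 (hτ Ω ξ x)
  haveI : IsIso (Φ.presheafFiber.map (toSheafify X.smallEtaleTopology (F.obj ⊗ G.obj))) :=
    Φ.W_isInvertedBy_presheafFiber' _ (X.smallEtaleTopology.W_toSheafify _)
  let tot : M ⊗ N ⟶ _ := (gF ⊗ₘ gG) ≫ Functor.LaxMonoidal.μ Φ.presheafFiber F.obj G.obj ≫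
    Φ.presheafFiber.map (toSheafify X.smallEtaleTopology (F.obj ⊗ G.obj))
  have htot : Function.Bijective tot := (ConcreteCategory.isIso_iff_bijective tot).1 inferInstance
  have key : tot = ((σ ⊗ₘ τ) ≫ (toSheafify X.smallEtaleTopology (F.obj ⊗ G.obj)).app (op W)) ≫
      Φ.toPresheafFiber W x (((EtModD.tensorBi Λ X).obj F).obj G).obj := by
    change ((σ ≫ Φ.toPresheafFiber W x F.obj) ⊗ₘ (τ ≫ Φ.toPresheafFiber W x G.obj)) ≫ _ = _
    rw [← tensorHom_comp_tensorHom, Category.assoc, Category.assoc,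
      GrothendieckTopology.Point.tensorHom_comp_toPresheafFiber_μ_assoc]
    exact congrArg ((σ ⊗ₘ τ) ≫ ·) (GrothendieckTopology.Point.toPresheafFiber_naturality _ _ _ _)
  rw [key] at htot
  exact htot

/-- common refinement of two coverings -/
abbrev inter (U V : X.Etale) : X.Etale :=
  Scheme.Etale.mk (pullback.fst U.hom V.hom ≫ U.hom)

abbrev interFst (U V : X.Etale) : inter U V ⟶ U :=
  MorphismProperty.Over.homMk (pullback.fst U.hom V.hom) rfl

abbrev interSnd (U V : X.Etale) : inter U V ⟶ V :=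
  MorphismProperty.Over.homMk (pullback.snd U.hom V.hom) pullback.condition.symm

theorem isFTLocConst_tensor {F G : EtModW.Mod Λ X} (hF : EtModW.IsFTLocConst Λ F)
    (hG : EtModW.IsFTLocConst Λ G) : EtModW.IsFTLocConst Λ (((EtModD.tensorBi Λ X).obj F).obj G) := by
  obtain ⟨ι, U, hU, h⟩ := hF
  obtain ⟨κ, V, hV, h'⟩ := hG
  refine ⟨ι × κ, fun p => inter (U p.1) (V p.2), fun x => ?_, fun p => ?_⟩
  · obtain ⟨i, y, hy⟩ := hU x
    obtain ⟨j, z, hz⟩ := hV x
    obtain ⟨w, hw, -⟩ := Scheme.Pullback.exists_preimage_pullback (f := (U i).hom) (g := (V j).hom) y z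
      (hy.trans hz.symm)
    refine ⟨(i, j), w, ?_⟩
    change (pullback.fst (U i).hom (V j).hom ≫ (U i).hom).base w = x
    rw [Scheme.Hom.comp_base, TopCat.comp_app]
    exact (congrArg (U i).hom.base hw).trans hy
  · obtain ⟨M, _, _, _, ⟨e⟩⟩ := h p.1
    obtain ⟨N, _, _, _, ⟨e'⟩⟩ := h' p.2
    obtain ⟨σ, hσ⟩ := exists_triv e
    obtain ⟨τ, hτ⟩ := exists_triv e'
    have hσ' : IsTrivG F (inter (U p.1) (V p.2))
        (fun m : ToType (ModuleCat.of Λ M) => (σ ≫ F.obj.map (interFst (U p.1) (V p.2)).op) m) :=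
      hσ.comap (interFst (U p.1) (V p.2))
    have hτ' : IsTrivG G (inter (U p.1) (V p.2))
        (fun n : ToType (ModuleCat.of Λ N) => (τ ≫ G.obj.map (interSnd (U p.1) (V p.2)).op) n) :=
      hτ.comap (interSnd (U p.1) (V p.2))
    exact ⟨TensorProduct Λ M N, inferInstance, inferInstance, inferInstance,
      nonempty_iso (isTrivG_tensor hσ' hτ')⟩

end Groth.Agent.EtTrivGen
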