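import Groth.Agent.EtTrivGen.AdicTriv

/-!
Adic systems of constructible sheaves are lisse near a generic point.
-/

set_option autoImplicit false
set_option backward.isDefEq.respectTransparency false
set_option backward.isDefEq.respectTransparency.types false
set_option linter.style.haveILetI false
set_option linter.unusedSectionVars false
set_option maxHeartbeats 1000000

universe u

open CategoryTheory CategoryTheory.Limits AlgebraicGeometry Opposite

noncomputable section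

namespace Groth.Agent.EtTrivGen

variable {Λ : Type (u + 1)} [CommRing Λ] {X Y : Scheme.{u}}

/-- the unit on sections, linearly -/
abbrev pullSect (f : Y ⟶ X) (F : EtModW.Mod Λ X) (U : X.Etale) :
    (F.obj.obj (op U) : Type (u + 1)) →ₗ[Λ] ((EtModW.pull Λ f).obj F).obj.obj (op ((EtCoh.bc f).obj U)) :=
  ((((EtCoh.bc f).sheafAdjunctionContinuous (ModuleCat.{u + 1} Λ) X.smallEtaleTopology Y.smallEtaleTopology).unit.app
    F).hom.app (op U)).hom

/-- germs of pulled back sections -/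
theorem exists_stalk_equiv (f : Y ⟶ X) (F : EtModW.Mod Λ X) {Ω : Type u} [Field Ω] [IsSepClosed Ω]
    (η : Spec (CommRingCat.of Ω) ⟶ Y) {U : X.Etale} (x : (Scheme.pointSmallEtale (η ≫ f)).fiber.obj U) :
    ∃ (e : ((EtModW.stalk Λ (η ≫ f)).obj F : Type (u + 1)) ≃ₗ[Λ] (EtModW.stalk Λ η).obj ((EtModW.pull Λ f).obj F))
      (x' : (Scheme.pointSmallEtale η).fiber.obj ((EtCoh.bc f).obj U)),
      x' = (EtStalk.fiberIso f η).inv.app U x ∧
      ∀ s, e (gm F x s) = gm ((EtModW.pull Λ f).obj F) x' (pullSect f F U s) := by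
  let Ψ := Scheme.pointSmallEtale (η ≫ f)
  let Φ := Scheme.pointSmallEtale η
  let α := EtStalk.fiberIso f η
  let e := ((EtStalk.sheafFiberPullbackIso (EtCoh.bc f) Ψ Φ α (ModuleCat.{u + 1} Λ)).app F).toLinearEquiv
  refine ⟨e, α.inv.app U x, rfl, fun s => ?_⟩
  have h0 := ConcreteCategory.congr_hom
    (EtShLib.toPresheafFiber_sheafFiberPullbackIso (EtCoh.bc f) Ψ Φ α (A := ModuleCat.{u + 1} Λ) F U x) s
  rw [ConcreteCategory.comp_apply, ConcreteCategory.comp_apply] at h0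
  exact h0

theorem fiberIso_inv_fst (f : Y ⟶ X) {Ω : Type u} [Field Ω] [IsSepClosed Ω] (η : Spec (CommRingCat.of Ω) ⟶ Y)
    {U : X.Etale} (x : Over.mk (η ≫ f) ⟶ (Scheme.Etale.forget X).obj U) :
    ((EtStalk.fiberIso f η).inv.app U x : Over.mk η ⟶ (Scheme.Etale.forget Y).obj ((EtCoh.bc f).obj U)).left ≫
      pullback.fst U.hom f = x.left := by
  have h : (EtStalk.fiberIso f η).hom.app U ((EtStalk.fiberIso f η).inv.app U x) = x := by
    rw [← ConcreteCategory.comp_apply, Iso.inv_hom_id_app]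
    rfl
  exact congrArg (fun k : Over.mk (η ≫ f) ⟶ (Scheme.Etale.forget X).obj U => k.left) h

variable [IsNoetherianRing Λ] [IsLocallyNoetherian X]

/-- finitely many sections generating all stalks near a generic point -/
theorem exists_gen_sections {t : X} (ht : ∀ z : X, t ⤳ z) {F : EtModW.Mod Λ X} (hF : EtModW.IsConstructible Λ F)
    {Ω : Type u} [Field Ω] [IsSepClosed Ω] (ξ : Spec (CommRingCat.of Ω) ⟶ X)
    (hξ : ξ (default : Spec (CommRingCat.of Ω)) = t) :
    ∃ (U : X.Etale) (_ : (Scheme.pointSmallEtale ξ).fiber.obj U) (m : ℕ) (s : Fin m → F.obj.obj (op U)),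
      ∀ (Ω' : Type u) [Field Ω'] [IsSepClosed Ω'] (η : Spec (CommRingCat.of Ω') ⟶ X)
        (x : (Scheme.pointSmallEtale η).fiber.obj U),
        Submodule.span Λ (Set.range fun k => gm F x (s k)) = ⊤ := by
  obtain ⟨T, g, hg, -, t₁, ht₁, -, hft⟩ := exists_generic_stratum hF t
  haveI := hg
  have hopen : IsOpen (Set.range g) := by
    obtain ⟨O, Z, hO, hZ, e⟩ := g.isLocallyClosed_range
    have htZ : t ∈ Z := (e ▸ (⟨t₁, ht₁⟩ : t ∈ Set.range g) : t ∈ O ∩ Z).2
    have hZu : Z = Set.univ := Set.eq_univ_of_forall fun z => (ht z).mem_closed hZ htZ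
    rw [e, hZu, Set.inter_univ]
    exact hO
  obtain ⟨ξ₁, rfl, hξ₁⟩ := EtCons.exists_point_lift g ξ t₁ (hξ.trans ht₁.symm)
  haveI := finite_stalk hF (ξ₁ ≫ g)
  obtain ⟨m, b, hb⟩ := Module.Finite.exists_fin (R := Λ) (M := (EtModW.stalk Λ (ξ₁ ≫ g)).obj F)
  obtain ⟨U₀, y₀, s, hs⟩ : ∃ (U : X.Etale) (y : (Scheme.pointSmallEtale (ξ₁ ≫ g)).fiber.obj U)
      (s : Fin m → F.obj.obj (op U)), ∀ k, gm F y (s k) = b k := by
    classical
    choose U y s hs using fun k => exists_gm F (b k)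
    let E := fun k => Functor.elementsMk (Scheme.pointSmallEtale (ξ₁ ≫ g)).fiber (U k) (y k)
    obtain ⟨W, hW⟩ := IsCofiltered.inf_objs_exists (Finset.univ.image E)
    choose π hπ using fun k : Fin m => (⟨(hW (Finset.mem_image_of_mem E (Finset.mem_univ k))).some, trivial⟩ :
      ∃ _ : W ⟶ E k, True)
    refine ⟨W.1, W.2, fun k => rs F (π k).1 (s k), fun k => ?_⟩
    rw [gm_rs, (π k).2]
    exact hs k
  obtain ⟨W₀, w₀, M, _, _, _, σ₀, hσ₀⟩ := (isFTLocConst_iff _).1 hft Ω ξ₁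
  obtain ⟨e₀, y₀', hy₀', he₀⟩ := exists_stalk_equiv g F ξ₁ y₀
  obtain ⟨W₁, a, c, w₁, hw₀, hw₁⟩ := exists_common w₀ y₀'
  let F' := (EtModW.pull Λ g).obj F
  let s' : Fin m → F'.obj.obj (op ((EtCoh.bc g).obj U₀)) := fun k => pullSect g F U₀ (s k)
  have hgen₀ : Submodule.span Λ (Set.range fun k => gm F' y₀' (s' k)) = ⊤ := by
    have : (fun k => gm F' y₀' (s' k)) = fun k => e₀ (b k) := funext fun k => by rw [← hs k, he₀]
    rw [this, show (fun k => e₀ (b k)) = e₀ ∘ b from rfl, Set.range_comp,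
      ← LinearEquiv.coe_coe, ← Submodule.map_span, hb, Submodule.map_top, LinearEquiv.range]
  obtain ⟨t₂, ht₂⟩ := Module.Finite.fg_top (R := Λ) (M := M)
  obtain ⟨W, l, w, hw, hP⟩ := exists_refine t₂ w₁
    (fun n W l => ∃ d : Fin m → Λ, rs F' (l ≫ a) (σ₀ n) = ∑ k, d k • rs F' (l ≫ c) (s' k))
    (fun n W l ⟨d, hd⟩ Z k => ⟨d, by
      rw [Category.assoc, ← rs_rs, hd, map_sum]
      refine Finset.sum_congr rfl fun i _ => ?_
      rw [map_smul, rs_rs, Category.assoc]⟩)
    (fun n _ W l w hw => by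
      have hmem : gm F' w₀ (σ₀ n) ∈ Submodule.span Λ (Set.range fun k => gm F' y₀' (s' k)) := by
        rw [hgen₀]; trivial
      obtain ⟨d, hd⟩ := (Submodule.mem_span_range_iff_exists_fun Λ).1 hmem
      have h1 : gm F' w (rs F' (l ≫ a) (σ₀ n)) = gm F' w (∑ k, d k • rs F' (l ≫ c) (s' k)) := by
        rw [map_sum, gm_rs, Functor.map_comp, ConcreteCategory.comp_apply, hw, hw₀, ← hd]
        refine Finset.sum_congr rfl fun i _ => ?_
        rw [map_smul, gm_rs, Functor.map_comp, ConcreteCategory.comp_apply, hw, hw₁]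
      obtain ⟨Z, k, z, hz, hk⟩ := ((Scheme.pointSmallEtale ξ₁).toPresheafFiber_eq_iff' _ _ _ _).mp h1
      refine ⟨Z, k, z, hz, d, ?_⟩
      rw [Category.assoc, ← rs_rs]
      refine Eq.trans hk ?_
      change rs F' k (∑ i, d i • rs F' (l ≫ c) (s' i)) = _
      rw [map_sum]
      refine Finset.sum_congr rfl fun i _ => ?_
      rw [map_smul, rs_rs, Category.assoc])
  -- the image of `W` is open in `U₀`
  haveI : Etale (l ≫ c).left := EtShLib.etale_left _
  let p : ((EtCoh.bc g).obj U₀).left ⟶ U₀.left := pullback.fst U₀.hom g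
  haveI hp : IsImmersion p := MorphismProperty.pullback_fst (P := @IsImmersion) _ _ hg
  let Ug : U₀.left.Opens := ⟨U₀.hom ⁻¹' Set.range g, hopen.preimage U₀.hom.continuous⟩
  have hpr : Set.range p = (Ug : Set U₀.left) := Scheme.Pullback.range_fst U₀.hom g
  have hpo : IsOpenMap p :=
    (Topology.IsOpenEmbedding.mk p.isEmbedding (hpr ▸ Ug.isOpen)).isOpenMap
  let S : U₀.left.Opens := ⟨p '' Set.range (l ≫ c).left,
    hpo _ (Scheme.Hom.isOpenMap (l ≫ c).left).isOpen_range⟩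
  let V : X.Etale := haveI : Etale U₀.hom := U₀.prop; Scheme.Etale.mk (S.ι ≫ U₀.hom)
  let i : V ⟶ U₀ := MorphismProperty.Over.homMk S.ι rfl
  let y₁ : Over.mk (ξ₁ ≫ g) ⟶ (Scheme.Etale.forget X).obj U₀ := y₀
  let w' : Over.mk ξ₁ ⟶ (Scheme.Etale.forget T).obj W := w
  have hy₁ : y₁.left (default : Spec (CommRingCat.of Ω)) ∈ Set.range i.left := by
    have hq := fiberIso_inv_fst g ξ₁ y₁
    have hyS : y₁.left (default : Spec (CommRingCat.of Ω)) ∈ (S : Set U₀.left) := by
      refine ⟨(l ≫ c).left (w'.left (default : Spec (CommRingCat.of Ω))), ⟨_, rfl⟩, ?_⟩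
      have hwc : (Scheme.pointSmallEtale ξ₁).fiber.map (l ≫ c) w = y₀' := by
        rw [Functor.map_comp, ConcreteCategory.comp_apply, hw, hw₁]
      let wc : Over.mk ξ₁ ⟶ (Scheme.Etale.forget T).obj ((EtCoh.bc g).obj U₀) := y₀'
      have h2 : (l ≫ c).left (w'.left (default : Spec (CommRingCat.of Ω))) =
          wc.left (default : Spec (CommRingCat.of Ω)) := by
        simp only [wc]
        rw [← hwc]
        rfl
      rw [h2, ← hq]
      subst hy₀'
      rfl
    exact ⟨⟨_, hyS⟩, rfl⟩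
  obtain ⟨v, hv⟩ := exists_point_lift i y₁ hy₁
  refine ⟨V, v, m, fun k => rs F i (s k), fun Ω' _ _ η x => ?_⟩
  let x₀ : Over.mk η ⟶ (Scheme.Etale.forget X).obj U₀ := (Scheme.pointSmallEtale η).fiber.map i x
  let xv : Over.mk η ⟶ (Scheme.Etale.forget X).obj V := x
  obtain ⟨q, ⟨w₃, hw₃⟩, hq⟩ := (xv.left (default : Spec (CommRingCat.of Ω'))).2
  have hq' : p q = x₀.left (default : Spec (CommRingCat.of Ω')) := hq
  have hηr : η (default : Spec (CommRingCat.of Ω')) ∈ Set.range g := by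
    have h1 : U₀.hom (x₀.left (default : Spec (CommRingCat.of Ω'))) = η (default : Spec (CommRingCat.of Ω')) :=
      congrArg (fun k : Spec (CommRingCat.of Ω') ⟶ X => k default) (Over.w x₀)
    rw [← h1, ← hq']
    exact (hpr ▸ Set.mem_range_self q : p q ∈ (Ug : Set U₀.left))
  obtain ⟨t₃, ht₃⟩ := hηr
  obtain ⟨η₁, rfl, -⟩ := EtCons.exists_point_lift g η t₃ ht₃.symm
  obtain ⟨e, x', hx', he⟩ := exists_stalk_equiv g F η₁ ((Scheme.pointSmallEtale (η₁ ≫ g)).fiber.map i x)
  let x₁ : Over.mk η₁ ⟶ (Scheme.Etale.forget T).obj ((EtCoh.bc g).obj U₀) := x'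
  have hx₁ : x₁.left (default : Spec (CommRingCat.of Ω')) = q := by
    refine p.isEmbedding.injective ?_
    rw [hq', ← fiberIso_inv_fst g η₁ x₀]
    subst hx'
    rfl
  obtain ⟨x₃, hx₃⟩ := exists_point_lift (l ≫ c) x₁ ⟨w₃, hw₃.trans hx₁.symm⟩
  have hspan : Submodule.span Λ (Set.range fun k => gm F' x' (s' k)) = ⊤ := by
    have hl : ∀ n : M, gm F' x₃ (rs F' (l ≫ a) (σ₀ n)) ∈ Submodule.span Λ (Set.range fun k => gm F' x' (s' k)) := by
      intro n
      let S' : Submodule Λ M := (Submodule.span Λ (Set.range fun k => gm F' x' (s' k))).comap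
        ((gm F' x₃).comp ((rs F' (l ≫ a)).comp σ₀))
      have hle : (⊤ : Submodule Λ M) ≤ S' := ht₂ ▸ Submodule.span_le.2 fun n hn => by
        obtain ⟨d, hd⟩ := hP n hn
        refine Submodule.mem_comap.2 ?_
        simp only [LinearMap.comp_apply]
        rw [hd, map_sum]
        refine Submodule.sum_mem _ fun k _ => ?_
        rw [map_smul, gm_rs, hx₃]
        exact Submodule.smul_mem _ _ (Submodule.subset_span ⟨k, rfl⟩)
      exact hle trivial
    refine eq_top_iff.2 fun z _ => ?_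
    obtain ⟨n, rfl⟩ := ((hσ₀.rsComap (l ≫ a)).bij x₃).2 z
    exact hl n
  refine eq_top_iff.2 fun z _ => ?_
  have hz : e z ∈ Submodule.map (e : _ →ₗ[Λ] _) (Submodule.span Λ (Set.range fun k => gm F x (rs F i (s k)))) := by
    rw [Submodule.map_span, ← Set.range_comp]
    have : ((e : _ →ₗ[Λ] _) ∘ fun k => gm F x (rs F i (s k))) = fun k => gm F' x' (s' k) := funext fun k => by
      rw [Function.comp_apply, gm_rs]
      exact he (s k)
    rw [LinearEquiv.coe_coe] at this ⊢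
    rw [this, hspan]
    trivial
  obtain ⟨z', hz', hze⟩ := hz
  exact e.injective hze ▸ hz'

end Groth.Agent.EtTrivGen
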