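import Groth.Agent.EtTrivGen.Basic
import Groth.Agent.EtStalk.Conservative

/-!
Constant sheaves: germs, and a criterion for a subsheaf between two constant sheaves to be constant.
-/

set_option autoImplicit false
set_option backward.isDefEq.respectTransparency false
set_option linter.style.haveILetI false
set_option linter.unusedSectionVars false

universe w' v' u' u

open CategoryTheory CategoryTheory.Limits AlgebraicGeometry Opposite

noncomputable section

namespace Groth.Agent.EtTrivGen

variable {A : Type u'} [Category.{v'} A] [HasColimitsOfSize.{u, u} A]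
  {FC : A → A → Type*} {CC : A → Type w'} [∀ (M N : A), FunLike (FC M N) (CC M) (CC N)]
  [ConcreteCategory.{w'} A FC] [PreservesFilteredColimitsOfSize.{u, u} (forget A)]

variable {X : Scheme.{u}} [(forget A).ReflectsIsomorphisms] [X.smallEtaleTopology.HasSheafCompose (forget A)]
  [HasSheafify X.smallEtaleTopology A] [X.smallEtaleTopology.WEqualsLocallyBijective A]

/-- the section of a constant sheaf given by a value -/
def cst (M : A) (U : X.Etale) :
    M ⟶ ((constantSheaf X.smallEtaleTopology A).obj M).obj.obj (op U) :=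
  (toSheafify X.smallEtaleTopology ((Functor.const X.Etaleᵒᵖ).obj M)).app (op U)

theorem map_cst {M N : A} (i : M ⟶ N) (U : X.Etale) :
    cst M U ≫ (((constantSheaf X.smallEtaleTopology A).map i).hom.app (op U)) = i ≫ cst N U :=
  congrArg (fun t => t.app (op U))
    (toSheafify_naturality X.smallEtaleTopology ((Functor.const X.Etaleᵒᵖ).map i)).symm

theorem cst_res (M : A) {U V : X.Etale} (g : V ⟶ U) (m : ToType M) :
    ((constantSheaf X.smallEtaleTopology A).obj M).obj.map g.op (cst M U m) = cst M V m := by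
  have h := ConcreteCategory.congr_hom
    ((toSheafify X.smallEtaleTopology ((Functor.const X.Etaleᵒᵖ).obj M)).naturality g.op) m
  rw [ConcreteCategory.comp_apply, ConcreteCategory.comp_apply] at h
  refine h.symm.trans ?_
  change cst M V ((𝟙 M : M ⟶ M) m) = _
  rw [ConcreteCategory.id_apply]

/-- germs of constants are bijective -/
theorem bijective_germ_cst (M : A) {Ω : Type u} [Field Ω] [IsSepClosed Ω] (ξ : Spec (CommRingCat.of Ω) ⟶ X)
    {U : X.Etale} (x : (Scheme.pointSmallEtale ξ).fiber.obj U) :
    Function.Bijective (fun m : ToType M =>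
      (Scheme.pointSmallEtale ξ).toPresheafFiber U x ((constantSheaf X.smallEtaleTopology A).obj M).obj (cst M U m)) := by
  let Φ := Scheme.pointSmallEtale ξ
  let P : X.Etaleᵒᵖ ⥤ A := (Functor.const X.Etaleᵒᵖ).obj M
  haveI : Presheaf.IsLocallyInjective X.smallEtaleTopology (toSheafify X.smallEtaleTopology P) :=
    ((X.smallEtaleTopology.W_iff_isLocallyBijective _).1 (X.smallEtaleTopology.W_toSheafify P)).1
  haveI : Presheaf.IsLocallySurjective X.smallEtaleTopology (toSheafify X.smallEtaleTopology P) :=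
    ((X.smallEtaleTopology.W_iff_isLocallyBijective _).1 (X.smallEtaleTopology.W_toSheafify P)).2
  have hb := Φ.toPresheafFiber_map_bijective (toSheafify X.smallEtaleTopology P)
  have key : ∀ m : ToType M, Φ.presheafFiber.map (toSheafify X.smallEtaleTopology P) (Φ.toPresheafFiber U x P m) =
      Φ.toPresheafFiber U x ((constantSheaf X.smallEtaleTopology A).obj M).obj (cst M U m) := fun m =>
    (ConcreteCategory.comp_apply _ _ m).symm.trans ((ConcreteCategory.congr_hom
      (Φ.toPresheafFiber_naturality (toSheafify X.smallEtaleTopology P) U x) m).trans (ConcreteCategory.comp_apply _ _ m))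
  have hP : Function.Bijective (fun m : ToType M => Φ.toPresheafFiber U x P m) := by
    refine ⟨fun m m' h => ?_, fun z => ?_⟩
    · obtain ⟨W, g, y, -, hg⟩ := (Φ.toPresheafFiber_eq_iff' _ _ _ _).mp h
      have hg' : (𝟙 M : M ⟶ M) m = (𝟙 M : M ⟶ M) m' := hg
      rwa [ConcreteCategory.id_apply, ConcreteCategory.id_apply] at hg'
    · obtain ⟨V, v, s, rfl⟩ := Φ.toPresheafFiber_jointly_surjective (P := P) z
      obtain ⟨W, a, b, -⟩ := IsCofilteredOrEmpty.cone_objs
        (Functor.elementsMk Φ.fiber V v) (Functor.elementsMk Φ.fiber U x)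
      refine ⟨s, ?_⟩
      have ha : Φ.toPresheafFiber W.1 W.2 P (P.map a.1.op s) = Φ.toPresheafFiber V v P s := by
        rw [GrothendieckTopology.Point.toPresheafFiber_w_apply]
        exact congrArg (fun t => Φ.toPresheafFiber V t P s) a.2
      have hb : Φ.toPresheafFiber W.1 W.2 P (P.map b.1.op s) = Φ.toPresheafFiber U x P s := by
        rw [GrothendieckTopology.Point.toPresheafFiber_w_apply]
        exact congrArg (fun t => Φ.toPresheafFiber U t P s) b.2
      exact hb.symm.trans ha
  refine (congrArg Function.Bijective (funext fun m => ?_)).mp (hb.comp hP)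
  exact key m

/-- a subsheaf of a constant sheaf containing a constant subsheaf and equal to it at the generic point is constant -/
theorem isIso_of_sandwich [IrreducibleSpace X] {Ω₀ : Type u} [Field Ω₀] [IsSepClosed Ω₀]
    (ξ₀ : Spec (CommRingCat.of Ω₀) ⟶ X) (hξ₀ : ξ₀.base default = genericPoint X)
    {M' M : A} (i : M' ⟶ M) (G : Sheaf X.smallEtaleTopology A)
    (a : (constantSheaf X.smallEtaleTopology A).obj M' ⟶ G) (b : G ⟶ (constantSheaf X.smallEtaleTopology A).obj M)
    (hab : a ≫ b = (constantSheaf X.smallEtaleTopology A).map i)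
    (ha : ∀ (Ω : Type u) [Field Ω] [IsSepClosed Ω] (ξ : Spec (CommRingCat.of Ω) ⟶ X),
      Function.Injective ((Scheme.pointSmallEtale ξ).presheafFiber.map a.hom))
    (hb : ∀ (Ω : Type u) [Field Ω] [IsSepClosed Ω] (ξ : Spec (CommRingCat.of Ω) ⟶ X),
      Function.Injective ((Scheme.pointSmallEtale ξ).presheafFiber.map b.hom))
    (hst : Function.Surjective ((Scheme.pointSmallEtale ξ₀).presheafFiber.map a.hom)) : IsIso a := by
  let C := fun N : A => (constantSheaf X.smallEtaleTopology A).obj N
  have gb : ∀ {Ω : Type u} [Field Ω] [IsSepClosed Ω] (ξ : Spec (CommRingCat.of Ω) ⟶ X) (V : X.Etale)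
      (v : (Scheme.pointSmallEtale ξ).fiber.obj V) (m' : ToType M'),
      (Scheme.pointSmallEtale ξ).presheafFiber.map b.hom ((Scheme.pointSmallEtale ξ).presheafFiber.map a.hom
        ((Scheme.pointSmallEtale ξ).toPresheafFiber V v (C M').obj (cst M' V m'))) =
        (Scheme.pointSmallEtale ξ).toPresheafFiber V v (C M).obj (cst M V (i m')) := by
    intro Ω _ _ ξ V v m'
    rw [← ConcreteCategory.comp_apply, ← Functor.map_comp]
    have h1 : a.hom ≫ b.hom = ((constantSheaf X.smallEtaleTopology A).map i).hom := congrArg (fun t => t.hom) hab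
    rw [h1, ← ConcreteCategory.comp_apply, GrothendieckTopology.Point.toPresheafFiber_naturality,
      ConcreteCategory.comp_apply, ← ConcreteCategory.comp_apply (cst M' V), map_cst, ConcreteCategory.comp_apply]
  refine Sheaf.isLocallyBijective_iff_isIso _ |>.1
    ⟨EtStalk.isLocallyInjective_of_stalk _ ha, EtStalk.isLocallySurjective_of_stalk _ fun Ω _ _ ξ z => ?_⟩
  let Φ := Scheme.pointSmallEtale ξ
  obtain ⟨V, v, s, rfl⟩ := Φ.toPresheafFiber_jointly_surjective (P := G.obj) z
  obtain ⟨m, hm⟩ := (bijective_germ_cst M ξ v).2 (Φ.presheafFiber.map b.hom (Φ.toPresheafFiber V v G.obj s))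
  have hm' : Φ.toPresheafFiber V v (C M).obj (cst M V m) = Φ.toPresheafFiber V v (C M).obj (b.hom.app (op V) s) :=
    hm.trans ((ConcreteCategory.comp_apply _ _ s).symm.trans ((ConcreteCategory.congr_hom
      (Φ.toPresheafFiber_naturality b.hom V v) s).trans (ConcreteCategory.comp_apply _ _ s)))
  obtain ⟨W, k, w, hw, hk⟩ := (Φ.toPresheafFiber_eq_iff' _ _ _ _).mp hm'
  rw [cst_res] at hk
  let w' : Over.mk ξ ⟶ (Scheme.Etale.forget X).obj W := w
  haveI : Etale W.hom := W.prop
  have hmem : genericPoint X ∈ Set.range W.hom.base :=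
    ((genericPoint_spec X).mem_open_set_iff W.hom.isOpenMap.isOpen_range).2
      ⟨W.hom.base (w'.left (default : Spec (CommRingCat.of Ω))), trivial, _, rfl⟩
  obtain ⟨w₀, -⟩ := Scheme.pointSmallEtaleFiberObjToPreimage_surjective ξ₀ (s₀ := genericPoint X) hξ₀ W
    ⟨hmem.choose, hmem.choose_spec⟩
  let Φ₀ := Scheme.pointSmallEtale ξ₀
  obtain ⟨z₀, hz₀⟩ := hst (Φ₀.toPresheafFiber W w₀ G.obj (G.obj.map k.op s))
  obtain ⟨m', rfl⟩ := (bijective_germ_cst M' ξ₀ w₀).2 z₀
  have him : i m' = m := by
    refine (bijective_germ_cst M ξ₀ w₀).1 ?_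
    change Φ₀.toPresheafFiber W w₀ (C M).obj (cst M W (i m')) = Φ₀.toPresheafFiber W w₀ (C M).obj (cst M W m)
    rw [← gb ξ₀ W w₀ m']
    refine (congrArg (Φ₀.presheafFiber.map b.hom) hz₀).trans ?_
    rw [← ConcreteCategory.comp_apply, Φ₀.toPresheafFiber_naturality, ConcreteCategory.comp_apply]
    refine congrArg _ ?_
    rw [hk, ← ConcreteCategory.comp_apply, b.hom.naturality, ConcreteCategory.comp_apply]
  refine ⟨Φ.toPresheafFiber V v (C M').obj (cst M' V m'), hb Ω ξ ?_⟩
  rw [gb ξ V v m', him]
  exact hm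

end Groth.Agent.EtTrivGen
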