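import Groth.Agent.EtTrivGen.Germ

/-!
Stalks of sheaves of modules are exact.
-/

set_option autoImplicit false
set_option backward.isDefEq.respectTransparency false
set_option linter.style.haveILetI false

universe u

open CategoryTheory CategoryTheory.Limits AlgebraicGeometry Opposite

noncomputable section

namespace Groth.Agent.EtTrivGen

variable {Λ : Type (u + 1)} [CommRing Λ] {X : Scheme.{u}}

instance ab5Mod : AB5OfSize.{u, u} (ModuleCat.{u + 1} Λ) := AB5OfSize_of_univLE.{u, u, u + 1, u + 1} _

variable {Ω : Type u} [Field Ω] [IsSepClosed Ω] (ξ : Spec (CommRingCat.of Ω) ⟶ X)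

instance : PreservesFiniteLimits (EtModW.stalk Λ ξ) := inferInstance

instance : (EtModW.stalk Λ ξ).IsLeftAdjoint :=
  (Scheme.pointSmallEtale ξ).skyscraperSheafAdjunction.isLeftAdjoint

instance : (EtModW.stalk Λ ξ).PreservesZeroMorphisms := inferInstance

theorem stalk_exact {S : ShortComplex (EtModW.Mod Λ X)} (hS : S.Exact) (z : (EtModW.stalk Λ ξ).obj S.X₂)
    (hz : (EtModW.stalk Λ ξ).map S.g z = 0) : ∃ w, (EtModW.stalk Λ ξ).map S.f w = z := by
  haveI : PreservesFiniteColimits (EtModW.stalk Λ ξ) := inferInstance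
  have h := hS.map (EtModW.stalk Λ ξ)
  exact (ShortComplex.moduleCat_exact_iff _).1 h z hz

theorem stalk_injective {F G : EtModW.Mod Λ X} (φ : F ⟶ G) [Mono φ] :
    Function.Injective ((EtModW.stalk Λ ξ).map φ) :=
  (ModuleCat.mono_iff_injective _).1 inferInstance

theorem stalk_surjective {F G : EtModW.Mod Λ X} (φ : F ⟶ G) [Epi φ] :
    Function.Surjective ((EtModW.stalk Λ ξ).map φ) :=
  (ModuleCat.epi_iff_surjective _).1 inferInstance

theorem ap_injective {F G : EtModW.Mod Λ X} (φ : F ⟶ G) [Mono φ] (V : X.Etale) :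
    Function.Injective (ap φ V) := by
  haveI : Mono φ.hom := inferInstanceAs (Mono ((sheafToPresheaf _ _).map φ))
  exact (ModuleCat.mono_iff_injective (φ.hom.app (op V))).1 inferInstance

end Groth.Agent.EtTrivGen
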