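import Groth.Agent.EtTrivGen.Tensor
import Groth.Agent.EtTrivGen.Exact
import Groth.Agent.EtStalk.Conservative

/-!
Inverse images of etale sheaves of modules commute with tensor products.
-/

set_option autoImplicit false
set_option backward.isDefEq.respectTransparency false
set_option linter.style.haveILetI false
set_option linter.unusedSectionVars false

universe u

open CategoryTheory CategoryTheory.Limits AlgebraicGeometry Opposite MonoidalCategory

noncomputable section

namespace Groth.Agent.EtTrivGen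

variable {Λ : Type (u + 1)} [CommRing Λ] {X Y : Scheme.{u}} (f : X ⟶ Y) (F G : EtModW.Mod Λ Y)

/-- the adjunction of inverse and direct images -/
abbrev adjM : EtModW.pull Λ f ⊣ EtModW.push Λ f :=
  (EtCoh.bc f).sheafAdjunctionContinuous (ModuleCat.{u + 1} Λ) Y.smallEtaleTopology X.smallEtaleTopology

/-- tensor of the units, sheafified -/
def preDelta : F.obj ⊗ G.obj ⟶
    (EtCoh.bc f).op ⋙ (((EtModD.tensorBi Λ X).obj ((EtModW.pull Λ f).obj F)).obj ((EtModW.pull Λ f).obj G)).obj where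
  app V := (((adjM (Λ := Λ) f).unit.app F).hom.app V ⊗ₘ ((adjM (Λ := Λ) f).unit.app G).hom.app V) ≫
    (toSheafify X.smallEtaleTopology (((EtModW.pull Λ f).obj F).obj ⊗ ((EtModW.pull Λ f).obj G).obj)).app
      ((EtCoh.bc f).op.obj V)
  naturality V W k := by
    change (F.obj.map k ⊗ₘ G.obj.map k) ≫ _ = _
    rw [← Category.assoc, tensorHom_comp_tensorHom, NatTrans.naturality, NatTrans.naturality,
      ← tensorHom_comp_tensorHom, Category.assoc, Category.assoc]
    exact congrArg ((((adjM (Λ := Λ) f).unit.app F).hom.app V ⊗ₘ ((adjM (Λ := Λ) f).unit.app G).hom.app V) ≫ ·)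
      ((toSheafify X.smallEtaleTopology (((EtModW.pull Λ f).obj F).obj ⊗ ((EtModW.pull Λ f).obj G).obj)).naturality
        ((EtCoh.bc f).op.map k))

/-- to the direct image of the tensor -/
def beta : ((EtModD.tensorBi Λ Y).obj F).obj G ⟶ (EtModW.push Λ f).obj
    (((EtModD.tensorBi Λ X).obj ((EtModW.pull Λ f).obj F)).obj ((EtModW.pull Λ f).obj G)) :=
  ((sheafificationAdjunction Y.smallEtaleTopology (ModuleCat.{u + 1} Λ)).homEquiv _ _).symm (preDelta f F G)

theorem toSheafify_beta : toSheafify Y.smallEtaleTopology (F.obj ⊗ G.obj) ≫ (beta f F G).hom = preDelta f F G := by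
  have h := ((sheafificationAdjunction Y.smallEtaleTopology (ModuleCat.{u + 1} Λ)).homEquiv (F.obj ⊗ G.obj)
    ((EtModW.push Λ f).obj (((EtModD.tensorBi Λ X).obj ((EtModW.pull Λ f).obj F)).obj
      ((EtModW.pull Λ f).obj G)))).apply_symm_apply (preDelta f F G)
  rw [Adjunction.homEquiv_unit] at h
  exact h

/-- the comparison map -/
def delta : (EtModW.pull Λ f).obj (((EtModD.tensorBi Λ Y).obj F).obj G) ⟶
    ((EtModD.tensorBi Λ X).obj ((EtModW.pull Λ f).obj F)).obj ((EtModW.pull Λ f).obj G) :=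
  ((adjM (Λ := Λ) f).homEquiv _ _).symm (beta f F G)

theorem unit_delta : ((adjM (Λ := Λ) f).unit.app (((EtModD.tensorBi Λ Y).obj F).obj G)) ≫ (EtModW.push Λ f).map (delta f F G) =
    beta f F G := by
  have h := ((adjM (Λ := Λ) f).homEquiv _ _).apply_symm_apply (beta f F G)
  rw [Adjunction.homEquiv_unit] at h
  exact h

theorem isIso_delta : IsIso (delta f F G) := by
  suffices h : ∀ (Ω : Type u) [Field Ω] [IsSepClosed Ω] (ξ : Spec (CommRingCat.of Ω) ⟶ X),
      IsIso ((Scheme.pointSmallEtale ξ).presheafFiber.map (delta f F G).hom) by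
    refine Sheaf.isLocallyBijective_iff_isIso _ |>.1
      ⟨EtStalk.isLocallyInjective_of_stalk _ fun Ω _ _ ξ => ((ConcreteCategory.isIso_iff_bijective _).1 (h Ω ξ)).1,
        EtStalk.isLocallySurjective_of_stalk _ fun Ω _ _ ξ => ((ConcreteCategory.isIso_iff_bijective _).1 (h Ω ξ)).2⟩
  intro Ω _ _ ξ
  let Ψ := Scheme.pointSmallEtale (ξ ≫ f)
  let Φ := Scheme.pointSmallEtale ξ
  let α := EtStalk.fiberIso f ξ
  let ι := EtStalk.sheafFiberPullbackIso (EtCoh.bc f) Ψ Φ α (ModuleCat.{u + 1} Λ)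
  let P := F.obj ⊗ G.obj
  let P' := ((EtModW.pull Λ f).obj F).obj ⊗ ((EtModW.pull Λ f).obj G).obj
  haveI : IsIso (Ψ.presheafFiber.map (toSheafify Y.smallEtaleTopology P)) :=
    Ψ.W_isInvertedBy_presheafFiber' _ (Y.smallEtaleTopology.W_toSheafify _)
  haveI : IsIso (Φ.presheafFiber.map (toSheafify X.smallEtaleTopology P')) :=
    Φ.W_isInvertedBy_presheafFiber' _ (X.smallEtaleTopology.W_toSheafify _)
  let lhs : Ψ.presheafFiber.obj P ⟶ _ := Ψ.presheafFiber.map (toSheafify Y.smallEtaleTopology P) ≫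
    ι.hom.app (((EtModD.tensorBi Λ Y).obj F).obj G) ≫ Φ.presheafFiber.map (delta f F G).hom
  let rhs : Ψ.presheafFiber.obj P ⟶ _ := Functor.OplaxMonoidal.δ Ψ.presheafFiber F.obj G.obj ≫
    (ι.hom.app F ⊗ₘ ι.hom.app G) ≫
      Functor.LaxMonoidal.μ Φ.presheafFiber ((EtModW.pull Λ f).obj F).obj ((EtModW.pull Λ f).obj G).obj ≫
      Φ.presheafFiber.map (toSheafify X.smallEtaleTopology P')
  have key : lhs = rhs := by
    refine Ψ.presheafFiber_hom_ext fun U x => ?_
    let x' := α.inv.app U x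
    have hι : ∀ H : EtModW.Mod Λ Y, Ψ.toPresheafFiber U x H.obj ≫ ι.hom.app H =
        ((adjM (Λ := Λ) f).unit.app H).hom.app (op U) ≫ Φ.toPresheafFiber ((EtCoh.bc f).obj U) x' ((EtModW.pull Λ f).obj H).obj :=
      fun H => EtShLib.toPresheafFiber_sheafFiberPullbackIso (EtCoh.bc f) Ψ Φ α (A := ModuleCat.{u + 1} Λ) H U x
    dsimp only [lhs, rhs]
    rw [GrothendieckTopology.Point.toPresheafFiber_naturality_assoc,
      GrothendieckTopology.Point.toPresheafFiber_δ_assoc, tensorHom_comp_tensorHom_assoc]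
    erw [reassoc_of% (hι (((EtModD.tensorBi Λ Y).obj F).obj G)), hι F, hι G]
    rw [← tensorHom_comp_tensorHom_assoc, GrothendieckTopology.Point.tensorHom_comp_toPresheafFiber_μ_assoc,
      GrothendieckTopology.Point.toPresheafFiber_naturality]
    erw [GrothendieckTopology.Point.toPresheafFiber_naturality]
    have h1 := congrArg (fun t => t.hom.app (op U)) (unit_delta f F G)
    have h2 := congrArg (fun t => t.app (op U)) (toSheafify_beta f F G)
    simp only [← Category.assoc]
    refine congrArg (· ≫ Φ.toPresheafFiber ((EtCoh.bc f).obj U) x' _) ?_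
    refine Eq.trans (Category.assoc _ _ _) ?_
    exact (congrArg ((toSheafify Y.smallEtaleTopology P).app (op U) ≫ ·) h1).trans h2
  haveI : IsIso lhs := key ▸ inferInstance
  haveI : IsIso (ι.hom.app (((EtModD.tensorBi Λ Y).obj F).obj G) ≫ Φ.presheafFiber.map (delta f F G).hom) :=
    IsIso.of_isIso_comp_left (Ψ.presheafFiber.map (toSheafify Y.smallEtaleTopology P)) _
  exact IsIso.of_isIso_comp_left (ι.hom.app (((EtModD.tensorBi Λ Y).obj F).obj G)) _

/-- `f⁻¹(F ⊗ G) ≅ f⁻¹F ⊗ f⁻¹G` -/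
def pullTensorIso : (EtModW.pull Λ f).obj (((EtModD.tensorBi Λ Y).obj F).obj G) ≅
    ((EtModD.tensorBi Λ X).obj ((EtModW.pull Λ f).obj F)).obj ((EtModW.pull Λ f).obj G) :=
  haveI := isIso_delta f F G
  asIso (delta f F G)

end Groth.Agent.EtTrivGen
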