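import Groth.Agent.EtTrivGen.ConsMod
import Groth.Agent.EtTrivGen.PullTensor

/-!
Tensor products of constructible sheaves of modules.
-/

set_option autoImplicit false
set_option backward.isDefEq.respectTransparency false

universe u

open CategoryTheory CategoryTheory.Limits AlgebraicGeometry Opposite

noncomputable section

namespace Groth.Agent.EtTrivGen

variable {Λ : Type (u + 1)} [CommRing Λ] {X : Scheme.{u}}

theorem isConstructible_tensor {F G : EtModW.Mod Λ X} (hF : EtModW.IsConstructible Λ F)
    (hG : EtModW.IsConstructible Λ G) :
    EtModW.IsConstructible Λ (((EtModD.tensorBi Λ X).obj F).obj G) := by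
  simp only [isConstructible_iff_goodAt] at hF hG ⊢
  exact fun x => ((hF x).and (stableQ_FT F) (stableQ_FT G) (hG x)).mono fun T g _ hg =>
    IsFTLocConst.ofIso (pullTensorIso g F G).symm (isFTLocConst_tensor hg.1 hg.2)

end Groth.Agent.EtTrivGen
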