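import Groth.Agent.EtTrivGen.AdicOpen
import Groth.Agent.EtTrivGen.OpenLocal

/-!
One stratification for all members of an adic system of constructible sheaves.
-/

set_option autoImplicit false
set_option backward.isDefEq.respectTransparency false
set_option backward.isDefEq.respectTransparency.types false
set_option linter.style.haveILetI false
set_option linter.unusedSectionVars false
set_option maxHeartbeats 1000000

universe u

open CategoryTheory CategoryTheory.Limits AlgebraicGeometry Opposite Topology TopologicalSpace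

noncomputable section

namespace Groth.Agent.EtTrivGen

variable {Λ : Type (u + 1)} [CommRing Λ] [IsNoetherianRing Λ] {X : Scheme.{u}} {I : Ideal Λ}

/-- a trivialisation on `V` gives local constancy on its image -/
theorem isFTLocConst_pull_of_triv {K : EtModW.Mod Λ X} {V : X.Etale} {O : X.Opens}
    (hO : (O : Set X) ⊆ Set.range V.hom) {M : Type (u + 1)} [AddCommGroup M] [Module Λ M] [Module.Finite Λ M]
    (σ : M →ₗ[Λ] K.obj.obj (op V)) (hσ : IsTrivG K V (fun e => σ e)) :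
    EtModW.IsFTLocConst Λ ((EtModW.pull Λ O.ι).obj K) := by
  rw [isFTLocConst_iff]
  intro Ω _ _ η
  obtain ⟨v, hv⟩ := hO (η (default : Spec (CommRingCat.of Ω))).2
  haveI : Etale V.hom := V.prop
  obtain ⟨x, -⟩ := Scheme.pointSmallEtaleFiberObjToPreimage_surjective (η ≫ O.ι)
    (s₀ := (η ≫ O.ι) default) rfl V ⟨v, hv⟩
  exact ⟨(EtCoh.bc O.ι).obj V, (EtStalk.fiberIso O.ι η).inv.app V x, M, inferInstance, inferInstance, inferInstance,
    (pullSect O.ι K V).comp σ, hσ.pull O.ι⟩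

theorem exists_open_adic [IsLocallyNoetherian X] {t : X} (ht : ∀ z : X, t ⤳ z) {G : ARSys.PS (EtModW.Mod Λ X)}
    (hG : ARSys.IsAdic I G) (hc : ∀ n : ℕ, EtModW.IsConstructible Λ (G.obj (op n))) :
    ∃ O : X.Opens, t ∈ O ∧ ∀ n : ℕ, FT (G.obj (op n)) O.toScheme O.ι := by
  obtain ⟨r, a, ha⟩ := Submodule.fg_iff_exists_fin_generating_family.1 (IsNoetherian.noetherian I)
  obtain ⟨Ω, _, _, ξ, -, hξ⟩ := EtStalk.covers_all (X := X) t
  obtain ⟨U, y, m, s, hs⟩ := exists_gen_sections ht (hc 0) ξ hξ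
  obtain ⟨V, yV, hV⟩ := exists_trivial_graded a ha hG s ht hξ y (fun q => finite_stalk (hc q) ξ) hs
  haveI : Etale V.hom := V.prop
  let O : X.Opens := ⟨Set.range V.hom, (Scheme.Hom.isOpenMap V.hom).isOpen_range⟩
  let y' : Over.mk ξ ⟶ (Scheme.Etale.forget X).obj V := yV
  refine ⟨O, ⟨y'.left (default : Spec (CommRingCat.of Ω)),
    (congrArg (fun k : Spec (CommRingCat.of Ω) ⟶ X => k default) (Over.w y')).trans hξ⟩, fun n => ?_⟩
  haveI := RPlusComp.pullMod_preservesFiniteLimits Λ O.ι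
  haveI : (EtModW.pull Λ O.ι).IsLeftAdjoint := (EtSix.pullPushModAdj Λ O.ι).isLeftAdjoint
  induction n with
  | zero =>
    obtain ⟨M, _, _, _, σ, hσ⟩ := hV 0 (G.obj (op 0)) (𝟙 _) (fun b => ⟨_, Category.comp_id _⟩)
      (fun Ω' _ _ η w => by rw [pow_zero, Ideal.one_eq_top, Submodule.top_smul]; trivial)
    exact isFTLocConst_pull_of_triv subset_rfl σ hσ
  | succ n ih =>
    let p := ARSys.tr G (Nat.le_succ n)
    obtain ⟨M, _, _, _, σ, hσ⟩ := hV (n + 1) (kernel p) (kernel.ι p)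
      (fun b => ⟨kernel.lift p _ (phi_tr hG (Nat.lt_succ_self n) b), kernel.lift_ι _ _ _⟩)
      (fun Ω' _ _ η w => mem_smul_of_isQuot (hG.2 n (n + 1) (Nat.le_succ n)) η _ (by
        rw [← ConcreteCategory.comp_apply, ← Functor.map_comp, kernel.condition, Functor.map_zero]
        rfl))
    haveI : Epi p := ⟨fun φ φ' h => IsQuot.hom_ext (hG.2 n (n + 1) (Nat.le_succ n)) h⟩
    let S : ShortComplex (EtModW.Mod Λ X) := ShortComplex.mk (kernel.ι p) p (kernel.condition p)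
    have hS : S.ShortExact := { exact := ShortComplex.exact_of_f_is_kernel _ (kernelIsKernel p) }
    exact isFTLocConst_of_shortExact (hS.map_of_exact (EtModW.pull Λ O.ι))
      (isFTLocConst_pull_of_triv subset_rfl σ hσ) ih

theorem goodAtQ_of_isAdic [IsNoetherian X] {F : ARSys.PS (EtModW.Mod Λ X)} (hF : ARSys.IsAdic I F)
    (hc : ∀ n : ℕ, EtModW.IsConstructible Λ (F.obj (op n))) (x : X) :
    GoodAtQ (fun T g => ∀ n : ℕ, FT (F.obj (op n)) T g) x := by
  obtain ⟨T, j, hj, hT, t, rfl, ht, -⟩ := exists_generic_stratum (hc 0) x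
  haveI := hj; haveI := hT
  obtain ⟨O, htO, hO⟩ := exists_open_adic ht (G := F ⋙ EtModW.pull Λ j) (isAdic_map (EtSix.pullPushModAdj Λ j) hF)
    (fun n => isConstructible_pull j (hc n))
  obtain ⟨U, hU, hxU, -⟩ := EtCons.exists_affine_le (V := (⊤ : X.Opens)) (x := j t) trivial
  haveI : CompactSpace U.toScheme := EtCons.compact_of_affine hU
  haveI : IsNoetherian U.toScheme := {}
  refine ⟨U, hU, hxU, O.toScheme, O.ι ≫ j, Subtype.val ⁻¹' Set.range (O.ι ≫ j), inferInstance, ?_,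
    ⟨hxU, ⟨⟨t, htO⟩, rfl⟩⟩, Set.image_preimage_subset _ _, fun n => ?_⟩
  · exact EtCons.isConstructible_of_lc (S := U.toScheme)
      ((O.ι ≫ j).isLocallyClosed_range.preimage continuous_subtype_val)
  · exact IsFTLocConst.ofIso ((EtSix.pullModComp Λ O.ι j).app (F.obj (op n))).symm (hO n)

theorem stableQ_FT_all (F : ARSys.PS (EtModW.Mod Λ X)) :
    StableQ (fun T g => ∀ n : ℕ, FT (F.obj (op n)) T g) :=
  fun _ _ j g _ _ h n => FT.comp j g (h n)

theorem exists_strata_adic [IsNoetherian X] {F : ARSys.PS (EtModW.Mod Λ X)} (hF : ARSys.IsAdic I F)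
    (hc : ∀ n : ℕ, EtModW.IsConstructible Λ (F.obj (op n))) :
    ∃ (m : ℕ) (T : Fin m → Scheme.{u}) (g : ∀ i, T i ⟶ X),
      (∀ i, IsImmersion (g i)) ∧
      Pairwise (fun i j => Disjoint (Set.range (fun t => (g i).base t)) (Set.range (fun t => (g j).base t))) ∧
      (⋃ i, Set.range (fun t => (g i).base t)) = Set.univ ∧
      ∀ (i : Fin m) (n : ℕ), EtModW.IsFTLocConst Λ ((EtModW.pull Λ (g i)).obj (F.obj (op n))) := by
  obtain ⟨m, T, g, h1, -, h3, h4, h5⟩ :=
    (adaptedQ_univ_iff (stableQ_FT_all F)).2 (goodAtQ_of_isAdic hF hc)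
  exact ⟨m, T, g, h1, h3, h4, h5⟩

/-- near a generic point of an irreducible component -/
theorem exists_open_component [IsNoetherian X] {F : ARSys.PS (EtModW.Mod Λ X)} (hF : ARSys.IsAdic I F)
    (hc : ∀ n : ℕ, EtModW.IsConstructible Λ (F.obj (op n))) {x : X} {Z : Set X}
    (hZ : Z ∈ irreducibleComponents X) (hx : IsGenericPoint x Z) :
    ∃ O : X.Opens, x ∈ O ∧ ∀ n : ℕ, FT (F.obj (op n)) O.toScheme O.ι := by
  let bad := {C ∈ irreducibleComponents X | x ∉ C}
  have hfin : bad.Finite := NoetherianSpace.finite_irreducibleComponents.subset fun C hC => hC.1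
  let O : X.Opens := ⟨(⋃ C ∈ bad, C)ᶜ,
    (hfin.isClosed_biUnion fun C hC => isClosed_of_mem_irreducibleComponents C hC.1).isOpen_compl⟩
  have hxO : x ∈ O := fun h => by
    obtain ⟨C, hC, hxC⟩ := Set.mem_iUnion₂.1 h
    exact hC.2 hxC
  have hgen : ∀ v : O.toScheme, (⟨x, hxO⟩ : O.toScheme) ⤳ v := by
    intro v
    rw [← O.ι.isOpenEmbedding.isInducing.specializes_iff]
    have hC := irreducibleComponent_mem_irreducibleComponents v.1
    have hxC : x ∈ irreducibleComponent v.1 := by_contra fun h =>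
      v.2 (Set.mem_biUnion (show irreducibleComponent v.1 ∈ bad from ⟨hC, h⟩) mem_irreducibleComponent)
    have hle : Z ⊆ irreducibleComponent v.1 := by
      rw [← hx.def]
      exact isClosed_irreducibleComponent.closure_subset_iff.2 (Set.singleton_subset_iff.2 hxC)
    exact hx.specializes (hZ.2 hC.1 hle mem_irreducibleComponent)
  obtain ⟨O', hxO', hO'⟩ := exists_open_adic hgen (G := F ⋙ EtModW.pull Λ O.ι)
    (isAdic_map (EtSix.pullPushModAdj Λ O.ι) hF) (fun n => isConstructible_pull O.ι (hc n))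
  refine ⟨O.ι ''ᵁ O', ⟨⟨x, hxO⟩, hxO', rfl⟩, fun n => ?_⟩
  have hr : Set.range (O.ι ''ᵁ O').ι ⊆ Set.range (O'.ι ≫ O.ι) := by
    rw [Scheme.Opens.range_ι]
    rintro _ ⟨z, hz, rfl⟩
    exact ⟨⟨z, hz⟩, rfl⟩
  let b := IsOpenImmersion.lift (O'.ι ≫ O.ι) (O.ι ''ᵁ O').ι hr
  exact FT.congr (IsOpenImmersion.lift_fac _ _ hr) (FT.comp b (O'.ι ≫ O.ι)
    (IsFTLocConst.ofIso ((EtSix.pullModComp Λ O'.ι O.ι).app (F.obj (op n))).symm (hO' n)))

theorem exists_dense_open_adic [IsNoetherian X] {F : ARSys.PS (EtModW.Mod Λ X)} (hF : ARSys.IsAdic I F)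
    (hc : ∀ n : ℕ, EtModW.IsConstructible Λ (F.obj (op n))) :
    ∃ U : X.Opens, Dense (U : Set X) ∧
      ∀ n : ℕ, EtModW.IsFTLocConst Λ ((EtModW.pull Λ U.ι).obj (F.obj (op n))) := by
  let P : X.Opens → Prop := fun O => ∀ n : ℕ, FT (F.obj (op n)) (Scheme.Opens.toScheme O) (Scheme.Opens.ι O)
  let U : X.Opens := ⨆ O : {O // P O}, O.1
  refine ⟨U, dense_iff_inter_open.2 fun W hW ⟨z, hz⟩ => ?_, fun n => ?_⟩
  · obtain ⟨η, hη⟩ := QuasiSober.sober (isIrreducible_irreducibleComponent (x := z))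
      (isClosed_irreducibleComponent (x := z))
    obtain ⟨O, hηO, hO⟩ := exists_open_component hF hc (irreducibleComponent_mem_irreducibleComponents z) hη
    exact ⟨η, (hη.specializes mem_irreducibleComponent).mem_open hW hz,
      Opens.mem_iSup.2 ⟨⟨O, hO⟩, hηO⟩⟩
  · refine isFTLocConst_of_open_cover fun z => ?_
    obtain ⟨O, hzO⟩ := Opens.mem_iSup.1 z.2
    refine ⟨U.ι ⁻¹ᵁ O.1, hzO, ?_⟩
    let b := U.ι.resLE O.1 (U.ι ⁻¹ᵁ O.1) le_rfl
    have e : b ≫ O.1.ι = (U.ι ⁻¹ᵁ O.1).ι ≫ U.ι := Scheme.Hom.resLE_comp_ι _ _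
    exact IsFTLocConst.ofIso ((EtSix.pullModComp Λ (U.ι ⁻¹ᵁ O.1).ι U.ι).app _) (FT.congr e (FT.comp b O.1.ι (O.2 n)))

end Groth.Agent.EtTrivGen
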