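import Groth.Agent.EtTrivGen.Adic
import Groth.Agent.EtCons.Specialization

/-!
Stalk systems of finite type locally constant sheaves along specialisations and on connected schemes.
-/

set_option autoImplicit false
set_option backward.isDefEq.respectTransparency false
set_option backward.isDefEq.respectTransparency.types false
set_option linter.style.haveILetI false
set_option linter.unusedSectionVars false

universe u

open CategoryTheory CategoryTheory.Limits AlgebraicGeometry Opposite Topology TopologicalSpace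

noncomputable section

namespace Groth.Agent.EtTrivGen

variable {Λ : Type (u + 1)} [CommRing Λ] {X : Scheme.{u}}
  {Ω Ω' : Type u} [Field Ω] [IsSepClosed Ω] [Field Ω'] [IsSepClosed Ω']
  {ξ : Spec (CommRingCat.of Ω) ⟶ X} {ξ' : Spec (CommRingCat.of Ω') ⟶ X}

/-- the map on stalks of a morphism of points -/
abbrev spMap (m : Scheme.pointSmallEtale ξ' ⟶ Scheme.pointSmallEtale ξ) :
    EtModW.stalk Λ ξ ⟶ EtModW.stalk Λ ξ' :=
  Functor.whiskerLeft (sheafToPresheaf _ _) (GrothendieckTopology.Point.Hom.presheafFiber m)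

theorem spMap_gm (m : Scheme.pointSmallEtale ξ' ⟶ Scheme.pointSmallEtale ξ) (F : EtModW.Mod Λ X) {U : X.Etale}
    (y : (Scheme.pointSmallEtale ξ).fiber.obj U) (s : F.obj.obj (op U)) :
    (spMap m).app F (gm F y s) = gm F (m.hom.app U y) s :=
  ConcreteCategory.congr_hom (GrothendieckTopology.Point.toPresheafFiber_presheafFiberDesc
    (Scheme.pointSmallEtale ξ) _ (fun {_ _} f x =>
      ((Scheme.pointSmallEtale ξ').toPresheafFiber_w f (m.hom.app _ x) F.obj).trans
        (congrArg (fun t => (Scheme.pointSmallEtale ξ').toPresheafFiber _ t F.obj)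
          (NatTrans.naturality_apply m.hom f x).symm)) U y) s

theorem isIso_spMap (m : Scheme.pointSmallEtale ξ' ⟶ Scheme.pointSmallEtale ξ) {F : EtModW.Mod Λ X}
    (hF : EtModW.IsFTLocConst Λ F) : IsIso ((spMap m).app F) := by
  obtain ⟨U, y, M, _, _, _, σ, hσ⟩ := (isFTLocConst_iff F).1 hF Ω ξ
  rw [ConcreteCategory.isIso_iff_bijective]
  have h1 := hσ.bij y
  have h2 : Function.Bijective (fun n => (spMap m).app F (gm F y (σ n))) := by
    simp only [spMap_gm]
    exact hσ.bij _
  refine ⟨fun a b hab => ?_, fun c => ?_⟩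
  · obtain ⟨a', rfl⟩ := h1.2 a
    obtain ⟨b', rfl⟩ := h1.2 b
    exact congrArg (fun n => gm F y (σ n)) (h2.1 hab)
  · obtain ⟨n, hn⟩ := h2.2 c
    exact ⟨_, hn⟩

variable (F : ℕᵒᵖ ⥤ EtModW.Mod Λ X) (hF : ∀ n : ℕ, EtModW.IsFTLocConst Λ (F.obj (op n)))

include hF

theorem nonempty_iso_of_specializes (ξ : Spec (CommRingCat.of Ω) ⟶ X) (ξ' : Spec (CommRingCat.of Ω') ⟶ X)
    (h : ξ' (default : Spec (CommRingCat.of Ω')) ⤳ ξ (default : Spec (CommRingCat.of Ω))) :
    Nonempty ((F ⋙ EtModW.stalk Λ ξ) ≅ (F ⋙ EtModW.stalk Λ ξ')) := by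
  obtain ⟨m⟩ := EtCons.exists_specialization ξ ξ' h
  haveI : ∀ n, IsIso ((Functor.whiskerLeft F (spMap m)).app n) := fun n => isIso_spMap m (hF n.unop)
  haveI : IsIso (Functor.whiskerLeft F (spMap m)) := NatIso.isIso_of_isIso_app _
  exact ⟨asIso (Functor.whiskerLeft F (spMap m))⟩

theorem nonempty_iso_stalks [IsNoetherian X] [ConnectedSpace X] (s : Spec (CommRingCat.of Ω) ⟶ X)
    (s' : Spec (CommRingCat.of Ω') ⟶ X) :
    Nonempty ((F ⋙ EtModW.stalk Λ s) ≅ (F ⋙ EtModW.stalk Λ s')) := by
  let S : Set X := {x | ∀ (K : Type u) [Field K] [IsSepClosed K] (η : Spec (CommRingCat.of K) ⟶ X),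
    η (default : Spec (CommRingCat.of K)) = x → Nonempty ((F ⋙ EtModW.stalk Λ s) ≅ (F ⋙ EtModW.stalk Λ η))}
  have hstep : ∀ a b : X, (a ⤳ b ∨ b ⤳ a) → a ∈ S → b ∈ S := by
    intro a b hab ha K _ _ η hη
    obtain ⟨K', _, _, η', -, hη'⟩ := EtStalk.covers_all (X := X) a
    obtain ⟨e⟩ := ha K' η' hη'
    rcases hab with h | h
    · obtain ⟨e'⟩ := nonempty_iso_of_specializes F hF η η' (by rw [hη, hη']; exact h)
      exact ⟨e ≪≫ e'.symm⟩
    · obtain ⟨e'⟩ := nonempty_iso_of_specializes F hF η' η (by rw [hη, hη']; exact h)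
      exact ⟨e ≪≫ e'⟩
  haveI : NoetherianSpace X := inferInstance
  have hclosed : ∀ T : Set X, (∀ a b : X, (a ⤳ b ∨ b ⤳ a) → a ∈ T → b ∈ T) → IsClosed T := by
    intro T hT
    let good := {C ∈ irreducibleComponents X | C ⊆ T}
    have hfin : good.Finite := NoetherianSpace.finite_irreducibleComponents.subset fun C hC => hC.1
    have e : T = ⋃ C ∈ good, C := by
      refine Set.Subset.antisymm (fun a ha => ?_) (Set.iUnion₂_subset fun C hC => hC.2)
      obtain ⟨g, hg⟩ := QuasiSober.sober (isIrreducible_irreducibleComponent (x := a))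
        (isClosed_irreducibleComponent (x := a))
      have hga : g ∈ T := hT a g (Or.inr (hg.specializes mem_irreducibleComponent)) ha
      exact Set.mem_biUnion (show irreducibleComponent a ∈ good from
        ⟨irreducibleComponent_mem_irreducibleComponents a, fun b hb => hT g b (Or.inl (hg.specializes hb)) hga⟩)
        mem_irreducibleComponent
    rw [e]
    exact hfin.isClosed_biUnion fun C hC => isClosed_of_mem_irreducibleComponents C hC.1
  have hclopen : IsClopen S := ⟨hclosed S hstep, isClosed_compl_iff.1 (hclosed Sᶜ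
    fun a b hab ha hb => ha (hstep b a hab.symm hb))⟩
  have hs : s (default : Spec (CommRingCat.of Ω)) ∈ S := fun K _ _ η hη =>
    nonempty_iso_of_specializes F hF s η (by rw [hη])
  have : S = Set.univ := hclopen.eq_univ ⟨_, hs⟩
  exact (this ▸ Set.mem_univ (s' (default : Spec (CommRingCat.of Ω'))) :
    s' (default : Spec (CommRingCat.of Ω')) ∈ S) Ω' s' rfl

end Groth.Agent.EtTrivGen
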