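import Groth.Agent.EtTrivGen.Basic

/-!
Locally constant sheaves pull back.
-/

set_option autoImplicit false
set_option backward.isDefEq.respectTransparency false
set_option linter.style.haveILetI false
set_option linter.unusedSectionVars false

universe w' v' u' u

open CategoryTheory CategoryTheory.Limits AlgebraicGeometry Opposite

noncomputable section

namespace Groth.Agent.EtTrivGen

instance forgetMod_preservesFilteredColimits (Λ : Type (u + 1)) [CommRing Λ] :
    PreservesFilteredColimitsOfSize.{u, u} (forget (ModuleCat.{u + 1} Λ)) :=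
  preservesFilteredColimitsOfSize_shrink.{u, u + 1, u, u + 1} _

instance hasLimitsMod (Λ : Type (u + 1)) [CommRing Λ] : HasLimitsOfSize.{u, u} (ModuleCat.{u + 1} Λ) :=
  haveI : HasLimitsOfSize.{u + 1, u + 1} (ModuleCat.{u + 1} Λ) := inferInstance
  hasLimitsOfSizeShrink.{u, u, u + 1, u + 1} _

/-- base change of a covering family is covering -/
theorem covers_bc {X Y : Scheme.{u}} (f : X ⟶ Y) {ι : Type u} {U : ι → Y.Etale} (hU : EtCoh.Covers U) :
    EtCoh.Covers (fun i => (EtCoh.bc f).obj (U i)) := fun x => by
  obtain ⟨i, y, hy⟩ := hU (f.base x)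
  obtain ⟨z, -, hz⟩ := Scheme.Pullback.exists_preimage_pullback (f := (U i).hom) (g := f) y x hy
  exact ⟨i, z, hz⟩

variable {A : Type u'} [Category.{v'} A] [HasColimitsOfSize.{u, u} A] [HasProducts.{u} A]
  {FC : A → A → Type*} {CC : A → Type w'} [∀ (M N : A), FunLike (FC M N) (CC M) (CC N)]
  [ConcreteCategory.{w'} A FC] [PreservesFilteredColimitsOfSize.{u, u} (forget A)]

variable {X Y : Scheme.{u}} (f : X ⟶ Y)
  [((EtCoh.bc f).sheafPushforwardContinuous A Y.smallEtaleTopology X.smallEtaleTopology).IsRightAdjoint]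

/-- constancy on a member of a covering pulls back -/
theorem pull_over_iso (F : Sheaf Y.smallEtaleTopology A) (U : Y.Etale) (M : A)
    [HasSheafify (Y.smallEtaleTopology.over U) A] [(Y.smallEtaleTopology.over U).WEqualsLocallyBijective A]
    [HasSheafify (X.smallEtaleTopology.over ((EtCoh.bc f).obj U)) A]
    [(X.smallEtaleTopology.over ((EtCoh.bc f).obj U)).WEqualsLocallyBijective A]
    (e : F.over U ≅ (constantSheaf (Y.smallEtaleTopology.over U) A).obj M) :
    Nonempty ((((EtCoh.bc f).sheafPullback A Y.smallEtaleTopology X.smallEtaleTopology).obj F).over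
        ((EtCoh.bc f).obj U) ≅
      (constantSheaf (X.smallEtaleTopology.over ((EtCoh.bc f).obj U)) A).obj M) := by
  obtain ⟨σ, hσ⟩ := exists_triv e
  have h := hσ.pull f
  refine nonempty_iso (σ := σ ≫ (((EtCoh.bc f).sheafAdjunctionContinuous A Y.smallEtaleTopology
    X.smallEtaleTopology).unit.app F).hom.app (op U)) ?_
  refine (congrArg (fun s => IsTrivG _ _ s) (funext fun m => ?_)).mpr h
  exact ConcreteCategory.comp_apply _ _ m

end Groth.Agent.EtTrivGen
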