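import Groth.Agent.EtTrivGen.Adic

/-!
Stalks and inverse images of systems that are adic up to translation.
-/

set_option autoImplicit false
set_option backward.isDefEq.respectTransparency false
set_option linter.style.haveILetI false

universe u

open CategoryTheory CategoryTheory.Limits AlgebraicGeometry Opposite

noncomputable section

namespace Groth.Agent.EtTrivGen

variable {Λ : Type (u + 1)} [CommRing Λ] {X X' : Scheme.{u}}

instance linear_push (f : X' ⟶ X) : Functor.Linear Λ (EtModW.push Λ f) where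

section Sky

variable {Ω : Type u} [Field Ω] [IsSepClosed Ω] (ξ : Spec (CommRingCat.of Ω) ⟶ X)

/-- the skyscraper -/
abbrev sky : ModuleCat.{u + 1} Λ ⥤ EtModW.Mod Λ X := (Scheme.pointSmallEtale ξ).skyscraperSheafFunctor

instance additive_sky : (sky (Λ := Λ) ξ).Additive where
  map_add {M N f g} := by
    refine Sheaf.hom_ext ?_
    ext U : 2
    refine Pi.hom_ext _ _ fun x => ?_
    simp [GrothendieckTopology.Point.skyscraperSheafFunctor, GrothendieckTopology.Point.skyscraperPresheafFunctor,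
      Preadditive.add_comp, Preadditive.comp_add]

instance linear_sky : Functor.Linear Λ (sky (Λ := Λ) ξ) where
  map_smul {M N} f r := by
    refine Sheaf.hom_ext ?_
    ext U : 2
    refine Pi.hom_ext _ _ fun x => ?_
    have e : (r • (sky ξ).map f).hom.app U = r • (((sky ξ).map f).hom.app U) := rfl
    rw [e, Linear.smul_comp]
    simp [GrothendieckTopology.Point.skyscraperSheafFunctor, GrothendieckTopology.Point.skyscraperPresheafFunctor,
      Linear.smul_comp, Linear.comp_smul]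

theorem isARAdic_stalk {I : Ideal Λ} (F : ARSys.PS (EtModW.Mod Λ X))
    (hF : ARSys.TermKilled I F ∧ ∃ (Y : ARSys.PS (EtModW.Mod Λ X)) (v : Y ⟶ F), ARSys.IsAdic I Y ∧
      (∀ n : ℕ, EtModW.IsConstructible Λ (Y.obj (op n))) ∧ ARSys.IsARIso v) :
    ARSys.TermKilled I (F ⋙ EtModW.stalk Λ ξ) ∧ ∃ (Y : ARSys.PS (ModuleCat.{u + 1} Λ)) (v : Y ⟶ F ⋙ EtModW.stalk Λ ξ),
      ARSys.IsAdic I Y ∧ (∀ n : ℕ, Module.Finite Λ (Y.obj (op n))) ∧ ARSys.IsARIso v := by
  obtain ⟨hk, Y, v, hY, hc, hv⟩ := hF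
  let adj : EtModW.stalk Λ ξ ⊣ sky ξ := (Scheme.pointSmallEtale ξ).skyscraperSheafAdjunction
  haveI : PreservesFiniteColimits (EtModW.stalk Λ ξ) := inferInstance
  exact ⟨termKilled_map adj hk, Y ⋙ EtModW.stalk Λ ξ, Functor.whiskerRight v _, isAdic_map adj hY,
    fun n => finite_stalk (hc n) ξ, isARIso_map v hv⟩

end Sky

theorem isARAdic_pull [IsNoetherianRing Λ] {I : Ideal Λ} (f : X' ⟶ X) (F : ARSys.PS (EtModW.Mod Λ X))
    (hF : ARSys.TermKilled I F ∧ ∃ (Y : ARSys.PS (EtModW.Mod Λ X)) (v : Y ⟶ F), ARSys.IsAdic I Y ∧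
      (∀ n : ℕ, EtModW.IsConstructible Λ (Y.obj (op n))) ∧ ARSys.IsARIso v) :
    ARSys.TermKilled I (F ⋙ EtModW.pull Λ f) ∧ ∃ (Y : ARSys.PS (EtModW.Mod Λ X')) (v : Y ⟶ F ⋙ EtModW.pull Λ f),
      ARSys.IsAdic I Y ∧ (∀ n : ℕ, EtModW.IsConstructible Λ (Y.obj (op n))) ∧ ARSys.IsARIso v := by
  obtain ⟨hk, Y, v, hY, hc, hv⟩ := hF
  let adj := EtSix.pullPushModAdj Λ f
  haveI := RPlusComp.pullMod_preservesFiniteLimits Λ f
  haveI : (EtModW.pull Λ f).IsLeftAdjoint := adj.isLeftAdjoint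
  haveI : PreservesFiniteColimits (EtModW.pull Λ f) := inferInstance
  exact ⟨termKilled_map adj hk, Y ⋙ EtModW.pull Λ f, Functor.whiskerRight v _, isAdic_map adj hY,
    fun n => isConstructible_pull f (hc n), isARIso_map v hv⟩

end Groth.Agent.EtTrivGen
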