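import Groth.Agent.EtTrivGen.Tensor

/-!
Germs of sections of sheaves of modules; finite type locally constant sheaves through geometric points.
-/

set_option autoImplicit false
set_option backward.isDefEq.respectTransparency false
set_option linter.style.haveILetI false
set_option linter.unusedSectionVars false

universe u

open CategoryTheory CategoryTheory.Limits AlgebraicGeometry Opposite

noncomputable section

namespace Groth.Agent.EtTrivGen

variable {Λ : Type (u + 1)} [CommRing Λ] {X : Scheme.{u}}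

/-- restriction of sections -/
abbrev rs (F : EtModW.Mod Λ X) {U V : X.Etale} (g : V ⟶ U) :
    (F.obj.obj (op U) : Type (u + 1)) →ₗ[Λ] F.obj.obj (op V) :=
  (F.obj.map g.op).hom

theorem rs_rs (F : EtModW.Mod Λ X) {U V W : X.Etale} (g : V ⟶ U) (h : W ⟶ V) (s : F.obj.obj (op U)) :
    rs F h (rs F g s) = rs F (h ≫ g) s :=
  map_map' F g h s

/-- sections under a map of sheaves -/
abbrev ap {F G : EtModW.Mod Λ X} (φ : F ⟶ G) (V : X.Etale) :
    (F.obj.obj (op V) : Type (u + 1)) →ₗ[Λ] G.obj.obj (op V) :=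
  (φ.hom.app (op V)).hom

theorem ap_rs {F G : EtModW.Mod Λ X} (φ : F ⟶ G) {U V : X.Etale} (g : V ⟶ U) (s : F.obj.obj (op U)) :
    ap φ V (rs F g s) = rs G g (ap φ U s) :=
  ConcreteCategory.congr_hom (φ.hom.naturality g.op) s

variable {Ω : Type u} [Field Ω] [IsSepClosed Ω] {ξ : Spec (CommRingCat.of Ω) ⟶ X}

/-- germs -/
abbrev gm (F : EtModW.Mod Λ X) {V : X.Etale} (y : (Scheme.pointSmallEtale ξ).fiber.obj V) :
    (F.obj.obj (op V) : Type (u + 1)) →ₗ[Λ] (EtModW.stalk Λ ξ).obj F :=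
  ((Scheme.pointSmallEtale ξ).toPresheafFiber V y F.obj).hom

theorem gm_rs (F : EtModW.Mod Λ X) {U V : X.Etale} (g : V ⟶ U)
    (y : (Scheme.pointSmallEtale ξ).fiber.obj V) (s : F.obj.obj (op U)) :
    gm F y (rs F g s) = gm F ((Scheme.pointSmallEtale ξ).fiber.map g y) s :=
  GrothendieckTopology.Point.toPresheafFiber_w_apply _ _ _ _ _

theorem map_gm {F G : EtModW.Mod Λ X} (φ : F ⟶ G) {V : X.Etale}
    (y : (Scheme.pointSmallEtale ξ).fiber.obj V) (s : F.obj.obj (op V)) :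
    (EtModW.stalk Λ ξ).map φ (gm F y s) = gm G y (ap φ V s) :=
  ConcreteCategory.congr_hom ((Scheme.pointSmallEtale ξ).toPresheafFiber_naturality φ.hom V y) s

theorem exists_gm (F : EtModW.Mod Λ X) (z : (EtModW.stalk Λ ξ).obj F) :
    ∃ (V : X.Etale) (y : (Scheme.pointSmallEtale ξ).fiber.obj V) (s : F.obj.obj (op V)), gm F y s = z :=
  (Scheme.pointSmallEtale ξ).toPresheafFiber_jointly_surjective (P := F.obj) z

/-- refinements for finitely many properties -/
theorem exists_refine {ι : Type*} (t : Finset ι) {U : X.Etale} (y : (Scheme.pointSmallEtale ξ).fiber.obj U)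
    (P : ι → ∀ V : X.Etale, (V ⟶ U) → Prop)
    (hmono : ∀ i (V : X.Etale) (g : V ⟶ U), P i V g → ∀ (W : X.Etale) (k : W ⟶ V), P i W (k ≫ g))
    (hloc : ∀ i ∈ t, ∀ (V : X.Etale) (g : V ⟶ U) (y' : (Scheme.pointSmallEtale ξ).fiber.obj V),
      (Scheme.pointSmallEtale ξ).fiber.map g y' = y →
      ∃ (W : X.Etale) (k : W ⟶ V) (z : (Scheme.pointSmallEtale ξ).fiber.obj W),
        (Scheme.pointSmallEtale ξ).fiber.map k z = y' ∧ P i W (k ≫ g)) :
    ∃ (V : X.Etale) (g : V ⟶ U) (y' : (Scheme.pointSmallEtale ξ).fiber.obj V),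
      (Scheme.pointSmallEtale ξ).fiber.map g y' = y ∧ ∀ i ∈ t, P i V g := by
  induction t using Finset.cons_induction with
  | empty => exact ⟨U, 𝟙 U, y, by simp, by simp⟩
  | cons a t _ ih =>
    obtain ⟨V, g, v, hv, hV⟩ := ih fun i hi => hloc i (Finset.mem_cons_of_mem hi)
    obtain ⟨W, k, w, hw, hW⟩ := hloc a (Finset.mem_cons_self _ _) V g v hv
    refine ⟨W, k ≫ g, w, ?_, fun i hi => ?_⟩
    · rw [Functor.map_comp, ConcreteCategory.comp_apply, hw, hv]
    · rcases Finset.mem_cons.1 hi with rfl | hi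
      · exact hW
      · exact hmono i V g (hV i hi) W k

/-- two neighbourhoods have a common refinement -/
theorem exists_common {U₁ U₂ : X.Etale} (y₁ : (Scheme.pointSmallEtale ξ).fiber.obj U₁)
    (y₂ : (Scheme.pointSmallEtale ξ).fiber.obj U₂) :
    ∃ (W : X.Etale) (g₁ : W ⟶ U₁) (g₂ : W ⟶ U₂) (w : (Scheme.pointSmallEtale ξ).fiber.obj W),
      (Scheme.pointSmallEtale ξ).fiber.map g₁ w = y₁ ∧ (Scheme.pointSmallEtale ξ).fiber.map g₂ w = y₂ := by
  obtain ⟨W, a, b, -⟩ := IsCofilteredOrEmpty.cone_objs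
    (Functor.elementsMk (Scheme.pointSmallEtale ξ).fiber U₁ y₁)
    (Functor.elementsMk (Scheme.pointSmallEtale ξ).fiber U₂ y₂)
  exact ⟨W.1, a.1, b.1, W.2, a.2, b.2⟩

/-- a germ in the image lifts on a neighbourhood -/
theorem exists_lift {F G : EtModW.Mod Λ X} (φ : F ⟶ G) {U : X.Etale}
    (y : (Scheme.pointSmallEtale ξ).fiber.obj U) (s : G.obj.obj (op U)) (z : (EtModW.stalk Λ ξ).obj F)
    (hz : (EtModW.stalk Λ ξ).map φ z = gm G y s) :
    ∃ (W : X.Etale) (g : W ⟶ U) (w : (Scheme.pointSmallEtale ξ).fiber.obj W),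
      (Scheme.pointSmallEtale ξ).fiber.map g w = y ∧ ∃ t, ap φ W t = rs G g s := by
  obtain ⟨V, v, t, rfl⟩ := exists_gm F z
  obtain ⟨W, a, b, w, ha, hb⟩ := exists_common v y
  have h1 : gm G w (ap φ W (rs F a t)) = gm G w (rs G b s) := by
    rw [← map_gm, gm_rs, gm_rs, ha, hb, hz]
  obtain ⟨W', k, w', hw', hk⟩ := ((Scheme.pointSmallEtale ξ).toPresheafFiber_eq_iff' _ _ _ _).mp h1
  refine ⟨W', k ≫ b, w', ?_, rs F k (rs F a t), ?_⟩
  · rw [Functor.map_comp, ConcreteCategory.comp_apply, hw', hb]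
  · rw [ap_rs]
    exact Eq.trans hk (rs_rs G b k s)

/-- finite type local constancy through geometric points -/
theorem isFTLocConst_iff (F : EtModW.Mod Λ X) :
    EtModW.IsFTLocConst Λ F ↔ ∀ (Ω : Type u) [Field Ω] [IsSepClosed Ω] (ξ : Spec (CommRingCat.of Ω) ⟶ X),
      ∃ (U : X.Etale) (_ : (Scheme.pointSmallEtale ξ).fiber.obj U) (M : Type (u + 1)) (_ : AddCommGroup M)
        (_ : Module Λ M) (_ : Module.Finite Λ M) (σ : M →ₗ[Λ] F.obj.obj (op U)),
        IsTrivG F U (fun m => σ m) := by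
  constructor
  · rintro ⟨ι, U, hU, h⟩ Ω _ _ ξ
    obtain ⟨i, u₀, hu₀⟩ := hU (ξ default)
    obtain ⟨M, _, _, _, ⟨e⟩⟩ := h i
    obtain ⟨σ, hσ⟩ := exists_triv e
    haveI : Etale (U i).hom := (U i).prop
    obtain ⟨l, -⟩ := Scheme.pointSmallEtaleFiberObjToPreimage_surjective ξ (s₀ := ξ default) rfl (U i) ⟨u₀, hu₀⟩
    exact ⟨U i, l, M, inferInstance, inferInstance, inferInstance, σ.hom, hσ⟩
  · intro h
    have hx : ∀ x : X, ∃ (U : X.Etale), (∃ u₀ : U.left, U.hom.base u₀ = x) ∧ ∃ (M : Type (u + 1)) (_ : AddCommGroup M)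
        (_ : Module Λ M) (_ : Module.Finite Λ M), Nonempty (EtModW.restr Λ F U ≅
          (constantSheaf (X.smallEtaleTopology.over U) (ModuleCat.{u + 1} Λ)).obj (ModuleCat.of Λ M)) := fun x => by
      obtain ⟨Ω, _, _, ξ, -, hξ⟩ := EtStalk.covers_all (X := X) x
      obtain ⟨U, y, M, _, _, _, σ, hσ⟩ := h Ω ξ
      let y' : Over.mk ξ ⟶ (Scheme.Etale.forget X).obj U := y
      refine ⟨U, ⟨y'.left (default : Spec (CommRingCat.of Ω)), ?_⟩, M, inferInstance, inferInstance, inferInstance,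
        nonempty_iso (σ := ModuleCat.ofHom σ) hσ⟩
      rw [← hξ]
      exact congrArg (fun t : Spec (CommRingCat.of Ω) ⟶ X => t default) (Over.w y')
    choose U hU hM using hx
    exact ⟨X, U, fun x => ⟨x, hU x⟩, hM⟩

end Groth.Agent.EtTrivGen
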