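import Groth.Agent.EtTrivGen.AdicSub
import Groth.Agent.ARLib.Grs

/-!
AR adic systems of constructible sheaves of modules: kernels, cokernels, chains.
-/

set_option autoImplicit false
set_option backward.isDefEq.respectTransparency false
set_option backward.isDefEq.respectTransparency.types false
set_option linter.style.haveILetI false
set_option linter.unusedSectionVars false
set_option maxHeartbeats 800000

universe u v w z

open CategoryTheory CategoryTheory.Limits AlgebraicGeometry Opposite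

noncomputable section

namespace Groth.Agent.EtTrivGen

section Chain

open ARSys (PS tr)

variable {C : Type w} [Category.{v} C] [Abelian C] {A : Type z} [CommRing A] [IsNoetherianRing A] [Linear A C]

theorem univS_mono {X Y : PS C} (φ : X ⟶ Y) {r s : ℕ} (hr : ARLib.MLb X r) (n : ℕ) :
    ARLib.img (φ.app (op n)) (ARLib.univS X r n) ≤ ARLib.univS Y s n := by
  refine (ARLib.img_mono _ (hr n (n + r) (n + max r s) le_rfl (Nat.add_le_add_left (le_max_left r s) n))).trans ?_
  rw [← ARLib.rng_comp, ARLib.tr_nat, ARLib.rng_comp]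
  refine (ARLib.img_mono _ le_top).trans ?_
  exact ARLib.rng_tr_anti Y (Nat.le_add_right n s) (Nat.add_le_add_left (le_max_right r s) n)

/-- chains of subsystems that are AR adic are eventually AR constant -/
theorem chain_eventually_isARIso {J : Ideal A} {X : PS C} (hX : ARSys.IsAdic J X)
    [IsNoetherianObject (X.obj (op 0))] (Z : ℕ →o Subobject X)
    (hZ : ∀ k : ℕ, ARSys.IsARAdic J (Z k : PS C)) :
    ∃ k₀ : ℕ, ∀ k : ℕ, k₀ ≤ k → ARSys.IsARIso (Subobject.ofLE (Z k) (Z (k + 1)) (Z.monotone (Nat.le_succ k))) := by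
  choose r hr using fun k => (ARLib.isMLAR_iff _).1 (ARLib.isMLAR_of_isARAdic (hZ k))
  let a : ∀ k, ARLib.univSys (hr k) ⟶ X := fun k => ARLib.univι (hr k) ≫ (Z k).arrow
  haveI : ∀ k, Mono (a k) := fun k => mono_comp _ _
  let W : ℕ →o Subobject X := ⟨fun k => Subobject.mk (a k), fun k l h => by
    refine ARLib.le_of_comp' fun j => ?_
    obtain ⟨n⟩ := j
    rw [ARLib.comp'_mk, ARLib.comp'_mk]
    simp only [a, NatTrans.comp_app, ARLib.rng_comp, ARLib.rng_subι]
    rw [← Subobject.ofLE_arrow (Z.monotone h), NatTrans.comp_app, ← ARLib.img_img]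
    exact ARLib.img_mono _ (univS_mono _ (hr k) n)⟩
  have hW : ∀ k, ARSys.IsStrict (W k : PS C) := fun k =>
    ARLib.isStrict_of_epi (Subobject.underlyingIso (a k)).inv (ARLib.isStrict_univSys (hr k))
  obtain ⟨k₀, hk₀⟩ := ARLib.strict_sub_acc (IsNoetherian.noetherian J) hX W hW
  refine ⟨k₀, fun k hk => ARLib.isARIso_of_comp_left (ARLib.isARIso_univι (hr k)) ?_⟩
  have e : W k = W (k + 1) := (hk₀ k hk).trans (hk₀ (k + 1) (hk.trans (Nat.le_succ k))).symm
  let i := Subobject.isoOfMkEqMk (a k) (a (k + 1)) e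
  have hi : ARLib.univι (hr k) ≫ Subobject.ofLE _ _ (Z.monotone (Nat.le_succ k)) =
      i.hom ≫ ARLib.univι (hr (k + 1)) := by
    rw [← cancel_mono (Z (k + 1)).arrow, Category.assoc, Subobject.ofLE_arrow, Category.assoc]
    exact (Subobject.ofMkLEMk_comp e.le).symm
  rw [hi]
  exact ARLib.isARIso_comp (ARLib.isARIso_of_isIso i.hom) (ARLib.isARIso_univι (hr (k + 1)))

end Chain

variable {Λ : Type (u + 1)} [CommRing Λ] [IsNoetherianRing Λ] {X : Scheme.{u}}

variable (Λ X) in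
/-- the constructible sheaves -/
abbrev consP : ObjectProperty (EtModW.Mod Λ X) := fun F => EtModW.IsConstructible Λ F

instance isWeakSerre_consP : WSerre.IsWeakSerre (consP Λ X) := isWeakSerre_isConstructible Λ

instance isNoetherianObject_cons [IsNoetherian X] (E : (consP Λ X).FullSubcategory) : IsNoetherianObject E :=
  isNoetherianObject_of_ι _ E (isNoetherianObject_of_isConstructible E.property)

theorem isARAdic_kernel_cokernel [IsNoetherian X] {I : Ideal Λ} {F G : ARSys.PS (EtModW.Mod Λ X)}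
    (hF : ARSys.IsAdic I F) (hG : ARSys.IsAdic I G)
    (hFc : ∀ n : ℕ, EtModW.IsConstructible Λ (F.obj (op n)))
    (hGc : ∀ n : ℕ, EtModW.IsConstructible Λ (G.obj (op n))) (w : F ⟶ G) :
    (ARSys.TermKilled I (kernel w) ∧ ∃ (Y : ARSys.PS (EtModW.Mod Λ X)) (v : Y ⟶ (kernel w)), ARSys.IsAdic I Y ∧
      (∀ n : ℕ, EtModW.IsConstructible Λ (Y.obj (op n))) ∧ ARSys.IsARIso v) ∧
    (ARSys.TermKilled I (cokernel w) ∧ ∃ (Y : ARSys.PS (EtModW.Mod Λ X)) (v : Y ⟶ (cokernel w)), ARSys.IsAdic I Y ∧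
      (∀ n : ℕ, EtModW.IsConstructible Λ (Y.obj (op n))) ∧ ARSys.IsARIso v) := by
  let P := consP Λ X
  let F' := liftSys P F hFc
  let G' := liftSys P G hGc
  let w' : F' ⟶ G' := liftHom P w
  have hF' : ARSys.IsAdic I F' := (isAdic_ι_iff P F').2 hF
  have hG' : ARSys.IsAdic I G' := (isAdic_ι_iff P G').2 hG
  have h1 : ∀ {F : ARSys.PS P.FullSubcategory}, ARSys.IsAdic I F → ARSys.IsARAdicNoeth I F := fun {F} h =>
    ⟨⟨h.1, F, 𝟙 F, h, ARLib.isARIso_id F⟩, fun n => inferInstance⟩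
  obtain ⟨⟨⟨-, Yk, vk, hYk, hvk⟩, -⟩, ⟨⟨-, Yc, vc, hYc, hvc⟩, -⟩⟩ :=
    ARLib.arAdicNoeth_ker_coker (IsNoetherian.noetherian I) w' (h1 hF') (h1 hG')
  haveI : PreservesFiniteLimits P.ι := WSerre.preservesFiniteLimits_ι P
  haveI : PreservesFiniteColimits P.ι := WSerre.preservesFiniteColimits_ι P
  let W := (Functor.whiskeringRight ℕᵒᵖ P.FullSubcategory (EtModW.Mod Λ X)).obj P.ι
  haveI : W.Additive := ⟨fun {_ _ f g} => by ext n; rfl⟩
  haveI : PreservesFiniteLimits W := ⟨fun J _ _ => ⟨fun {K} => preservesLimit_of_evaluation _ _ fun j =>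
    inferInstanceAs (PreservesLimit K ((evaluation ℕᵒᵖ P.FullSubcategory).obj j ⋙ P.ι))⟩⟩
  haveI : PreservesFiniteColimits W := ⟨fun J _ _ => ⟨fun {K} => preservesColimit_of_evaluation _ _ fun j =>
    inferInstanceAs (PreservesColimit K ((evaluation ℕᵒᵖ P.FullSubcategory).obj j ⋙ P.ι))⟩⟩
  refine ⟨⟨ARLib.termKilled_of_mono (kernel.ι w) hF.1, Yk ⋙ P.ι,
      Functor.whiskerRight vk P.ι ≫ (PreservesKernel.iso W w').hom, (isAdic_ι_iff P Yk).1 hYk,
      fun n => (Yk.obj (op n)).property, ARLib.isARIso_comp ((isARIso_ι_iff P vk).1 hvk) ?_⟩,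
    ⟨ARLib.termKilled_of_epi (cokernel.π w) hG.1, Yc ⋙ P.ι,
      Functor.whiskerRight vc P.ι ≫ (PreservesCokernel.iso W w').hom, (isAdic_ι_iff P Yc).1 hYc,
      fun n => (Yc.obj (op n)).property, ARLib.isARIso_comp ((isARIso_ι_iff P vc).1 hvc) ?_⟩⟩
  · exact ARLib.isARIso_of_isIso _
  · exact ARLib.isARIso_of_isIso _

end Groth.Agent.EtTrivGen
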