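import Groth.Agent.EtFLC.Triv
import Groth.Agent.EtShLib.PullGerm

/-!
Locally constant sheaves on the small etale site with values in a concrete category: trivialisations by
sections, the criterion by germs, inverse images.
-/

set_option autoImplicit false
set_option backward.isDefEq.respectTransparency false
set_option linter.style.haveILetI false
set_option linter.unusedSectionVars false

universe w' v' u' u

open CategoryTheory CategoryTheory.Limits AlgebraicGeometry Opposite

noncomputable section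

namespace Groth.Agent.EtTrivGen

variable {A : Type u'} [Category.{v'} A] [HasColimitsOfSize.{u, u} A]
  {FC : A → A → Type*} {CC : A → Type w'} [∀ (M N : A), FunLike (FC M N) (CC M) (CC N)]
  [ConcreteCategory.{w'} A FC] [PreservesFilteredColimitsOfSize.{u, u} (forget A)]

variable {X : Scheme.{u}}

/-- `σ` identifies `F` on `U` with the constant sheaf of values `M` -/
structure IsTrivG (F : Sheaf X.smallEtaleTopology A) (U : X.Etale) {M : Type*}
    (σ : M → ToType (F.obj.obj (op U))) : Prop where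
  surj : ∀ {V : X.Etale} (g : V ⟶ U) (s : ToType (F.obj.obj (op V))) (v : V.left),
    ∃ (W : X.Etale) (h : W ⟶ V) (m : M), v ∈ Set.range h.left ∧
      F.obj.map h.op s = F.obj.map (h ≫ g).op (σ m)
  inj : ∀ {V : X.Etale} (g : V ⟶ U) (m m' : M), F.obj.map g.op (σ m) = F.obj.map g.op (σ m') →
    ∀ _ : V.left, m = m'

theorem map_map' (F : Sheaf X.smallEtaleTopology A) {U V W : X.Etale} (f : V ⟶ U) (g : W ⟶ V)
    (s : ToType (F.obj.obj (op U))) : F.obj.map g.op (F.obj.map f.op s) = F.obj.map (g ≫ f).op s := by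
  rw [op_comp, Functor.map_comp, ConcreteCategory.comp_apply]

theorem IsTrivG.congr {F : Sheaf X.smallEtaleTopology A} {U : X.Etale} {M N : Type*}
    {σ : M → ToType (F.obj.obj (op U))} (h : IsTrivG F U σ) (e : N ≃ M) : IsTrivG F U (σ ∘ e) where
  surj g s v := by
    obtain ⟨W, k, m, hv, hm⟩ := h.surj g s v
    exact ⟨W, k, e.symm m, hv, by simpa using hm⟩
  inj g m m' hm v := e.injective (h.inj g _ _ hm v)

/-- a point of an etale scheme is the image of a geometric point -/
theorem exists_point_at {V : X.Etale} (v : V.left) :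
    ∃ (Ω : Type u) (_ : Field Ω) (_ : IsSepClosed Ω) (ξ : Spec (CommRingCat.of Ω) ⟶ X)
      (x : Over.mk ξ ⟶ (Scheme.Etale.forget X).obj V), x.left (default : Spec (CommRingCat.of Ω)) = v := by
  obtain ⟨Ω, _, _, ξ', -, hξ'⟩ := EtStalk.covers_all (X := V.left) v
  exact ⟨Ω, inferInstance, inferInstance, ξ' ≫ V.hom, Over.homMk ξ' rfl, hξ'⟩

/-- lift a geometric point along an etale morphism hitting its image -/
theorem exists_point_lift {U W : X.Etale} (g : W ⟶ U) {Ω : Type u} [Field Ω] [IsSepClosed Ω]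
    {ξ : Spec (CommRingCat.of Ω) ⟶ X} (v : Over.mk ξ ⟶ (Scheme.Etale.forget X).obj U)
    (hw : v.left (default : Spec (CommRingCat.of Ω)) ∈ Set.range g.left) :
    ∃ y : (Scheme.pointSmallEtale ξ).fiber.obj W, (Scheme.pointSmallEtale ξ).fiber.map g y = v := by
  obtain ⟨w, hw⟩ := hw
  haveI := EtShLib.etale_left g
  obtain ⟨l, hl⟩ := Scheme.pointSmallEtaleFiberObjToPreimage_surjective (S := U.left)
    v.left (s₀ := v.left (default : Spec (CommRingCat.of Ω))) rfl (Scheme.Etale.mk g.left) ⟨w, hw⟩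
  let l' : Over.mk v.left ⟶ Over.mk g.left := l
  let y : (Scheme.pointSmallEtale ξ).fiber.obj W :=
    (Over.homMk l'.left (by
      change l'.left ≫ W.hom = ξ
      rw [← MorphismProperty.Over.w g, ← Category.assoc]
      exact (congrArg (· ≫ U.hom) (Over.w l')).trans (Over.w v)) : Over.mk ξ ⟶ (Scheme.Etale.forget X).obj W)
  exact ⟨y, Over.OverMorphism.ext (Over.w l')⟩

/-- trivialisations are detected on germs -/
theorem isTrivG_iff (F : Sheaf X.smallEtaleTopology A) (U : X.Etale) {M : Type*}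
    (σ : M → ToType (F.obj.obj (op U))) :
    IsTrivG F U σ ↔ ∀ (Ω : Type u) [Field Ω] [IsSepClosed Ω] (ξ : Spec (CommRingCat.of Ω) ⟶ X)
      (x : (Scheme.pointSmallEtale ξ).fiber.obj U),
      Function.Bijective (fun m => (Scheme.pointSmallEtale ξ).toPresheafFiber U x F.obj (σ m)) := by
  constructor
  · intro h Ω _ _ ξ x
    refine ⟨fun m m' hm => ?_, fun z => ?_⟩
    · obtain ⟨W, g, y, -, hg⟩ := ((Scheme.pointSmallEtale ξ).toPresheafFiber_eq_iff' _ _ _ _).mp hm
      let y' : Over.mk ξ ⟶ (Scheme.Etale.forget X).obj W := y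
      exact h.inj g m m' hg (y'.left (default : Spec (CommRingCat.of Ω)))
    · obtain ⟨V, v, s, rfl⟩ := (Scheme.pointSmallEtale ξ).toPresheafFiber_jointly_surjective (P := F.obj) z
      obtain ⟨W, a, b, -⟩ := IsCofilteredOrEmpty.cone_objs
        (Functor.elementsMk (Scheme.pointSmallEtale ξ).fiber V v)
        (Functor.elementsMk (Scheme.pointSmallEtale ξ).fiber U x)
      let w : Over.mk ξ ⟶ (Scheme.Etale.forget X).obj W.1 := W.2
      obtain ⟨W', k, m, hv, hm⟩ := h.surj b.1 (F.obj.map a.1.op s) (w.left (default : Spec (CommRingCat.of Ω)))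
      obtain ⟨y, hy⟩ := exists_point_lift k w hv
      have hy' : (Scheme.pointSmallEtale ξ).fiber.map k y = W.2 := hy
      refine ⟨m, ?_⟩
      have h1 : (Scheme.pointSmallEtale ξ).toPresheafFiber W' y F.obj (F.obj.map k.op (F.obj.map a.1.op s)) =
          (Scheme.pointSmallEtale ξ).toPresheafFiber V v F.obj s := by
        rw [GrothendieckTopology.Point.toPresheafFiber_w_apply, hy',
          GrothendieckTopology.Point.toPresheafFiber_w_apply]
        exact congrArg (fun t => (Scheme.pointSmallEtale ξ).toPresheafFiber V t F.obj s) a.2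
      have h2 : (Scheme.pointSmallEtale ξ).toPresheafFiber W' y F.obj (F.obj.map (k ≫ b.1).op (σ m)) =
          (Scheme.pointSmallEtale ξ).toPresheafFiber U x F.obj (σ m) := by
        rw [← map_map', GrothendieckTopology.Point.toPresheafFiber_w_apply, hy',
          GrothendieckTopology.Point.toPresheafFiber_w_apply]
        exact congrArg (fun t => (Scheme.pointSmallEtale ξ).toPresheafFiber U t F.obj (σ m)) b.2
      change (Scheme.pointSmallEtale ξ).toPresheafFiber U x F.obj (σ m) = _
      rw [← h1, ← h2, hm]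
  · intro h
    refine ⟨fun {V} g s v => ?_, fun {V} g m m' hm v => ?_⟩
    · obtain ⟨Ω, _, _, ξ, x, hx⟩ := exists_point_at v
      let Φ := Scheme.pointSmallEtale ξ
      let v₀ : Φ.fiber.obj V := x
      obtain ⟨m, hm⟩ := (h Ω ξ (Φ.fiber.map g v₀)).2 (Φ.toPresheafFiber V v₀ F.obj s)
      have h1 : Φ.toPresheafFiber V v₀ F.obj s = Φ.toPresheafFiber V v₀ F.obj (F.obj.map g.op (σ m)) := by
        rw [GrothendieckTopology.Point.toPresheafFiber_w_apply]
        exact hm.symm
      obtain ⟨W, k, y, hy, hk⟩ := (Φ.toPresheafFiber_eq_iff' _ _ _ _).mp h1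
      let y' : Over.mk ξ ⟶ (Scheme.Etale.forget X).obj W := y
      refine ⟨W, k, m, ⟨y'.left (default : Spec (CommRingCat.of Ω)), ?_⟩, by rw [hk, map_map']⟩
      have : y'.left ≫ k.left = x.left := congrArg CommaMorphism.left hy
      rw [← hx, ← this]
      rfl
    · obtain ⟨Ω, _, _, ξ, x, -⟩ := exists_point_at v
      let Φ := Scheme.pointSmallEtale ξ
      let v₀ : Φ.fiber.obj V := x
      refine (h Ω ξ (Φ.fiber.map g v₀)).1 ?_
      have h1 := congrArg (Φ.toPresheafFiber V v₀ F.obj) hm
      rwa [GrothendieckTopology.Point.toPresheafFiber_w_apply,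
        GrothendieckTopology.Point.toPresheafFiber_w_apply] at h1

section Pull

variable [HasProducts.{u} A] {Y : Scheme.{u}} (f : Y ⟶ X)
  [((EtCoh.bc f).sheafPushforwardContinuous A X.smallEtaleTopology Y.smallEtaleTopology).IsRightAdjoint]

/-- trivialisations pull back -/
theorem IsTrivG.pull {F : Sheaf X.smallEtaleTopology A} {U : X.Etale} {M : Type*}
    {σ : M → ToType (F.obj.obj (op U))} (h : IsTrivG F U σ) :
    IsTrivG (((EtCoh.bc f).sheafPullback A X.smallEtaleTopology Y.smallEtaleTopology).obj F) ((EtCoh.bc f).obj U)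
      (fun m => (((EtCoh.bc f).sheafAdjunctionContinuous A X.smallEtaleTopology Y.smallEtaleTopology).unit.app F).hom.app
        (op U) (σ m)) := by
  rw [isTrivG_iff] at h ⊢
  intro Ω _ _ ξ x'
  let Ψ := Scheme.pointSmallEtale (ξ ≫ f)
  let Φ := Scheme.pointSmallEtale ξ
  let α := EtStalk.fiberIso f ξ
  let x : Ψ.fiber.obj U := α.hom.app U x'
  have hx : α.inv.app U x = x' := by
    change (α.hom.app U ≫ α.inv.app U) x' = x'
    rw [Iso.hom_inv_id_app]
    rfl
  let ι := (EtStalk.sheafFiberPullbackIso (EtCoh.bc f) Ψ Φ α A).hom.app F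
  have hι : Function.Bijective ι := by
    refine ⟨fun a b e => ?_, fun b => ⟨inv ι b, ?_⟩⟩
    · have := congrArg (inv ι) e
      rwa [← ConcreteCategory.comp_apply, ← ConcreteCategory.comp_apply, IsIso.hom_inv_id,
        ConcreteCategory.id_apply, ConcreteCategory.id_apply] at this
    · rw [← ConcreteCategory.comp_apply, IsIso.inv_hom_id, ConcreteCategory.id_apply]
  have key : ∀ m, ι (Ψ.toPresheafFiber U x F.obj (σ m)) = Φ.toPresheafFiber ((EtCoh.bc f).obj U) x'
      (((EtCoh.bc f).sheafPullback A X.smallEtaleTopology Y.smallEtaleTopology).obj F).obj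
      ((((EtCoh.bc f).sheafAdjunctionContinuous A X.smallEtaleTopology Y.smallEtaleTopology).unit.app F).hom.app
        (op U) (σ m)) := fun m => by
    have h0 := ConcreteCategory.congr_hom
      (EtShLib.toPresheafFiber_sheafFiberPullbackIso (EtCoh.bc f) Ψ Φ α (A := A) F U x) (σ m)
    rw [hx, ConcreteCategory.comp_apply, ConcreteCategory.comp_apply] at h0
    exact h0
  have := hι.comp (h Ω (ξ ≫ f) x)
  refine (congrArg Function.Bijective (funext fun m => ?_)).mp this
  exact key m

end Pull

section Iso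

variable {F : Sheaf X.smallEtaleTopology A} {U : X.Etale} {M : A}

local notation "JU" => GrothendieckTopology.over X.smallEtaleTopology U

variable [HasSheafify (X.smallEtaleTopology.over U) A] [(X.smallEtaleTopology.over U).WEqualsLocallyBijective A]

/-- the map of presheaves defined by a family of sections -/
def psi (σ : M ⟶ F.obj.obj (op U)) : (Functor.const (Over U)ᵒᵖ).obj M ⟶ (F.over U).obj where
  app V := σ ≫ F.obj.map V.unop.hom.op
  naturality V W k := by
    change 𝟙 M ≫ σ ≫ F.obj.map W.unop.hom.op = (σ ≫ F.obj.map V.unop.hom.op) ≫ F.obj.map k.unop.left.op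
    rw [Category.id_comp, Category.assoc, ← Functor.map_comp, ← op_comp, Over.w]

/-- trivialising sections give constancy -/
theorem nonempty_iso {σ : M ⟶ F.obj.obj (op U)} (h : IsTrivG F U (fun m : ToType M => σ m)) :
    Nonempty (F.over U ≅ (constantSheaf (JU) A).obj M) := by
  have hinj : Presheaf.IsLocallyInjective (JU) (psi σ) := ⟨fun {V} x y hxy => by
    refine EtFLC.mem_over U _ fun v => ⟨V.unop, 𝟙 _, v, ?_, rfl⟩
    have hxy' : (σ ≫ F.obj.map V.unop.hom.op) x = (σ ≫ F.obj.map V.unop.hom.op) y := hxy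
    rw [ConcreteCategory.comp_apply, ConcreteCategory.comp_apply] at hxy'
    have := h.inj V.unop.hom x y hxy' v
    subst this
    rfl⟩
  have hsurj : Presheaf.IsLocallySurjective (JU) (psi σ) := ⟨fun {V} s => by
    refine EtFLC.mem_over U _ fun v => ?_
    obtain ⟨W, k, m, ⟨w, hw⟩, hm⟩ := h.surj V.hom s v
    refine ⟨Over.mk (k ≫ V.hom), Over.homMk k, w, ⟨m, ?_⟩, hw⟩
    change (σ ≫ F.obj.map (k ≫ V.hom).op) m = F.obj.map k.op s
    rw [ConcreteCategory.comp_apply]
    exact hm.symm⟩
  have hW : (JU).W (psi σ) := (JU).W_of_isLocallyBijective _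
  haveI : IsIso ((presheafToSheaf (JU) A).map (psi σ)) := ((JU).W_iff _).1 hW
  exact ⟨sheafificationIso (F.over U) ≪≫ (asIso ((presheafToSheaf (JU) A).map (psi σ))).symm⟩

/-- conversely -/
theorem exists_triv (e : F.over U ≅ (constantSheaf (JU) A).obj M) :
    ∃ σ : M ⟶ F.obj.obj (op U), IsTrivG F U (fun m : ToType M => σ m) := by
  let α : (Functor.const (Over U)ᵒᵖ).obj M ⟶ (F.over U).obj :=
    toSheafify (JU) ((Functor.const (Over U)ᵒᵖ).obj M) ≫ ((sheafToPresheaf (JU) A).mapIso e).inv
  let σ : M ⟶ F.obj.obj (op U) := α.app (op (Over.mk (𝟙 U)))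
  have hα : ∀ {V : X.Etale} (g : V ⟶ U), α.app (op (Over.mk g)) = σ ≫ F.obj.map g.op := fun {V} g => by
    have := α.naturality (Over.homMk g : Over.mk g ⟶ Over.mk (𝟙 U)).op
    exact (Category.id_comp _).symm.trans this
  have hw : (JU).W α := by
    refine ((JU).W).comp_mem _ _ ((JU).W_toSheafify _) ?_
    exact ((JU).W).of_isIso _
  have hb := ((JU).W_iff_isLocallyBijective α).1 hw
  haveI := hb.1
  haveI := hb.2
  refine ⟨σ, ⟨fun {V} g s v => ?_, fun {V} g m m' hm v => ?_⟩⟩
  · obtain ⟨W, k, w, hw, m, hm⟩ :=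
      EtFLC.exists_of_mem_over U (Presheaf.imageSieve_mem (JU) α (U := op (Over.mk g)) s) v
    refine ⟨W, k, m, ⟨w, hw⟩, ?_⟩
    have h1 : α.app (op (Over.mk (k ≫ g))) m = F.obj.map k.op s := hm
    rw [hα, ConcreteCategory.comp_apply] at h1
    exact h1.symm
  · have h0 : α.app (op (Over.mk g)) m = α.app (op (Over.mk g)) m' := by
      rw [hα, ConcreteCategory.comp_apply, ConcreteCategory.comp_apply]
      exact hm
    obtain ⟨W, k, w, -, hk⟩ := EtFLC.exists_of_mem_over U (Presheaf.equalizerSieve_mem (JU) α m m' h0) v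
    have hk' : (𝟙 M : M ⟶ M) m = (𝟙 M : M ⟶ M) m' := hk
    rwa [ConcreteCategory.id_apply, ConcreteCategory.id_apply] at hk'

end Iso

end Groth.Agent.EtTrivGen
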