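import Groth.Agent.EtTrivGen.ConsMod
import Groth.Agent.EtCons.Supp
import Groth.Prelude.Def_ARSys

/-!
Adic systems of etale sheaves of modules: transport along stalks and inverse images.
-/

set_option autoImplicit false
set_option backward.isDefEq.respectTransparency false
set_option linter.style.haveILetI false
set_option linter.unusedSectionVars false

universe u v v' w w' z

open CategoryTheory CategoryTheory.Limits AlgebraicGeometry Opposite

noncomputable section

namespace Groth.Agent.EtTrivGen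

section General

variable {A : Type z} [CommRing A] {C : Type w} [Category.{v} C] [Abelian C] [Linear A C]
  {D : Type w'} [Category.{v'} D] [Abelian D] [Linear A D] {L : C ⥤ D} {R : D ⥤ C}

theorem adj_map_smul_id (adj : L ⊣ R) [R.Additive] [Functor.Linear A R] (a : A) (X : C) :
    L.map (a • 𝟙 X) = a • 𝟙 (L.obj X) := by
  apply (adj.homEquiv _ _).injective
  simp only [Adjunction.homEquiv_unit, Functor.map_smul, R.map_id, Linear.comp_smul, Category.comp_id]
  refine (adj.unit.naturality (a • 𝟙 X)).symm.trans ?_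
  simp

theorem killedBy_map (adj : L ⊣ R) [R.Additive] [Functor.Linear A R] {I : Ideal A} {X : C}
    (h : ARSys.KilledBy I X) : ARSys.KilledBy I (L.obj X) := fun a ha => by
  rw [← adj_map_smul_id adj a X, h a ha]
  haveI := adj.leftAdjoint_preservesColimits
  haveI : L.Additive := adj.left_adjoint_additive
  exact L.map_zero _ _

theorem isQuot_map (adj : L ⊣ R) [R.Additive] [Functor.Linear A R] {I : Ideal A} {X Q : C} {p : X ⟶ Q}
    (h : ARSys.IsQuot I p) : ARSys.IsQuot I (L.map p) := by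
  refine ⟨killedBy_map adj h.1, fun Y φ hφ => ?_⟩
  have hφ' : ARSys.HomKilledBy I (adj.homEquiv _ _ φ) := fun a ha => by
    rw [Adjunction.homEquiv_unit, ← Linear.comp_smul, ← Functor.map_smul, hφ a ha, R.map_zero, comp_zero]
  obtain ⟨ψ, hψ, hu⟩ := h.2 (R.obj Y) (adj.homEquiv _ _ φ) hφ'
  refine ⟨(adj.homEquiv _ _).symm ψ, ?_, fun ψ' hψ' => ?_⟩
  · dsimp only
    rw [← adj.homEquiv_naturality_left_symm, hψ, Equiv.symm_apply_apply]
  · refine (adj.homEquiv _ _).eq_symm_apply.2 (hu _ ?_)
    dsimp only at hψ' ⊢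
    rw [← adj.homEquiv_naturality_left, hψ']

theorem termKilled_map (adj : L ⊣ R) [R.Additive] [Functor.Linear A R] {I : Ideal A} {F : ARSys.PS C}
    (h : ARSys.TermKilled I F) : ARSys.TermKilled I (F ⋙ L) :=
  fun n => killedBy_map adj (h n)

theorem isAdic_map (adj : L ⊣ R) [R.Additive] [Functor.Linear A R] {I : Ideal A} {F : ARSys.PS C}
    (h : ARSys.IsAdic I F) : ARSys.IsAdic I (F ⋙ L) :=
  ⟨termKilled_map adj h.1, fun n m hnm => isQuot_map adj (h.2 n m hnm)⟩

theorem isARNull_map [L.PreservesZeroMorphisms] {F : ARSys.PS C} (h : ARSys.IsARNull F) :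
    ARSys.IsARNull (F ⋙ L) := by
  obtain ⟨r, hr⟩ := h
  exact ⟨r, fun n => (congrArg (fun t => L.map t) (hr n)).trans (L.map_zero _ _)⟩

theorem isARNull_of_iso {F G : ARSys.PS D} (e : F ≅ G) (h : ARSys.IsARNull F) : ARSys.IsARNull G := by
  obtain ⟨r, hr⟩ := h
  refine ⟨r, fun n => ?_⟩
  have h1 := e.hom.naturality (homOfLE (Nat.le_add_right n r)).op
  rw [← cancel_epi (e.hom.app (op (n + r))), comp_zero]
  refine h1.symm.trans ?_
  exact (congrArg (· ≫ e.hom.app (op n)) (hr n)).trans zero_comp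

theorem isARIso_map [PreservesFiniteLimits L] [PreservesFiniteColimits L] {F G : ARSys.PS C} (w : F ⟶ G)
    (h : ARSys.IsARIso w) : ARSys.IsARIso (Functor.whiskerRight w L) := by
  haveI : L.Additive := Functor.additive_of_preserves_binary_products _
  let W := (Functor.whiskeringRight ℕᵒᵖ C D).obj L
  haveI : PreservesFiniteLimits W := ⟨fun J _ _ => ⟨fun {K} => preservesLimit_of_evaluation _ _ fun j =>
      inferInstanceAs (PreservesLimit K ((evaluation ℕᵒᵖ C).obj j ⋙ L))⟩⟩
  haveI : PreservesFiniteColimits W :=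
    ⟨fun J _ _ => ⟨fun {K} => preservesColimit_of_evaluation _ _ fun j =>
      inferInstanceAs (PreservesColimit K ((evaluation ℕᵒᵖ C).obj j ⋙ L))⟩⟩
  exact ⟨isARNull_of_iso (PreservesKernel.iso W w) (isARNull_map h.1),
    isARNull_of_iso (PreservesCokernel.iso W w) (isARNull_map h.2)⟩

end General

variable {Λ : Type (u + 1)} [CommRing Λ] {X : Scheme.{u}}

/-- stalks of finite type locally constant sheaves are finite -/
theorem finite_stalk_of_isFTLocConst {F : EtModW.Mod Λ X} (hF : EtModW.IsFTLocConst Λ F) {Ω : Type u} [Field Ω]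
    [IsSepClosed Ω] (ξ : Spec (CommRingCat.of Ω) ⟶ X) : Module.Finite Λ ((EtModW.stalk Λ ξ).obj F) := by
  obtain ⟨U, y, M, _, _, _, σ, hσ⟩ := (isFTLocConst_iff F).1 hF Ω ξ
  exact Module.Finite.of_surjective ((gm F y).comp σ) (hσ.bij y).2

/-- stalks of constructible sheaves are finite -/
theorem finite_stalk {F : EtModW.Mod Λ X} (hF : EtModW.IsConstructible Λ F) {Ω : Type u} [Field Ω]
    [IsSepClosed Ω] (ξ : Spec (CommRingCat.of Ω) ⟶ X) : Module.Finite Λ ((EtModW.stalk Λ ξ).obj F) := by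
  obtain ⟨U, hU, hxU, T, g, C, hg, -, ⟨hx, hxC⟩, hCg, hgF⟩ :=
    (isConstructible_iff_goodAt F).1 hF (ξ (default : Spec (CommRingCat.of Ω)))
  obtain ⟨t, ht⟩ := hCg ⟨_, hxC, rfl⟩
  haveI := hg
  obtain ⟨η, rfl, -⟩ := EtCons.exists_point_lift g ξ t ht.symm
  haveI := finite_stalk_of_isFTLocConst hgF η
  let e := (EtStalk.sheafFiberPullbackIso (EtCoh.bc g) (Scheme.pointSmallEtale (η ≫ g)) (Scheme.pointSmallEtale η)
    (EtStalk.fiberIso g η) (ModuleCat.{u + 1} Λ)).app F
  haveI : Module.Finite Λ (((EtCoh.bc g).sheafPullback (ModuleCat.{u + 1} Λ) X.smallEtaleTopology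
      T.smallEtaleTopology ⋙ (Scheme.pointSmallEtale η).sheafFiber).obj F) :=
    finite_stalk_of_isFTLocConst hgF η
  exact Module.Finite.equiv e.toLinearEquiv.symm

end Groth.Agent.EtTrivGen
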