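import Groth.Agent.EtTrivGen.AdicGlue

/-!
Being adic up to translation is local for finite surjective families.
-/

set_option autoImplicit false
set_option backward.isDefEq.respectTransparency false
set_option backward.isDefEq.respectTransparency.types false
set_option linter.style.haveILetI false
set_option linter.unusedSectionVars false
set_option maxHeartbeats 1000000

universe u v v₁ w w₁ z

open CategoryTheory CategoryTheory.Limits AlgebraicGeometry Opposite

noncomputable section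

namespace Groth.Agent.EtTrivGen

section General

variable {A : Type z} [CommRing A] [IsNoetherianRing A] {C : Type w} [Category.{v} C] [Abelian C] [Linear A C]
  {ι : Type*} [Fintype ι] {D : ι → Type w₁} [∀ i, Category.{v₁} (D i)] [∀ i, Abelian (D i)] [∀ i, Linear A (D i)]
  (L : ∀ i, C ⥤ D i) [∀ i, (L i).Additive] [∀ i, Functor.Linear A (L i)] [∀ i, PreservesFiniteLimits (L i)]
  [∀ i, PreservesFiniteColimits (L i)]
  (hz : ∀ {X Y : C} (f : X ⟶ Y), (∀ i, (L i).map f = 0) → f = 0)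

include hz in
/-- jointly faithful families of exact linear functors reflect being adic up to translation -/
theorem isARAdic_of_map_family {J : Ideal A} {X : ARSys.PS C} (hk : ARSys.TermKilled J X)
    (h : ∀ i, ARSys.IsARAdic J (X ⋙ L i)) : ARSys.IsARAdic J X := by
  choose r hr using fun i => (ARLib.isMLAR_iff _).1 (ARLib.isMLAR_of_isARAdic (h i))
  have hr' : ARLib.MLb X (Finset.univ.sup r) := fun n m k a b => (rng_le_iff_comp _ _).2
    (hz _ fun i => map_comp_π_eq_zero (L i) _ _ (((hr i).mono (Finset.le_sup (Finset.mem_univ i))) n m k a b))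
  let Y := ARLib.univSys hr'
  let e : Y ⟶ X := ARLib.univι hr'
  have he : ARSys.IsARIso e := ARLib.isARIso_univι hr'
  have hstr : ARSys.IsStrict Y := ARLib.isStrict_univSys hr'
  haveI : Mono e := inferInstanceAs (Mono (ARLib.univι hr'))
  have hkY : ARSys.TermKilled J Y := ARLib.termKilled_of_mono e hk
  have hs : ∀ i, ARSys.IsStrict (Y ⋙ L i) := fun i n m hnm => by
    haveI := hstr n m hnm
    exact inferInstanceAs (Epi ((L i).map (ARSys.tr Y hnm)))
  have hk' : ∀ i, ARSys.TermKilled J (Y ⋙ L i) := fun i n a ha => by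
    change a • 𝟙 ((L i).obj (Y.obj (op n))) = 0
    rw [← (L i).map_id, ← Functor.map_smul, hkY n a ha, (L i).map_zero]
  choose t ht using fun i =>
    ARLib.crit_of_isARAdic (hs i) (ARLib.isARAdic_of_isARIso' (isARIso_map e he) (hk' i) (h i))
  refine ARLib.isARAdic_of_isARIso he hk (ARLib.isARAdic_of_crit hstr hkY (r := Finset.univ.sup t) fun n m hnm => ?_)
  refine (ARLib.subLE_iff _).1 fun W φ hφ => hz _ fun i => ?_
  exact map_ker_comp_eq_zero (L i) _ _ ((ht i n m hnm).trans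
    (ARLib.P_anti (Nat.sub_le_sub_left (Finset.le_sup (Finset.mem_univ i)) _) _)) φ hφ

end General

variable {Λ : Type (u + 1)} [CommRing Λ] [IsNoetherianRing Λ] {X : Scheme.{u}} [IsNoetherian X]

theorem eq_zero_of_stalks {F G : EtModW.Mod Λ X} (f : F ⟶ G)
    (h : ∀ (Ω : Type u) [Field Ω] [IsSepClosed Ω] (ξ : Spec (CommRingCat.of Ω) ⟶ X),
      (EtModW.stalk Λ ξ).map f = 0) : f = 0 := by
  haveI : IsIso (kernel.ι f) := isIso_of_stalk _ fun Ω _ _ ξ => by
    refine (ConcreteCategory.isIso_iff_bijective _).2 ⟨stalk_injective ξ _, fun z => ?_⟩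
    exact stalk_exact ξ (S := ShortComplex.mk _ _ (kernel.condition f))
      (ShortComplex.exact_of_f_is_kernel _ (kernelIsKernel f)) z (by
        show (EtModW.stalk Λ ξ).map f z = 0
        rw [h]; rfl)
  rw [← cancel_epi (kernel.ι f), kernel.condition, comp_zero]

theorem isARAdic_of_cover {I : Ideal Λ} {m : ℕ} (U : Fin m → Scheme.{u}) (g : ∀ i, U i ⟶ X)
    (hlift : ∀ (Ω : Type u) [Field Ω] [IsSepClosed Ω] (ξ : Spec (CommRingCat.of Ω) ⟶ X),
      ∃ (i : Fin m) (η : Spec (CommRingCat.of Ω) ⟶ U i), η ≫ g i = ξ)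
    (F : ARSys.PS (EtModW.Mod Λ X)) (hc : ∀ n : ℕ, EtModW.IsConstructible Λ (F.obj (op n)))
    (hk : ARSys.TermKilled I F) (h : ∀ i, ARSys.IsARAdic I (F ⋙ EtModW.pull Λ (g i))) :
    ∃ (Y : ARSys.PS (EtModW.Mod Λ X)) (v : Y ⟶ F), ARSys.IsAdic I Y ∧
      (∀ n : ℕ, EtModW.IsConstructible Λ (Y.obj (op n))) ∧ ARSys.IsARIso v := by
  let P := consP Λ X
  haveI : PreservesFiniteLimits P.ι := WSerre.preservesFiniteLimits_ι P
  haveI : PreservesFiniteColimits P.ι := WSerre.preservesFiniteColimits_ι P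
  haveI := fun i => RPlusComp.pullMod_preservesFiniteLimits Λ (g i)
  haveI : ∀ i, (EtModW.pull Λ (g i)).IsLeftAdjoint := fun i => (EtSix.pullPushModAdj Λ (g i)).isLeftAdjoint
  haveI : ∀ i, (EtModW.pull Λ (g i)).Additive := fun i => (EtSix.pullPushModAdj Λ (g i)).left_adjoint_additive
  haveI : ∀ i, Functor.Linear Λ (EtModW.pull Λ (g i)) := fun i =>
    ⟨fun {_ _} φ a => adj_map_smul (EtSix.pullPushModAdj Λ (g i)) a φ⟩
  let L := fun i => P.ι ⋙ EtModW.pull Λ (g i)
  haveI : ∀ i, PreservesFiniteLimits (L i) := fun i => comp_preservesFiniteLimits _ _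
  haveI : ∀ i, PreservesFiniteColimits (L i) := fun i => comp_preservesFiniteColimits _ _
  haveI : ∀ i, (L i).Additive := fun i => inferInstanceAs (P.ι ⋙ EtModW.pull Λ (g i)).Additive
  haveI : ∀ i, Functor.Linear Λ (L i) := fun i => inferInstanceAs (Functor.Linear Λ (P.ι ⋙ EtModW.pull Λ (g i)))
  let F' := liftSys P F hc
  have hk' : ARSys.TermKilled I F' := fun n => (killedBy_hom_iff P _).2 (hk n)
  obtain ⟨-, Y, v, hY, hv⟩ := isARAdic_of_map_family L
    (fun {E E'} f hf => InducedCategory.hom_ext (eq_zero_of_stalks f.hom fun Ω _ _ ξ => by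
      obtain ⟨i, η, rfl⟩ := hlift Ω ξ
      exact stalk_map_eq_zero (g i) f.hom (hf i) Ω η)) hk' h
  exact ⟨Y ⋙ P.ι, Functor.whiskerRight v P.ι, (isAdic_ι_iff P Y).1 hY,
    fun n => (Y.obj (op n)).property, (isARIso_ι_iff P v).1 hv⟩

theorem exists_lift_of_etale {m : ℕ} (U : Fin m → Scheme.{u}) (g : ∀ i, U i ⟶ X) [∀ i, Etale (g i)]
    (hsurj : (⋃ i, Set.range (fun t => (g i).base t)) = Set.univ)
    (Ω : Type u) [Field Ω] [IsSepClosed Ω] (ξ : Spec (CommRingCat.of Ω) ⟶ X) :
    ∃ (i : Fin m) (η : Spec (CommRingCat.of Ω) ⟶ U i), η ≫ g i = ξ := by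
  obtain ⟨i, t, ht⟩ := Set.mem_iUnion.1 (hsurj.ge (Set.mem_univ (ξ (default : Spec (CommRingCat.of Ω)))))
  obtain ⟨l, -⟩ := Scheme.pointSmallEtaleFiberObjToPreimage_surjective ξ
    (s₀ := ξ default) rfl (Scheme.Etale.mk (g i)) ⟨t, ht⟩
  let l' : Over.mk ξ ⟶ Over.mk (g i) := l
  exact ⟨i, l'.left, Over.w l'⟩

end Groth.Agent.EtTrivGen
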