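import Groth.Agent.EtTrivGen.AdicReflect

/-!
Being adic up to translation glues along complementary open and closed subschemes.
-/

set_option autoImplicit false
set_option backward.isDefEq.respectTransparency false
set_option backward.isDefEq.respectTransparency.types false
set_option linter.style.haveILetI false
set_option linter.unusedSectionVars false
set_option maxHeartbeats 1000000

universe u v v₁ v₂ w w₁ w₂ z

open CategoryTheory CategoryTheory.Limits AlgebraicGeometry Opposite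

noncomputable section

namespace Groth.Agent.EtTrivGen

section General

variable {A : Type z} [CommRing A] [IsNoetherianRing A] {C : Type w} [Category.{v} C] [Abelian C] [Linear A C]
  {D₁ : Type w₁} [Category.{v₁} D₁] [Abelian D₁] [Linear A D₁]
  {D₂ : Type w₂} [Category.{v₂} D₂] [Abelian D₂] [Linear A D₂]
  (L₁ : C ⥤ D₁) [L₁.Additive] [Functor.Linear A L₁] [PreservesFiniteLimits L₁] [PreservesFiniteColimits L₁]
  (L₂ : C ⥤ D₂) [L₂.Additive] [Functor.Linear A L₂] [PreservesFiniteLimits L₂] [PreservesFiniteColimits L₂]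
  (hz : ∀ {X Y : C} (f : X ⟶ Y), L₁.map f = 0 → L₂.map f = 0 → f = 0)

theorem map_comp_π_eq_zero {D : Type w₁} [Category.{v₁} D] [Abelian D] (L : C ⥤ D) [L.Additive] {X X' Y : C}
    (f : X ⟶ Y) (g : X' ⟶ Y) (h : ARLib.rng (L.map f) ≤ ARLib.rng (L.map g)) :
    L.map (f ≫ cokernel.π g) = 0 := by
  rw [rng_le_iff_comp] at h
  have h0 : L.map g ≫ L.map (cokernel.π g) = 0 := by rw [← L.map_comp, cokernel.condition, L.map_zero]
  rw [L.map_comp, ← cokernel.π_desc (L.map g) _ h0, ← Category.assoc, h, zero_comp]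

theorem map_ker_comp_eq_zero {D : Type w₁} [Category.{v₁} D] [Abelian D] [Linear A D] (L : C ⥤ D) [L.Additive]
    [Functor.Linear A L] {J : Ideal A} {X Y W : C} (f : X ⟶ Y) (k : ℕ)
    (h : ARLib.ker (L.map f) ≤ ARLib.P J k ⊤) (φ : X ⟶ W) (hφ : ARSys.HomKilledBy (J ^ k) φ) :
    L.map ((ARLib.ker f).arrow ≫ φ) = 0 := by
  have hk : ARSys.HomKilledBy (J ^ k) (L.map φ) := fun a ha => by
    rw [← Functor.map_smul, hφ a ha, L.map_zero]
  have h1 := (ARLib.subLE_iff _).2 h _ (L.map φ) hk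
  have h0 : L.map (ARLib.ker f).arrow ≫ L.map f = 0 := by
    rw [← L.map_comp, ← L.map_zero]
    exact congrArg L.map ((ARLib.ker_factors_iff f _).1 (Subobject.factors_self _))
  obtain ⟨t, ht⟩ : ∃ t, t ≫ (ARLib.ker (L.map f)).arrow = L.map (ARLib.ker f).arrow :=
    ⟨_, Subobject.factorThru_arrow _ _ ((ARLib.ker_factors_iff _ _).2 h0)⟩
  rw [L.map_comp, ← ht, Category.assoc, h1, comp_zero]

include hz in
/-- jointly faithful exact linear functors reflect being adic up to translation -/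
theorem isARAdic_of_map₂ {J : Ideal A} {X : ARSys.PS C} (hk : ARSys.TermKilled J X)
    (h₁ : ARSys.IsARAdic J (X ⋙ L₁)) (h₂ : ARSys.IsARAdic J (X ⋙ L₂)) : ARSys.IsARAdic J X := by
  obtain ⟨r₁, hr₁⟩ := (ARLib.isMLAR_iff _).1 (ARLib.isMLAR_of_isARAdic h₁)
  obtain ⟨r₂, hr₂⟩ := (ARLib.isMLAR_iff _).1 (ARLib.isMLAR_of_isARAdic h₂)
  have hr' : ARLib.MLb X (max r₁ r₂) := fun n m k a b => (rng_le_iff_comp _ _).2
    (hz _ (map_comp_π_eq_zero L₁ _ _ ((hr₁.mono (le_max_left _ _)) n m k a b))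
      (map_comp_π_eq_zero L₂ _ _ ((hr₂.mono (le_max_right _ _)) n m k a b)))
  let Y := ARLib.univSys hr'
  let ι : Y ⟶ X := ARLib.univι hr'
  have hι : ARSys.IsARIso ι := ARLib.isARIso_univι hr'
  have hstr : ARSys.IsStrict Y := ARLib.isStrict_univSys hr'
  haveI : Mono ι := inferInstanceAs (Mono (ARLib.univι hr'))
  have hkY : ARSys.TermKilled J Y := ARLib.termKilled_of_mono ι hk
  have hs₁ : ARSys.IsStrict (Y ⋙ L₁) := fun n m hnm => by
    haveI := hstr n m hnm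
    exact inferInstanceAs (Epi (L₁.map (ARSys.tr Y hnm)))
  have hs₂ : ARSys.IsStrict (Y ⋙ L₂) := fun n m hnm => by
    haveI := hstr n m hnm
    exact inferInstanceAs (Epi (L₂.map (ARSys.tr Y hnm)))
  have hk₁ : ARSys.TermKilled J (Y ⋙ L₁) := fun n a ha => by
    change a • 𝟙 (L₁.obj (Y.obj (op n))) = 0
    rw [← L₁.map_id, ← Functor.map_smul, hkY n a ha, L₁.map_zero]
  have hk₂ : ARSys.TermKilled J (Y ⋙ L₂) := fun n a ha => by
    change a • 𝟙 (L₂.obj (Y.obj (op n))) = 0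
    rw [← L₂.map_id, ← Functor.map_smul, hkY n a ha, L₂.map_zero]
  obtain ⟨t₁, ht₁⟩ := ARLib.crit_of_isARAdic hs₁ (ARLib.isARAdic_of_isARIso' (isARIso_map ι hι) hk₁ h₁)
  obtain ⟨t₂, ht₂⟩ := ARLib.crit_of_isARAdic hs₂ (ARLib.isARAdic_of_isARIso' (isARIso_map ι hι) hk₂ h₂)
  refine ARLib.isARAdic_of_isARIso hι hk (ARLib.isARAdic_of_crit hstr hkY (r := max t₁ t₂) fun n m hnm => ?_)
  refine (ARLib.subLE_iff _).1 fun W φ hφ => hz _ ?_ ?_
  · exact map_ker_comp_eq_zero L₁ _ _ ((ht₁ n m hnm).trans (ARLib.P_anti (by omega) _)) φ hφ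
  · exact map_ker_comp_eq_zero L₂ _ _ ((ht₂ n m hnm).trans (ARLib.P_anti (by omega) _)) φ hφ

end General

variable {Λ : Type (u + 1)} [CommRing Λ] [IsNoetherianRing Λ] {X U Z : Scheme.{u}} [IsNoetherian X]

theorem stalk_map_eq_zero {T : Scheme.{u}} (g : T ⟶ X) {F G : EtModW.Mod Λ X} (f : F ⟶ G)
    (h : (EtModW.pull Λ g).map f = 0) (Ω : Type u) [Field Ω] [IsSepClosed Ω] (η : Spec (CommRingCat.of Ω) ⟶ T) :
    (EtModW.stalk Λ (η ≫ g)).map f = 0 := by
  let e : EtModW.stalk Λ (η ≫ g) ≅ EtModW.pull Λ g ⋙ EtModW.stalk Λ η :=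
    EtStalk.sheafFiberPullbackIso (EtCoh.bc g) (Scheme.pointSmallEtale (η ≫ g)) (Scheme.pointSmallEtale η)
      (EtStalk.fiberIso g η) (ModuleCat.{u + 1} Λ)
  have h1 := NatIso.naturality_1 e f
  rw [← NatIso.naturality_2 e f, Functor.comp_map, h, Functor.map_zero, zero_comp, comp_zero]

theorem eq_zero_of_stalk_cover (j : U ⟶ X) [IsPreimmersion j] (i : Z ⟶ X) [IsPreimmersion i]
    (hcov : ∀ x : X, x ∈ Set.range j ∨ x ∈ Set.range i) {F G : EtModW.Mod Λ X} (f : F ⟶ G)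
    (h₁ : (EtModW.pull Λ j).map f = 0) (h₂ : (EtModW.pull Λ i).map f = 0) : f = 0 := by
  have hp := fun {T : Scheme.{u}} (g : T ⟶ X) (h : (EtModW.pull Λ g).map f = 0) => stalk_map_eq_zero (Λ := Λ) g f h
  haveI : IsIso (kernel.ι f) := isIso_of_stalk _ fun Ω _ _ ξ => by
    have hf : (EtModW.stalk Λ ξ).map f = 0 := by
      rcases hcov (ξ (default : Spec (CommRingCat.of Ω))) with ⟨t, ht⟩ | ⟨t, ht⟩
      · obtain ⟨η, rfl, -⟩ := EtCons.exists_point_lift j ξ t ht.symm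
        exact hp j h₁ Ω η
      · obtain ⟨η, rfl, -⟩ := EtCons.exists_point_lift i ξ t ht.symm
        exact hp i h₂ Ω η
    refine (ConcreteCategory.isIso_iff_bijective _).2 ⟨stalk_injective ξ _, fun z => ?_⟩
    exact stalk_exact ξ (S := ShortComplex.mk _ _ (kernel.condition f))
      (ShortComplex.exact_of_f_is_kernel _ (kernelIsKernel f)) z (by
        show (EtModW.stalk Λ ξ).map f z = 0
        rw [hf]; rfl)
  rw [← cancel_epi (kernel.ι f), kernel.condition, comp_zero]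

theorem isARAdic_of_glue {I : Ideal Λ} (j : U ⟶ X) [IsPreimmersion j] (i : Z ⟶ X) [IsPreimmersion i]
    (hcov : ∀ x : X, x ∈ Set.range j ∨ x ∈ Set.range i) (F : ARSys.PS (EtModW.Mod Λ X))
    (hc : ∀ n : ℕ, EtModW.IsConstructible Λ (F.obj (op n))) (hk : ARSys.TermKilled I F)
    (h₁ : ARSys.IsARAdic I (F ⋙ EtModW.pull Λ j)) (h₂ : ARSys.IsARAdic I (F ⋙ EtModW.pull Λ i)) :
    ∃ (Y : ARSys.PS (EtModW.Mod Λ X)) (v : Y ⟶ F), ARSys.IsAdic I Y ∧
      (∀ n : ℕ, EtModW.IsConstructible Λ (Y.obj (op n))) ∧ ARSys.IsARIso v := by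
  let P := consP Λ X
  haveI : PreservesFiniteLimits P.ι := WSerre.preservesFiniteLimits_ι P
  haveI : PreservesFiniteColimits P.ι := WSerre.preservesFiniteColimits_ι P
  haveI := RPlusComp.pullMod_preservesFiniteLimits Λ j
  haveI := RPlusComp.pullMod_preservesFiniteLimits Λ i
  haveI : (EtModW.pull Λ j).IsLeftAdjoint := (EtSix.pullPushModAdj Λ j).isLeftAdjoint
  haveI : (EtModW.pull Λ i).IsLeftAdjoint := (EtSix.pullPushModAdj Λ i).isLeftAdjoint
  haveI : (EtModW.pull Λ j).Additive := (EtSix.pullPushModAdj Λ j).left_adjoint_additive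
  haveI : (EtModW.pull Λ i).Additive := (EtSix.pullPushModAdj Λ i).left_adjoint_additive
  haveI : Functor.Linear Λ (EtModW.pull Λ j) := ⟨fun {_ _} φ a => adj_map_smul (EtSix.pullPushModAdj Λ j) a φ⟩
  haveI : Functor.Linear Λ (EtModW.pull Λ i) := ⟨fun {_ _} φ a => adj_map_smul (EtSix.pullPushModAdj Λ i) a φ⟩
  let L₁ := P.ι ⋙ EtModW.pull Λ j
  let L₂ := P.ι ⋙ EtModW.pull Λ i
  haveI : PreservesFiniteLimits L₁ := comp_preservesFiniteLimits _ _
  haveI : PreservesFiniteLimits L₂ := comp_preservesFiniteLimits _ _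
  haveI : PreservesFiniteColimits L₁ := comp_preservesFiniteColimits _ _
  haveI : PreservesFiniteColimits L₂ := comp_preservesFiniteColimits _ _
  let F' := liftSys P F hc
  have hk' : ARSys.TermKilled I F' := fun n => (killedBy_hom_iff P _).2 (hk n)
  obtain ⟨-, Y, v, hY, hv⟩ := isARAdic_of_map₂ L₁ L₂
    (fun f a b => InducedCategory.hom_ext (eq_zero_of_stalk_cover j i hcov f.hom a b)) hk'
    (h₁ : ARSys.IsARAdic I (F' ⋙ L₁)) (h₂ : ARSys.IsARAdic I (F' ⋙ L₂))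
  exact ⟨Y ⋙ P.ι, Functor.whiskerRight v P.ι, (isAdic_ι_iff P Y).1 hY,
    fun n => (Y.obj (op n)).property, (isARIso_ι_iff P v).1 hv⟩

end Groth.Agent.EtTrivGen
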