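import Groth.Agent.EtTrivGen.Adic
import Groth.Agent.EtTrivGen.Exact
import Groth.Agent.EtCons.Generic
import Groth.Agent.EtCons.NoethCons
import Mathlib.CategoryTheory.Subobject.NoetherianObject

/-!
Constructible sheaves of modules on a Noetherian scheme are Noetherian objects.
-/

set_option autoImplicit false
set_option backward.isDefEq.respectTransparency false
set_option backward.isDefEq.respectTransparency.types false
set_option linter.style.haveILetI false
set_option linter.unusedSectionVars false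

universe u

open CategoryTheory CategoryTheory.Limits AlgebraicGeometry Opposite Topology TopologicalSpace

noncomputable section

namespace Groth.Agent.EtTrivGen

variable {Λ : Type (u + 1)} [CommRing Λ] {T : Scheme.{u}}

/-- a value lifting to a subsheaf somewhere lifts at the generic point -/
theorem mem_range_of_mem_range {H G : EtModW.Mod Λ T} (ι : H ⟶ G) {U : T.Etale}
    {Ω : Type u} [Field Ω] [IsSepClosed Ω] {ξ : Spec (CommRingCat.of Ω) ⟶ T}
    (y : (Scheme.pointSmallEtale ξ).fiber.obj U)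
    (hy : ∀ v : U.left, (y : Over.mk ξ ⟶ (Scheme.Etale.forget T).obj U).left
      (default : Spec (CommRingCat.of Ω)) ⤳ v)
    (s : G.obj.obj (op U)) {Ω' : Type u} [Field Ω'] [IsSepClosed Ω'] {η : Spec (CommRingCat.of Ω') ⟶ T}
    (x : (Scheme.pointSmallEtale η).fiber.obj U) (z : (EtModW.stalk Λ η).obj H)
    (hz : (EtModW.stalk Λ η).map ι z = gm G x s) :
    ∃ z' : (EtModW.stalk Λ ξ).obj H, (EtModW.stalk Λ ξ).map ι z' = gm G y s := by
  obtain ⟨W, g, w, -, t, ht⟩ := exists_lift ι x s z hz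
  let w' : Over.mk η ⟶ (Scheme.Etale.forget T).obj W := w
  haveI : Etale g.left := EtShLib.etale_left g
  have ho : IsOpen (Set.range g.left) := (Scheme.Hom.isOpenMap g.left).isOpen_range
  obtain ⟨y', hy'⟩ := exists_point_lift g (y : Over.mk ξ ⟶ (Scheme.Etale.forget T).obj U)
    ((hy (g.left (w'.left (default : Spec (CommRingCat.of Ω'))))).mem_open ho ⟨_, rfl⟩)
  refine ⟨gm H y' t, ?_⟩
  rw [map_gm, ht, gm_rs]
  exact congrArg (fun q => gm G q s) hy'

variable {X : Scheme.{u}}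

theorem exists_generic_stratum [IsLocallyNoetherian X] {F : EtModW.Mod Λ X} (hF : EtModW.IsConstructible Λ F) (x : X) :
    ∃ (T : Scheme.{u}) (j : T ⟶ X) (_ : IsImmersion j) (_ : IsLocallyNoetherian T) (t : T), j t = x ∧
      (∀ y : T, t ⤳ y) ∧ FT F T j := by
  obtain ⟨U, hU, hxU, T₀, g, C, hg, hC, ⟨hh, hxC⟩, hCg, hgF⟩ := (isConstructible_iff_goodAt F).1 hF x
  haveI := hg
  obtain ⟨t₀, ht₀⟩ := hCg ⟨_, hxC, rfl⟩
  obtain ⟨T, i, hi, hir⟩ := EtCons.exists_immersion_range (isClosed_closure (s := ({t₀} : Set T₀))).isLocallyClosed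
  haveI := hi
  haveI : IsLocallyNoetherian T := LocallyOfFiniteType.isLocallyNoetherian (i ≫ g)
  obtain ⟨t, ht⟩ : t₀ ∈ Set.range i := hir ▸ subset_closure rfl
  refine ⟨T, i ≫ g, inferInstance, inferInstance, t, (congrArg g ht).trans ht₀, fun y => ?_, FT.comp i g hgF⟩
  rw [← i.isEmbedding.isInducing.specializes_iff, ht, specializes_iff_mem_closure, ← hir]
  exact ⟨y, rfl⟩

/-- stalks of inverse images -/
theorem isIso_stalk_iff {Y : Scheme.{u}} (f : Y ⟶ X) {Ω : Type u} [Field Ω] [IsSepClosed Ω]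
    (η : Spec (CommRingCat.of Ω) ⟶ Y) {F G : EtModW.Mod Λ X} (a : F ⟶ G) :
    IsIso ((EtModW.stalk Λ (η ≫ f)).map a) ↔ IsIso ((EtModW.stalk Λ η).map ((EtModW.pull Λ f).map a)) :=
  NatIso.isIso_map_iff (EtStalk.sheafFiberPullbackIso (EtCoh.bc f) (Scheme.pointSmallEtale (η ≫ f))
    (Scheme.pointSmallEtale η) (EtStalk.fiberIso f η) (ModuleCat.{u + 1} Λ)) a

/-- iso on stalks -/
theorem isIso_of_stalk {F G : EtModW.Mod Λ X} (a : F ⟶ G)
    (h : ∀ (Ω : Type u) [Field Ω] [IsSepClosed Ω] (ξ : Spec (CommRingCat.of Ω) ⟶ X),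
      IsIso ((EtModW.stalk Λ ξ).map a)) : IsIso a :=
  Sheaf.isLocallyBijective_iff_isIso _ |>.1
    ⟨EtStalk.isLocallyInjective_of_stalk _ fun Ω _ _ ξ => ((ConcreteCategory.isIso_iff_bijective _).1 (h Ω ξ)).1,
      EtStalk.isLocallySurjective_of_stalk _ fun Ω _ _ ξ => ((ConcreteCategory.isIso_iff_bijective _).1 (h Ω ξ)).2⟩

variable [IsNoetherianRing Λ]

theorem exists_chain_stratum [IsLocallyNoetherian X] {F : EtModW.Mod Λ X} (hF : EtModW.IsConstructible Λ F)
    (c : ℕ →o Subobject F) (x : X) :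
    ∃ (T : Scheme.{u}) (g : T ⟶ X) (_ : IsImmersion g) (N : ℕ), x ∈ Set.range g ∧
      ∀ k (hk : N ≤ k) (Ω : Type u) [Field Ω] [IsSepClosed Ω] (η : Spec (CommRingCat.of Ω) ⟶ T),
        IsIso ((EtModW.stalk Λ η).map ((EtModW.pull Λ g).map (Subobject.ofLE (c N) (c k) (c.monotone hk)))) := by
  obtain ⟨T, j, hj, hTn, t, rfl, ht, hft⟩ := exists_generic_stratum hF x
  haveI := hj; haveI := hTn
  haveI := RPlusComp.pullMod_preservesFiniteLimits Λ j
  obtain ⟨Ω₀, _, _, ξ, -, hξ⟩ := EtStalk.covers_all (X := T) t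
  obtain ⟨U, y, M, _, _, _, σ₀, hσ₀⟩ := (isFTLocConst_iff _).1 hft Ω₀ ξ
  let y₀ : Over.mk ξ ⟶ (Scheme.Etale.forget T).obj U := y
  have hu : U.hom (y₀.left (default : Spec (CommRingCat.of Ω₀))) = t :=
    (congrArg (fun q : Spec (CommRingCat.of Ω₀) ⟶ T => q default) (Over.w y₀)).trans hξ
  obtain ⟨U', g, u', hu', hgen⟩ := EtCons.exists_irr_nhd ht _ hu
  obtain ⟨y', hy'⟩ := exists_point_lift g y₀ ⟨u', hu'⟩
  let y₁ : Over.mk ξ ⟶ (Scheme.Etale.forget T).obj U' := y'
  have hspec : ∀ v : U'.left, y₁.left (default : Spec (CommRingCat.of Ω₀)) ⤳ v := by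
    intro v
    haveI : Etale U'.hom := U'.prop
    haveI := EtMV.lqf_of_etale U'.hom
    have e1 : g.left (y₁.left (default : Spec (CommRingCat.of Ω₀))) = g.left u' := by
      rw [hu', ← hy']
      rfl
    have e2 : U'.hom u' = U'.hom (y₁.left (default : Spec (CommRingCat.of Ω₀))) := by
      rw [← MorphismProperty.Over.w g, Scheme.Hom.comp_apply, Scheme.Hom.comp_apply]
      exact (congrArg U.hom e1).symm
    rw [← EtCons.eq_of_specializes_of_map_eq U'.hom (hgen _) e2]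
    exact hgen v
  let σ := (rs ((EtModW.pull Λ j).obj F) g).comp σ₀
  have hσ : IsTrivG ((EtModW.pull Λ j).obj F) U' (fun m => σ m) := hσ₀.rsComap g
  let ι : ∀ k, (EtModW.pull Λ j).obj (c k : EtModW.Mod Λ X) ⟶ (EtModW.pull Λ j).obj F :=
    fun k => (EtModW.pull Λ j).map (c k).arrow
  let L : ℕ →o Submodule Λ M :=
    ⟨fun k => (LinearMap.range ((EtModW.stalk Λ ξ).map (ι k)).hom).comap ((gm _ y').comp σ),
      fun k l h m ⟨z, hz⟩ => ⟨(EtModW.stalk Λ ξ).map ((EtModW.pull Λ j).map (Subobject.ofLE _ _ (c.monotone h))) z, by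
        change (EtModW.stalk Λ ξ).map (ι l) _ = _
        rw [← ConcreteCategory.comp_apply, ← Functor.map_comp, ← Functor.map_comp, Subobject.ofLE_arrow]
        exact hz⟩⟩
  haveI : IsNoetherian Λ M := isNoetherian_of_isNoetherianRing_of_finite Λ M
  obtain ⟨N, hN⟩ := WellFoundedGT.monotone_chain_condition L
  obtain ⟨gens, hgens⟩ := IsNoetherian.noetherian (L N)
  obtain ⟨V, b, yV, hyV, hP⟩ := exists_refine gens y' (fun m V b => ∃ e, ap (ι N) V e = rs _ b (σ m))
    (fun m V b ⟨e, he⟩ W l => ⟨rs _ l e, by rw [ap_rs, he, rs_rs]⟩)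
    (fun m hm V b v hv => by
      obtain ⟨z, hz⟩ : m ∈ L N := hgens ▸ Submodule.subset_span hm
      have hz' : (EtModW.stalk Λ ξ).map (ι N) z = gm _ v (rs _ b (σ m)) := by
        rw [gm_rs, hv]; exact hz
      obtain ⟨W, l, w, hw, e, he⟩ := exists_lift (ι N) v _ z hz'
      exact ⟨W, l, w, hw, e, by rw [he, rs_rs]⟩)
  let S : Submodule Λ M :=
    { carrier := {m | ∃ e, ap (ι N) V e = rs _ b (σ m)}
      zero_mem' := ⟨0, by simp only [map_zero]⟩
      add_mem' := fun ⟨p, hp⟩ ⟨q, hq⟩ => ⟨p + q, by simp only [map_add, hp, hq]⟩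
      smul_mem' := fun r m ⟨p, hp⟩ => ⟨r • p, by simp only [map_smul, hp]⟩ }
  have hLS : L N ≤ S := hgens ▸ Submodule.span_le.2 hP
  haveI : Etale V.hom := V.prop
  let O : T.Opens := ⟨Set.range V.hom, (Scheme.Hom.isOpenMap V.hom).isOpen_range⟩
  let yV' : Over.mk ξ ⟶ (Scheme.Etale.forget T).obj V := yV
  have htO : t ∈ O := ⟨yV'.left (default : Spec (CommRingCat.of Ω₀)),
    (congrArg (fun q : Spec (CommRingCat.of Ω₀) ⟶ T => q default) (Over.w yV')).trans hξ⟩
  refine ⟨_, O.ι ≫ j, inferInstance, N, ⟨⟨t, htO⟩, rfl⟩, fun k hk Ω _ _ θ => ?_⟩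
  rw [← isIso_stalk_iff]
  rw [← Category.assoc, isIso_stalk_iff]
  let η := θ ≫ O.ι
  have hη : η (default : Spec (CommRingCat.of Ω)) ∈ Set.range V.hom := (θ default).2
  obtain ⟨v, hv⟩ := hη
  obtain ⟨x, -⟩ := Scheme.pointSmallEtaleFiberObjToPreimage_surjective η (s₀ := η default) rfl V ⟨v, hv⟩
  let cm := (EtModW.pull Λ j).map (Subobject.ofLE (c N) (c k) (c.monotone hk))
  have hcm : cm ≫ ι k = ι N := by rw [← Functor.map_comp, Subobject.ofLE_arrow]
  haveI : Mono (ι k) := inferInstanceAs (Mono ((EtModW.pull Λ j).map (c k).arrow))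
  haveI : Mono cm := inferInstanceAs (Mono ((EtModW.pull Λ j).map _))
  refine (ConcreteCategory.isIso_iff_bijective _).2 ⟨stalk_injective η cm, fun z => ?_⟩
  let x' := (Scheme.pointSmallEtale η).fiber.map b x
  obtain ⟨m, hm⟩ := (hσ.bij x').2 ((EtModW.stalk Λ η).map (ι k) z)
  obtain ⟨z₁, hz₁⟩ := mem_range_of_mem_range (ι k) y' hspec (σ m) x' z hm.symm
  have hmN : m ∈ L N := (hN k hk).symm ▸ (⟨z₁, hz₁⟩ : m ∈ L k)
  obtain ⟨e, he⟩ := hLS hmN
  refine ⟨gm _ x e, stalk_injective η (ι k) ?_⟩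
  rw [← ConcreteCategory.comp_apply, ← Functor.map_comp, hcm, map_gm, he, gm_rs]
  exact hm

theorem exists_stabilizes [IsNoetherian X] {F : EtModW.Mod Λ X} (hF : EtModW.IsConstructible Λ F)
    (c : ℕ →o Subobject F) : ∃ N, ∀ m, N ≤ m → c m = c N := by
  choose T g hg N hx hiso using exists_chain_stratum hF c
  haveI : CompactSpace X := inferInstance
  obtain ⟨s, hs⟩ := EtCons.exists_finite_constructible_cover (S := X) (fun x => Set.range (g x))
    (fun x => haveI := hg x; EtCons.isConstructible_of_lc (g x).isLocallyClosed_range) hx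
  refine ⟨s.sup N, fun m hm => ?_⟩
  let ψ := Subobject.ofLE (c (s.sup N)) (c m) (c.monotone hm)
  have hψ : IsIso ψ := by
    refine isIso_of_stalk ψ fun Ω _ _ ξ => ?_
    obtain ⟨x, hxs, ⟨t, ht⟩⟩ := hs (ξ (default : Spec (CommRingCat.of Ω)))
    haveI := hg x
    obtain ⟨η, rfl, -⟩ := EtCons.exists_point_lift (g x) ξ t ht.symm
    rw [isIso_stalk_iff]
    haveI h1 := hiso x (s.sup N) (Finset.le_sup hxs) Ω η
    haveI h2 := hiso x m ((Finset.le_sup hxs).trans hm) Ω η
    have e : (EtModW.stalk Λ η).map ((EtModW.pull Λ (g x)).map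
        (Subobject.ofLE (c (N x)) (c (s.sup N)) (c.monotone (Finset.le_sup hxs)))) ≫
        (EtModW.stalk Λ η).map ((EtModW.pull Λ (g x)).map ψ) = (EtModW.stalk Λ η).map ((EtModW.pull Λ (g x)).map
          (Subobject.ofLE (c (N x)) (c m) (c.monotone ((Finset.le_sup hxs).trans hm)))) := by
      rw [← Functor.map_comp, ← Functor.map_comp, Subobject.ofLE_comp_ofLE]
    exact IsIso.of_isIso_fac_left e
  haveI := hψ
  exact (Subobject.eq_of_comm (asIso ψ) (Subobject.ofLE_arrow _)).symm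

theorem isNoetherianObject_of_isConstructible [IsNoetherian X] {F : EtModW.Mod Λ X}
    (hF : EtModW.IsConstructible Λ F) : IsNoetherianObject F := by
  rw [isNoetherianObject_iff_monotone_chain_condition]
  exact fun c => (exists_stabilizes hF c).imp fun N h m hm => (h m hm).symm

end Groth.Agent.EtTrivGen
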