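import Groth.Agent.EtTrivGen.AdicPoly
import Groth.Agent.EtTrivGen.AdicStalk
import Groth.Agent.EtTrivGen.Noeth

/-!
Adic systems near a generic point: one neighbourhood trivialises all graded pieces.
-/

set_option autoImplicit false
set_option backward.isDefEq.respectTransparency false
set_option backward.isDefEq.respectTransparency.types false
set_option linter.style.haveILetI false
set_option linter.unusedSectionVars false
set_option maxHeartbeats 1000000

universe u

open CategoryTheory CategoryTheory.Limits AlgebraicGeometry Opposite MvPolynomial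

noncomputable section

namespace Groth.Agent.EtTrivGen

variable {Λ : Type (u + 1)} [CommRing Λ] {T : Scheme.{u}}

/-- stalks commute with scalars -/
theorem stalk_map_smul {Ω : Type u} [Field Ω] [IsSepClosed Ω] (η : Spec (CommRingCat.of Ω) ⟶ T)
    (c : Λ) (H : EtModW.Mod Λ T) (w : (EtModW.stalk Λ η).obj H) :
    (EtModW.stalk Λ η).map (c • 𝟙 H) w = c • w := by
  rw [adj_map_smul_id (Scheme.pointSmallEtale η).skyscraperSheafAdjunction c H]
  rfl

/-- kernels of quotient maps modulo an ideal, on stalks -/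
theorem mem_smul_of_isQuot {J : Ideal Λ} {H H' : EtModW.Mod Λ T} {p : H ⟶ H'} (hp : ARSys.IsQuot J p)
    {Ω : Type u} [Field Ω] [IsSepClosed Ω] (η : Spec (CommRingCat.of Ω) ⟶ T)
    (w : (EtModW.stalk Λ η).obj H) (hw : (EtModW.stalk Λ η).map p w = 0) :
    w ∈ J • (⊤ : Submodule Λ ((EtModW.stalk Λ η).obj H)) := by
  have h := isQuot_map (A := Λ) (Scheme.pointSmallEtale η).skyscraperSheafAdjunction hp
  let N := J • (⊤ : Submodule Λ ((EtModW.stalk Λ η).obj H))
  obtain ⟨ψ, hψ, -⟩ := h.2 (ModuleCat.of Λ (_ ⧸ N)) (ModuleCat.ofHom N.mkQ) fun c hc => by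
    refine ModuleCat.hom_ext (LinearMap.ext fun v => ?_)
    change c • N.mkQ v = 0
    rw [← map_smul, Submodule.mkQ_apply, Submodule.Quotient.mk_eq_zero]
    exact Submodule.smul_mem_smul hc trivial
  have h1 := ConcreteCategory.congr_hom hψ w
  rw [ConcreteCategory.comp_apply] at h1
  erw [hw, map_zero] at h1
  exact (Submodule.Quotient.mk_eq_zero N).1 h1.symm

theorem ap_comp {F G H : EtModW.Mod Λ T} (φ : F ⟶ G) (ψ : G ⟶ H) (V : T.Etale) (x : F.obj.obj (op V)) :
    ap (φ ≫ ψ) V x = ap ψ V (ap φ V x) := rfl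

variable {r m : ℕ} (a : Fin r → Λ) {I : Ideal Λ} (ha : Ideal.span (Set.range a) = I)
  {G : ARSys.PS (EtModW.Mod Λ T)} (hG : ARSys.IsAdic I G) {U : T.Etale}
  (s : Fin m → (G.obj (op 0)).obj.obj (op U))

/-- apply the multiplication maps to a section -/
def appPhi (q : ℕ) (x : (G.obj (op 0)).obj.obj (op U)) : ↥(I ^ q) →ₗ[Λ] (G.obj (op q)).obj.obj (op U) where
  toFun b := ap (phi hG q b) U x
  map_add' b b' := by rw [map_add]; rfl
  map_smul' c b := by rw [map_smul]; rfl

/-- sections of level `q` from polynomial coefficients -/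
def Phi (q : ℕ) : (Fin m → MvPolynomial (Fin r) Λ) →ₗ[Λ] (G.obj (op q)).obj.obj (op U) :=
  ∑ k, (appPhi hG q (s k)).comp ((evq a I ha q).comp (LinearMap.proj k))

theorem Phi_apply (q : ℕ) (z : Fin m → MvPolynomial (Fin r) Λ) :
    Phi a ha hG s q z = ∑ k, ap (phi hG q (evq a I ha q (z k))) U (s k) := by
  simp only [Phi, LinearMap.sum_apply]
  rfl

theorem Phi_single (q : ℕ) (k : Fin m) (p : MvPolynomial (Fin r) Λ) :
    Phi a ha hG s q (Pi.single k p) = ap (phi hG q (evq a I ha q p)) U (s k) := by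
  rw [Phi_apply, Finset.sum_eq_single k]
  · rw [Pi.single_eq_same]
  · intro l _ hl
    rw [Pi.single_eq_of_ne hl, map_zero, map_zero]
    rfl
  · simp

theorem Phi_component (q q' : ℕ) (z : Fin m → MvPolynomial (Fin r) Λ) :
    Phi a ha hG s q' (fun k => homogeneousComponent q (z k)) = if q' = q then Phi a ha hG s q' z else 0 := by
  rw [Phi_apply, Phi_apply]
  split_ifs with h
  · simp only [evq_component, if_pos h]
  · refine Finset.sum_eq_zero fun k _ => ?_
    rw [evq_component, if_neg h, map_zero]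
    rfl

theorem exists_Phi_X (q : ℕ) (i : Fin r) : ∃ μ : G.obj (op q) ⟶ G.obj (op (q + 1)),
    ∀ z : Fin m → MvPolynomial (Fin r) Λ,
      Phi a ha hG s (q + 1) ((X i : MvPolynomial (Fin r) Λ) • z) = ap μ U (Phi a ha hG s q z) := by
  have hai : a i ∈ I := ha ▸ Ideal.subset_span ⟨i, rfl⟩
  obtain ⟨μ, hμ⟩ := phi_succ_factor hG q hai
  refine ⟨μ, fun z => ?_⟩
  have h1 := Phi_apply a ha hG s (q + 1) ((X i : MvPolynomial (Fin r) Λ) • z)
  have h2 := Phi_apply a ha hG s q z
  rw [h1, h2, map_sum]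
  refine Finset.sum_congr rfl fun k _ => ?_
  have h3 : ((X i : MvPolynomial (Fin r) Λ) • z) k = X i * z k := rfl
  rw [h3, ← hμ (evq a I ha q (z k)) (evq a I ha (q + 1) (X i * z k)) (evq_X_mul a I ha q i (z k))]
  exact ap_comp _ _ U (s k)

theorem Phi_X_zero (i : Fin r) (z : Fin m → MvPolynomial (Fin r) Λ) :
    Phi a ha hG s 0 ((X i : MvPolynomial (Fin r) Λ) • z) = 0 := by
  rw [Phi_apply]
  refine Finset.sum_eq_zero fun k _ => ?_
  rw [Pi.smul_apply, smul_eq_mul, evq_X_mul_zero, map_zero]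
  rfl

/-- coefficient tuples killed in all degrees by compatible evaluations form a submodule over polynomials -/
def killedSub (N : ℕ → Type (u + 1)) [∀ q, AddCommGroup (N q)] [∀ q, Module Λ (N q)]
    (π : ∀ q, (G.obj (op q)).obj.obj (op U) →ₗ[Λ] N q)
    (hπ : ∀ q (μ : G.obj (op q) ⟶ G.obj (op (q + 1))) v, π q v = 0 → π (q + 1) (ap μ U v) = 0) :
    Submodule (MvPolynomial (Fin r) Λ) (Fin m → MvPolynomial (Fin r) Λ) where
  carrier := {z | ∀ q, π q (Phi a ha hG s q z) = 0}
  zero_mem' q := by simp only [map_zero]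
  add_mem' {z z'} hz hz' q := by simp only [map_add, hz q, hz' q, add_zero]
  smul_mem' p z hz := by
    induction p using MvPolynomial.induction_on with
    | C c =>
      intro q
      rw [show (C c : MvPolynomial (Fin r) Λ) • z = c • z from algebraMap_smul (MvPolynomial (Fin r) Λ) c z,
        map_smul, map_smul, hz q, smul_zero]
    | add p p' hp hp' =>
      intro q
      rw [add_smul, map_add, map_add, hp q, hp' q, add_zero]
    | mul_X p i hp =>
      rintro (_ | q)
      · rw [mul_comm, mul_smul, Phi_X_zero, map_zero]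
      · obtain ⟨μ, hμ⟩ := exists_Phi_X a ha hG s q i
        rw [mul_comm, mul_smul, hμ]
        exact hπ q μ _ (hp q)

variable {Ω : Type u} [Field Ω] [IsSepClosed Ω] {ξ : Spec (CommRingCat.of Ω) ⟶ T}

/-- a germ vanishing somewhere vanishes at the generic point -/
theorem gm_eq_zero_of_gm_eq_zero {H : EtModW.Mod Λ T} {V : T.Etale}
    (y : (Scheme.pointSmallEtale ξ).fiber.obj V)
    (hy : ∀ v : V.left, (y : Over.mk ξ ⟶ (Scheme.Etale.forget T).obj V).left
      (default : Spec (CommRingCat.of Ω)) ⤳ v)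
    (e : H.obj.obj (op V)) {Ω' : Type u} [Field Ω'] [IsSepClosed Ω'] {η : Spec (CommRingCat.of Ω') ⟶ T}
    (x : (Scheme.pointSmallEtale η).fiber.obj V) (h : gm H x e = 0) : gm H y e = 0 := by
  rw [← map_zero (gm H x)] at h
  obtain ⟨W, g, w, -, hg⟩ := ((Scheme.pointSmallEtale η).toPresheafFiber_eq_iff' _ _ _ _).mp h
  let w' : Over.mk η ⟶ (Scheme.Etale.forget T).obj W := w
  haveI : Etale g.left := EtShLib.etale_left g
  have ho : IsOpen (Set.range g.left) := (Scheme.Hom.isOpenMap g.left).isOpen_range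
  obtain ⟨y', hy'⟩ := exists_point_lift g (y : Over.mk ξ ⟶ (Scheme.Etale.forget T).obj V)
    ((hy (g.left (w'.left (default : Spec (CommRingCat.of Ω'))))).mem_open ho ⟨_, rfl⟩)
  have h1 : gm H y' (rs H g e) = gm H y' (rs H g 0) := congrArg (gm H y') hg
  rw [gm_rs, map_zero, map_zero] at h1
  exact (congrArg (fun t => gm H t e) hy').symm.trans h1

/-- a neighbourhood all of whose points specialise the given one -/
theorem exists_generic_nhd [IsLocallyNoetherian T] {t : T} (ht : ∀ z : T, t ⤳ z)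
    (hξ : ξ (default : Spec (CommRingCat.of Ω)) = t) {V : T.Etale} (y : (Scheme.pointSmallEtale ξ).fiber.obj V) :
    ∃ (V' : T.Etale) (g : V' ⟶ V) (y' : (Scheme.pointSmallEtale ξ).fiber.obj V'),
      (Scheme.pointSmallEtale ξ).fiber.map g y' = y ∧
        ∀ v : V'.left, (y' : Over.mk ξ ⟶ (Scheme.Etale.forget T).obj V').left
          (default : Spec (CommRingCat.of Ω)) ⤳ v := by
  let y₀ : Over.mk ξ ⟶ (Scheme.Etale.forget T).obj V := y
  have hu : V.hom (y₀.left (default : Spec (CommRingCat.of Ω))) = t :=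
    (congrArg (fun q : Spec (CommRingCat.of Ω) ⟶ T => q default) (Over.w y₀)).trans hξ
  obtain ⟨V', g, u', hu', hgen⟩ := EtCons.exists_irr_nhd ht _ hu
  obtain ⟨y', hy'⟩ := exists_point_lift g y₀ ⟨u', hu'⟩
  refine ⟨V', g, y', hy', fun v => ?_⟩
  let y₁ : Over.mk ξ ⟶ (Scheme.Etale.forget T).obj V' := y'
  haveI : Etale V'.hom := V'.prop
  haveI := EtMV.lqf_of_etale V'.hom
  have e1 : g.left (y₁.left (default : Spec (CommRingCat.of Ω))) = g.left u' := by
    rw [hu', ← hy']
    rfl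
  have e2 : V'.hom u' = V'.hom (y₁.left (default : Spec (CommRingCat.of Ω))) := by
    rw [← MorphismProperty.Over.w g, Scheme.Hom.comp_apply, Scheme.Hom.comp_apply]
    exact (congrArg V.hom e1).symm
  change y₁.left (default : Spec (CommRingCat.of Ω)) ⤳ v
  rw [← EtCons.eq_of_specializes_of_map_eq V'.hom (hgen _) e2]
  exact hgen v

variable [IsNoetherianRing Λ]

include a ha in
theorem exists_trivial_graded [IsLocallyNoetherian T] {t₀ : T} (ht₀ : ∀ z : T, t₀ ⤳ z)
    (hξ : ξ (default : Spec (CommRingCat.of Ω)) = t₀) (y : (Scheme.pointSmallEtale ξ).fiber.obj U)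
    (hfin : ∀ q, Module.Finite Λ ((EtModW.stalk Λ ξ).obj (G.obj (op q))))
    (hs : ∀ (Ω' : Type u) [Field Ω'] [IsSepClosed Ω'] (η : Spec (CommRingCat.of Ω') ⟶ T)
      (x : (Scheme.pointSmallEtale η).fiber.obj U),
      Submodule.span Λ (Set.range fun k => gm (G.obj (op 0)) x (s k)) = ⊤) :
    ∃ (V : T.Etale) (_ : (Scheme.pointSmallEtale ξ).fiber.obj V),
      ∀ (q : ℕ) (K : EtModW.Mod Λ T) (ι : K ⟶ G.obj (op q)) [Mono ι],
        (∀ b, ∃ k, k ≫ ι = phi hG q b) →
        (∀ (Ω' : Type u) [Field Ω'] [IsSepClosed Ω'] (η : Spec (CommRingCat.of Ω') ⟶ T)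
          (w : (EtModW.stalk Λ η).obj K),
          (EtModW.stalk Λ η).map ι w ∈ (I ^ q) • (⊤ : Submodule Λ ((EtModW.stalk Λ η).obj (G.obj (op q))))) →
        ∃ (M : Type (u + 1)) (_ : AddCommGroup M) (_ : Module Λ M) (_ : Module.Finite Λ M)
          (σ : M →ₗ[Λ] K.obj.obj (op V)), IsTrivG K V (fun e => σ e) := by
  let R := killedSub a ha hG s (fun q => (EtModW.stalk Λ ξ).obj (G.obj (op q)))
    (fun q => gm (G.obj (op q)) y) (fun q μ v hv => by
      rw [← map_gm, hv, map_zero])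
  haveI : IsNoetherian (MvPolynomial (Fin r) Λ) (Fin m → MvPolynomial (Fin r) Λ) := inferInstance
  obtain ⟨t, ht⟩ := IsNoetherian.noetherian R
  obtain ⟨D, hD⟩ : ∃ D : ℕ, ∀ z ∈ t, ∀ k : Fin m, (z k).totalDegree ≤ D :=
    ⟨t.sup fun z => Finset.univ.sup fun k => (z k).totalDegree, fun z hz k =>
      (Finset.le_sup (f := fun k => (z k).totalDegree) (Finset.mem_univ k)).trans
        (Finset.le_sup (f := fun z => Finset.univ.sup fun k => (z k).totalDegree) hz)⟩
  obtain ⟨V₁, g₁, y₁, hy₁, hV₁⟩ := exists_refine (t ×ˢ Finset.range (D + 1)) y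
    (fun zq V g => rs (G.obj (op zq.2)) g (Phi a ha hG s zq.2 zq.1) = 0)
    (fun zq V g h W k => by rw [← rs_rs, h, map_zero])
    (fun zq hzq V g v hv => by
      have hz : zq.1 ∈ R := ht ▸ Submodule.subset_span (Finset.mem_product.1 hzq).1
      have h0 : gm (G.obj (op zq.2)) v (rs _ g (Phi a ha hG s zq.2 zq.1)) = gm (G.obj (op zq.2)) v 0 := by
        rw [gm_rs, hv, map_zero]
        exact hz zq.2
      obtain ⟨W, k, w, hw, hk⟩ := ((Scheme.pointSmallEtale ξ).toPresheafFiber_eq_iff' _ _ _ _).mp h0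
      refine ⟨W, k, w, hw, ?_⟩
      rw [← rs_rs]
      exact Eq.trans hk (map_zero _))
  obtain ⟨V, g₂, yV, hyV₂, hyV'⟩ := exists_generic_nhd ht₀ hξ y₁
  let g := g₂ ≫ g₁
  have hyV : (Scheme.pointSmallEtale ξ).fiber.map g yV = y := by
    rw [Functor.map_comp, ConcreteCategory.comp_apply, hyV₂, hy₁]
  have hV : ∀ zq ∈ t ×ˢ Finset.range (D + 1), rs (G.obj (op zq.2)) g (Phi a ha hG s zq.2 zq.1) = 0 :=
    fun zq h => by rw [← rs_rs, hV₁ zq h, map_zero]
  let R' := killedSub a ha hG s (fun q => (G.obj (op q)).obj.obj (op V))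
    (fun q => rs (G.obj (op q)) g) (fun q μ v hv => by rw [← ap_rs, hv, map_zero])
  have hRR : R ≤ R' := ht ▸ Submodule.span_le.2 fun z hz q => by
    by_cases hq : q ≤ D
    · exact hV (z, q) (Finset.mem_product.2 ⟨hz, Finset.mem_range.2 (Nat.lt_succ_of_le hq)⟩)
    · have : Phi a ha hG s q z = 0 := by
        rw [Phi_apply]
        refine Finset.sum_eq_zero fun k _ => ?_
        rw [evq_eq_zero a I ha (lt_of_le_of_lt (hD z hz k) (not_le.1 hq)), map_zero]
        rfl
      rw [this, map_zero]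
  refine ⟨V, yV, fun q K ι _ hfac himg => ?_⟩
  let PV := (rs (G.obj (op q)) g).comp (Phi a ha hG s q)
  let N : Submodule Λ (K.obj.obj (op V)) := (LinearMap.range PV).comap (ap ι V)
  have hzero : ∀ z (Ω' : Type u) [Field Ω'] [IsSepClosed Ω'] (η : Spec (CommRingCat.of Ω') ⟶ T)
      (x : (Scheme.pointSmallEtale η).fiber.obj V), gm (G.obj (op q)) x (PV z) = 0 → PV z = 0 := by
    intro z Ω' _ _ η x hx
    have h1 : gm (G.obj (op q)) y (Phi a ha hG s q z) = 0 := by
      have := gm_eq_zero_of_gm_eq_zero yV hyV' _ x hx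
      rwa [show PV z = rs _ g (Phi a ha hG s q z) from rfl, gm_rs, hyV] at this
    have h2 : (fun k => homogeneousComponent q (z k)) ∈ R := fun q' => by
      rw [Phi_component]
      split_ifs with h
      · subst h; exact h1
      · rw [map_zero]
    have h3 := hRR h2 q
    rwa [Phi_component, if_pos rfl] at h3
  have hinj : ∀ (Ω' : Type u) [Field Ω'] [IsSepClosed Ω'] (η : Spec (CommRingCat.of Ω') ⟶ T)
      (x : (Scheme.pointSmallEtale η).fiber.obj V), Function.Injective ((gm K x).comp N.subtype) := by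
    intro Ω' _ _ η x
    refine (injective_iff_map_eq_zero _).2 fun ⟨e, z, hz⟩ he => ?_
    refine Subtype.ext (ap_injective ι V ?_)
    change ap ι V e = ap ι V 0
    rw [map_zero, ← hz]
    refine hzero z Ω' η x ?_
    rw [hz, ← map_gm]
    exact (congrArg _ he).trans (map_zero _)
  haveI : IsNoetherian Λ ((EtModW.stalk Λ ξ).obj (G.obj (op q))) :=
    haveI := hfin q; isNoetherian_of_isNoetherianRing_of_finite Λ _
  haveI : Module.Finite Λ N :=
    Module.Finite.of_injective (((EtModW.stalk Λ ξ).map ι).hom.comp ((gm K yV).comp N.subtype))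
      ((stalk_injective ξ ι).comp (hinj Ω ξ yV))
  refine ⟨N, inferInstance, inferInstance, inferInstance, N.subtype, ?_⟩
  rw [isTrivG_iff]
  intro Ω' _ _ η x
  refine ⟨hinj Ω' η x, fun w => ?_⟩
  let S : Submodule Λ ((EtModW.stalk Λ η).obj (G.obj (op q))) := LinearMap.range ((gm (G.obj (op q)) x).comp PV)
  have hS : (I ^ q) • (⊤ : Submodule Λ ((EtModW.stalk Λ η).obj (G.obj (op q)))) ≤ S := by
    refine Submodule.smul_le.2 fun b hb v _ => ?_
    let f := ((EtModW.stalk Λ η).map (phi hG q ⟨b, hb⟩)).hom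
    have hf : ∀ v₀, f v₀ ∈ S := by
      intro v₀
      have hv₀ : v₀ ∈ Submodule.span Λ (Set.range fun k =>
          gm (G.obj (op 0)) ((Scheme.pointSmallEtale η).fiber.map g x) (s k)) := by rw [hs]; trivial
      refine (Submodule.span_le (p := S.comap f)).2 ?_ hv₀
      rintro _ ⟨k, rfl⟩
      obtain ⟨p, hp⟩ := evq_surjective a I ha q ⟨b, hb⟩
      refine ⟨Pi.single k p, ?_⟩
      change gm _ x (rs _ g (Phi a ha hG s q (Pi.single k p))) = _
      rw [Phi_single, hp, gm_rs]
      exact (map_gm _ _ _).symm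
    have h1 : b • v = f ((EtModW.stalk Λ η).map (ARSys.tr G (Nat.zero_le q)) v) := by
      change b • v = (EtModW.stalk Λ η).map _ ((EtModW.stalk Λ η).map _ v)
      rw [← ConcreteCategory.comp_apply, ← Functor.map_comp, tr_phi, stalk_map_smul]
    rw [h1]
    exact hf _
  obtain ⟨z, hz⟩ := hS (himg Ω' η w)
  have hPK : PV z ∈ LinearMap.range (ap ι V) := by
    change rs _ g (Phi a ha hG s q z) ∈ _
    rw [Phi_apply, map_sum]
    refine Submodule.sum_mem _ fun k _ => ?_
    obtain ⟨l, hl⟩ := hfac (evq a I ha q (z k))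
    refine ⟨rs K g (ap l U (s k)), ?_⟩
    rw [ap_rs, ← hl]
    rfl
  obtain ⟨e, he⟩ := hPK
  refine ⟨⟨e, z, he.symm⟩, stalk_injective η ι ?_⟩
  change (EtModW.stalk Λ η).map ι (gm K x e) = _
  rw [map_gm, he]
  exact hz

end Groth.Agent.EtTrivGen
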