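import Groth.Agent.EtTrivGen.AdicCover
import Groth.Agent.EtTrivGen.AdicTriv
import Groth.Agent.ARLib.Frac

/-!
Null systems through limits of stalks.
-/

set_option autoImplicit false
set_option backward.isDefEq.respectTransparency false
set_option backward.isDefEq.respectTransparency.types false
set_option linter.style.haveILetI false
set_option linter.unusedSectionVars false
set_option maxHeartbeats 1000000

universe u

open CategoryTheory CategoryTheory.Limits AlgebraicGeometry Opposite

noncomputable section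

namespace Groth.Agent.EtTrivGen

variable {Λ : Type (u + 1)} [CommRing Λ]

/-- a strict system of modules with zero limit starts with zero -/
theorem eq_zero_of_limit_isZero (M : ARSys.PS (ModuleCat.{u + 1} Λ))
    (hs : ∀ n : ℕ, Function.Surjective (ARSys.tr M (Nat.le_succ n))) (hz : IsZero (limit M))
    (y₀ : M.obj (op 0)) : y₀ = 0 := by
  choose g hg using fun n => hs n
  let y : ∀ n : ℕ, M.obj (op n) := fun n => Nat.rec y₀ (fun k v => g k v) n
  have hy : ∀ n m (h : n ≤ m), ARSys.tr M h (y m) = y n := by
    intro n m h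
    induction m, h using Nat.le_induction with
    | base => exact ConcreteCategory.congr_hom (M.map_id (op n)) (y n)
    | succ m h ih =>
      rw [← tr_tr M h (Nat.le_succ m), ConcreteCategory.comp_apply]
      exact (congrArg (ARSys.tr M h) (hg m (y m))).trans ih
  let c : Cone M :=
    { pt := ModuleCat.of Λ Λ
      π := { app := fun n => ModuleCat.ofHom (LinearMap.toSpanSingleton Λ (M.obj n) (y n.unop))
             naturality := fun a b f => ModuleCat.hom_ext (LinearMap.ext_ring (by
               change (1 : Λ) • y b.unop = M.map f ((1 : Λ) • y a.unop)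
               rw [one_smul, one_smul]
               exact (hy b.unop a.unop f.unop.le).symm)) } }
  have h1 : (c.π.app (op 0)) = 0 := by
    rw [← limit.lift_π c, hz.eq_of_tgt (limit.lift M c) 0, zero_comp]
  have h2 := ConcreteCategory.congr_hom h1 (1 : Λ)
  change (1 : Λ) • y₀ = 0 at h2
  rwa [one_smul] at h2

variable [IsNoetherianRing Λ] {I : Ideal Λ} {X : Scheme.{u}} [IsNoetherian X]

theorem isZero_limit_of_null {C : Type*} [Category C] [Abelian C] [HasLimitsOfShape ℕᵒᵖ C] (K : ARSys.PS C)
    (h : ARSys.IsARNull K) : IsZero (limit K) := by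
  obtain ⟨r, hr⟩ := h
  rw [IsZero.iff_id_eq_zero]
  refine limit.hom_ext fun n => ?_
  rw [Category.id_comp, zero_comp, ← limit.w K (homOfLE (Nat.le_add_right n.unop r)).op]
  exact (congrArg (limit.π K (op (n.unop + r)) ≫ ·) (hr n.unop)).trans comp_zero

theorem isARNull_iff_stalk_limits (F : ARSys.PS (EtModW.Mod Λ X))
    (hF : ∃ (Y : ARSys.PS (EtModW.Mod Λ X)) (v : Y ⟶ F), ARSys.IsAdic I Y ∧ ARSys.IsARIso v) :
    ARSys.IsARNull F ↔ ∀ (Ω : Type u) [Field Ω] [IsSepClosed Ω] (x : Spec (CommRingCat.of Ω) ⟶ X),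
      IsZero (limit (F ⋙ EtModW.stalk Λ x)) := by
  constructor
  · intro h Ω _ _ x
    exact isZero_limit_of_null _ (isARNull_map h)
  · intro h
    obtain ⟨Y, v, hY, hv⟩ := hF
    have hzero : ∀ n : ℕ, 𝟙 (Y.obj (op n)) = 0 := by
      intro n
      refine eq_zero_of_stalks _ fun Ω _ _ x => ?_
      let adj : EtModW.stalk Λ x ⊣ sky x := (Scheme.pointSmallEtale x).skyscraperSheafAdjunction
      haveI : PreservesFiniteColimits (EtModW.stalk Λ x) := inferInstance
      haveI : (EtModW.stalk Λ x).IsLeftAdjoint := adj.isLeftAdjoint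
      haveI := ARLib.isIso_limMap (Functor.whiskerRight v (EtModW.stalk Λ x)) (isARIso_map v hv)
      have hz : IsZero (limit (Y ⋙ EtModW.stalk Λ x)) :=
        (h Ω x).of_iso (asIso (limMap (Functor.whiskerRight v (EtModW.stalk Λ x))))
      have hs : ∀ k : ℕ, Function.Surjective (ARSys.tr (Y ⋙ EtModW.stalk Λ x) (Nat.le_succ k)) := fun k => by
        haveI : Epi (ARSys.tr Y (Nat.le_succ k)) :=
          ⟨fun φ φ' e => IsQuot.hom_ext (hY.2 k (k + 1) (Nat.le_succ k)) e⟩
        exact stalk_surjective x (ARSys.tr Y (Nat.le_succ k))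
      let Sx := (EtModW.stalk Λ x).obj (Y.obj (op n))
      have h1 : (⊤ : Submodule Λ Sx) ≤ I • ⊤ := fun w _ => by
        have := mem_smul_of_isQuot (hY.2 0 n (Nat.zero_le n)) x w (eq_zero_of_limit_isZero _ hs hz _)
        rwa [zero_add, pow_one] at this
      have h2 : ∀ k : ℕ, (⊤ : Submodule Λ Sx) ≤ I ^ k • ⊤ := fun k => by
        induction k with
        | zero => rw [pow_zero, Ideal.one_eq_top, Submodule.top_smul]
        | succ k ih =>
          rw [pow_succ, Submodule.mul_smul]
          exact ih.trans (Submodule.smul_mono le_rfl h1)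
      have h3 : I ^ (n + 1) • (⊤ : Submodule Λ Sx) ≤ ⊥ := Submodule.smul_le.2 fun a ha w _ => by
        rw [Submodule.mem_bot, ← stalk_map_smul x a (Y.obj (op n)) w, hY.1 n a ha, Functor.map_zero]
        rfl
      refine ModuleCat.hom_ext (LinearMap.ext fun w => ?_)
      rw [CategoryTheory.Functor.map_id]
      exact ((Submodule.mem_bot Λ).1 (h3 (h2 (n + 1) (Submodule.mem_top (x := w))))).trans rfl
    obtain ⟨r, c, hc⟩ := ARLib.exists_inv hv
    refine ⟨r, fun n => ?_⟩
    have hn : v.app (op n) = 0 := by rw [← Category.id_comp (v.app (op n)), hzero n, zero_comp]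
    exact (hc.vu n (n + r) le_rfl).symm.trans (by rw [hn, comp_zero])

end Groth.Agent.EtTrivGen
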