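import Mathlib
import Groth.Prelude.Def_ARSys

/-!
Multiplication maps of an adic system and evaluation of polynomials in generators of the ideal.
-/

set_option autoImplicit false
set_option backward.isDefEq.respectTransparency false
set_option linter.unusedSectionVars false

universe u v w z

open CategoryTheory CategoryTheory.Limits Opposite MvPolynomial

noncomputable section

namespace Groth.Agent.EtTrivGen

section Poly

variable {A : Type z} [CommRing A] {r : ℕ} (a : Fin r → A) (I : Ideal A) (ha : Ideal.span (Set.range a) = I)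

/-- the degree `q` part evaluated at the generators -/
def evq (q : ℕ) : MvPolynomial (Fin r) A →ₗ[A] ↥(I ^ q) :=
  ((MvPolynomial.aeval a).toLinearMap.comp (homogeneousComponent q)).codRestrict (I ^ q) fun p => by
    rw [← ha]
    exact (Ideal.mem_span_pow_iff_exists_isHomogeneous _ _).2
      ⟨_, homogeneousComponent_isHomogeneous q p, rfl⟩

theorem coe_evq (q : ℕ) (p : MvPolynomial (Fin r) A) :
    (evq a I ha q p : A) = MvPolynomial.aeval a (homogeneousComponent q p) := rfl

theorem evq_surjective (q : ℕ) : Function.Surjective (evq a I ha q) := by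
  rintro ⟨b, hb⟩
  rw [← ha, Ideal.mem_span_pow_iff_exists_isHomogeneous] at hb
  obtain ⟨p, hp, rfl⟩ := hb
  refine ⟨p, Subtype.ext ?_⟩
  rw [coe_evq, homogeneousComponent_of_mem hp, if_pos rfl]
  rfl

theorem evq_eq_zero {q : ℕ} {p : MvPolynomial (Fin r) A} (h : p.totalDegree < q) : evq a I ha q p = 0 :=
  Subtype.ext (by rw [coe_evq, homogeneousComponent_eq_zero _ _ h, map_zero]; rfl)

theorem evq_component (q q' : ℕ) (p : MvPolynomial (Fin r) A) :
    evq a I ha q' (homogeneousComponent q p) = if q' = q then evq a I ha q' p else 0 := by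
  refine Subtype.ext ?_
  rw [coe_evq, homogeneousComponent_of_mem (homogeneousComponent_mem q p)]
  split_ifs with h
  · subst h; rfl
  · rw [map_zero]; rfl

theorem homogeneousComponent_X_mul (i : Fin r) (p : MvPolynomial (Fin r) A) :
    homogeneousComponent 0 (X i * p) = 0 ∧
      ∀ q, homogeneousComponent (q + 1) (X i * p) = X i * homogeneousComponent q p := by
  induction p using MvPolynomial.induction_on' with
  | monomial d c =>
    have h1 : (monomial d c).IsHomogeneous d.degree := isHomogeneous_monomial c rfl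
    have h2 : (X i * monomial d c).IsHomogeneous (1 + d.degree) := (isHomogeneous_X A i).mul h1
    refine ⟨?_, fun q => ?_⟩
    · rw [homogeneousComponent_of_mem h2, if_neg (by omega)]
    · rw [homogeneousComponent_of_mem h2, homogeneousComponent_of_mem h1]
      by_cases hq : q = d.degree
      · rw [if_pos (by omega), if_pos hq]
      · rw [if_neg (by omega), if_neg hq, mul_zero]
  | add p p' hp hp' =>
    refine ⟨?_, fun q => ?_⟩
    · rw [mul_add, map_add, hp.1, hp'.1, add_zero]
    · rw [mul_add, map_add, hp.2, hp'.2, map_add, mul_add]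

theorem evq_X_mul_zero (i : Fin r) (p : MvPolynomial (Fin r) A) : evq a I ha 0 (X i * p) = 0 :=
  Subtype.ext (by rw [coe_evq, (homogeneousComponent_X_mul i p).1, map_zero]; rfl)

theorem evq_X_mul (q : ℕ) (i : Fin r) (p : MvPolynomial (Fin r) A) :
    (evq a I ha (q + 1) (X i * p) : A) = a i * evq a I ha q p := by
  rw [coe_evq, (homogeneousComponent_X_mul i p).2, map_mul, aeval_X, coe_evq]

end Poly

section Maps

open ARSys

variable {A : Type z} [CommRing A] {C : Type w} [Category.{v} C] [Abelian C] [Linear A C]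

theorem IsQuot.hom_ext {J : Ideal A} {X Q Y : C} {p : X ⟶ Q} (h : IsQuot J p) {φ φ' : Q ⟶ Y}
    (e : p ≫ φ = p ≫ φ') : φ = φ' := by
  have hk : HomKilledBy J (p ≫ φ) := fun c hc => by
    rw [← Linear.smul_comp, ← Category.comp_id p, ← Linear.comp_smul, h.1 c hc, comp_zero, zero_comp]
  exact (h.2 Y _ hk).unique rfl e.symm

theorem tr_tr (G : PS C) {n m l : ℕ} (h : n ≤ m) (h' : m ≤ l) : tr G h' ≫ tr G h = tr G (h.trans h') := by
  rw [← Functor.map_comp]
  rfl

variable {I : Ideal A} {G : PS C} (hG : IsAdic I G)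

include hG in
theorem exists_phi (q : ℕ) (b : ↥(I ^ q)) :
    ∃! ψ : G.obj (op 0) ⟶ G.obj (op q), tr G (Nat.zero_le q) ≫ ψ = (b : A) • 𝟙 (G.obj (op q)) := by
  refine (hG.2 0 q (Nat.zero_le q)).2 _ _ fun c hc => ?_
  rw [smul_smul]
  refine hG.1 q _ ?_
  rw [zero_add, pow_one] at hc
  rw [pow_succ']
  exact Ideal.mul_mem_mul hc b.2

/-- multiplication by an element of `I ^ q`, from level `0` to level `q` -/
def phi (q : ℕ) : ↥(I ^ q) →ₗ[A] (G.obj (op 0) ⟶ G.obj (op q)) where
  toFun b := (exists_phi hG q b).exists.choose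
  map_add' b b' := IsQuot.hom_ext (hG.2 0 q (Nat.zero_le q)) (by
    rw [Preadditive.comp_add, (exists_phi hG q b).exists.choose_spec, (exists_phi hG q b').exists.choose_spec,
      (exists_phi hG q (b + b')).exists.choose_spec, Submodule.coe_add, add_smul])
  map_smul' c b := IsQuot.hom_ext (hG.2 0 q (Nat.zero_le q)) (by
    rw [RingHom.id_apply, Linear.comp_smul, (exists_phi hG q b).exists.choose_spec,
      (exists_phi hG q (c • b)).exists.choose_spec, Submodule.coe_smul, smul_eq_mul, smul_smul])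

theorem tr_phi (q : ℕ) (b : ↥(I ^ q)) :
    tr G (Nat.zero_le q) ≫ phi hG q b = (b : A) • 𝟙 (G.obj (op q)) :=
  (exists_phi hG q b).exists.choose_spec

include hG in
theorem phi_succ_factor (q : ℕ) {c : A} (hc : c ∈ I) :
    ∃ μ : G.obj (op q) ⟶ G.obj (op (q + 1)), ∀ (b : ↥(I ^ q)) (b' : ↥(I ^ (q + 1))), (b' : A) = c * b →
      phi hG q b ≫ μ = phi hG (q + 1) b' := by
  have hk : HomKilledBy (I ^ (q + 1)) (c • 𝟙 (G.obj (op (q + 1)))) := fun d hd => by
    rw [smul_smul]
    refine hG.1 (q + 1) _ ?_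
    rw [pow_succ]
    exact Ideal.mul_mem_mul hd hc
  obtain ⟨μ, hμ, -⟩ := (hG.2 q (q + 1) (Nat.le_succ q)).2 _ _ hk
  refine ⟨μ, fun b b' hb => IsQuot.hom_ext (hG.2 0 (q + 1) (Nat.zero_le _)) ?_⟩
  rw [tr_phi, hb, ← tr_tr G (Nat.zero_le q) (Nat.le_succ q)]
  simp only [Category.assoc]
  rw [← Category.assoc (tr G (Nat.zero_le q)), tr_phi, Linear.smul_comp, Category.id_comp, Linear.comp_smul, hμ,
    smul_smul, mul_comm]

theorem phi_tr {q q' : ℕ} (h : q' < q) (b : ↥(I ^ q)) : phi hG q b ≫ tr G h.le = 0 := by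
  refine IsQuot.hom_ext (hG.2 0 q (Nat.zero_le q)) ?_
  rw [← Category.assoc, tr_phi, Linear.smul_comp, Category.id_comp, comp_zero]
  have h0 := hG.1 q' _ (Ideal.pow_le_pow_right h b.2)
  rw [← Category.comp_id (tr G h.le), ← Linear.comp_smul, h0, comp_zero]

end Maps

end Groth.Agent.EtTrivGen
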