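import Groth.Agent.EpsLan.Mod
import Groth.Agent.EtTrivGen.ConsMod
import Groth.Prelude.Def_WeakSerre

/-!
Images of weak Serre subcategories under exact fully faithful left adjoints; pro-etale pullbacks.
-/

set_option autoImplicit false
set_option backward.isDefEq.respectTransparency false
set_option linter.style.haveILetI false
set_option maxHeartbeats 1000000
set_option synthInstance.maxHeartbeats 200000

universe u v v' w w'

open CategoryTheory CategoryTheory.Limits AlgebraicGeometry Opposite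

noncomputable section

namespace Groth.Agent.EtTrivGen

section General

variable {C : Type w} [Category.{v} C] [Abelian C] {D : Type w'} [Category.{v'} D] [Abelian D]

theorem isWeakSerre_image {L : C ⥤ D} {R : D ⥤ C} (adj : L ⊣ R) [IsIso adj.unit]
    [PreservesFiniteLimits L] (P : ObjectProperty C) [WSerre.IsWeakSerre P]
    (hR : ∀ T : ShortComplex D, T.ShortExact → (∃ A, Nonempty (L.obj A ≅ T.X₁)) → Epi (R.map T.g)) :
    WSerre.IsWeakSerre (fun F : D => ∃ A : C, P A ∧ Nonempty (L.obj A ≅ F)) := by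
  haveI : L.Full := (adj.fullyFaithfulLOfIsIsoUnit).full
  haveI := adj.leftAdjoint_preservesColimits
  haveI : PreservesFiniteColimits L := PreservesColimits.preservesFiniteColimits _
  haveI : L.Additive := Functor.additive_of_preserves_binary_products _
  haveI := adj.rightAdjoint_preservesLimits
  haveI : PreservesFiniteLimits R := PreservesLimits.preservesFiniteLimits _
  haveI : R.Additive := Functor.additive_of_preserves_binary_products _
  have hc : ∀ {F : D} (A : C), (L.obj A ≅ F) → IsIso (adj.counit.app F) := fun {F} A e => by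
    have h0 : IsIso (adj.counit.app (L.obj A)) := IsIso.of_isIso_fac_left (adj.left_triangle_components A)
    exact (NatTrans.isIso_app_iff_of_iso adj.counit e).1 h0
  have hP : ∀ {A A' : C}, (A ≅ A') → P A → P A' := fun e h => P.prop_of_iso e h
  refine { exists_zero := ?_, kernels_le := ?_, cokernels_le := ?_, prop_X₂_of_shortExact := ?_ }
  · obtain ⟨Z, hZ, hPZ⟩ := P.exists_prop_of_containsZero
    exact ⟨L.obj Z, L.map_isZero hZ, Z, hPZ, ⟨Iso.refl _⟩⟩
  · rintro _ ⟨f, k, hk, hf⟩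
    obtain ⟨⟨A, hA, ⟨eA⟩⟩, B, hB, ⟨eB⟩⟩ := hf
    obtain ⟨ψ, hψ⟩ := L.map_surjective (eA.hom ≫ f ≫ eB.inv)
    have hw : L.map ψ ≫ eB.hom = eA.hom ≫ f := by rw [hψ]; simp
    exact ⟨kernel ψ, P.prop_kernel ψ hA hB, ⟨PreservesKernel.iso L ψ ≪≫ kernel.mapIso _ _ eA eB hw ≪≫
      (kernelIsKernel f).conePointUniqueUpToIso hk⟩⟩
  · rintro _ ⟨f, k, hk, hf⟩
    obtain ⟨⟨A, hA, ⟨eA⟩⟩, B, hB, ⟨eB⟩⟩ := hf
    obtain ⟨ψ, hψ⟩ := L.map_surjective (eA.hom ≫ f ≫ eB.inv)
    have hw : L.map ψ ≫ eB.hom = eA.hom ≫ f := by rw [hψ]; simp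
    exact ⟨cokernel ψ, P.prop_cokernel ψ hA hB, ⟨PreservesCokernel.iso L ψ ≪≫ cokernel.mapIso _ _ eA eB hw ≪≫
      (cokernelIsCokernel f).coconePointUniqueUpToIso hk⟩⟩
  · rintro T hT ⟨A, hA, ⟨eA⟩⟩ ⟨B, hB, ⟨eB⟩⟩
    haveI := hT.mono_f
    haveI := hR T hT ⟨A, ⟨eA⟩⟩
    have hS : (T.map R).ShortExact :=
      { exact := ShortComplex.exact_of_f_is_kernel _ (KernelFork.mapIsLimit _ hT.fIsKernel R)
        mono_f := inferInstanceAs (Mono (R.map T.f))
        epi_g := inferInstanceAs (Epi (R.map T.g)) }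
    let m : (T.map R).map L ⟶ T :=
      { τ₁ := adj.counit.app _, τ₂ := adj.counit.app _, τ₃ := adj.counit.app _
        comm₁₂ := (adj.counit.naturality T.f).symm
        comm₂₃ := (adj.counit.naturality T.g).symm }
    haveI := ShortComplex.isIso₂_of_shortExact_of_isIso₁₃' m (hS.map_of_exact _) hT (hc A eA) (hc B eB)
    exact ⟨R.obj T.X₂, P.prop_X₂_of_shortExact hS (hP (asIso (adj.unit.app A) ≪≫ R.mapIso eA) hA)
      (hP (asIso (adj.unit.app B) ≪≫ R.mapIso eB) hB), ⟨asIso m.τ₂⟩⟩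

end General

section ProEt

variable {X : Scheme.{u}} [ProEtS.EpsCont X]

theorem isWeakSerre_epsPull_image (S : ObjectProperty (EtCoh.Ab X)) [WSerre.IsWeakSerre S] :
    WSerre.IsWeakSerre (fun F : ProEtS.AbP X =>
      ∃ G : EtCoh.Ab X, S G ∧ Nonempty ((ProEtS.epsPull X).obj G ≅ F)) := by
  haveI : ∀ F, IsIso ((ProEtS.epsAdj X).unit.app F) := fun F => EpsLan.isIso_unit F
  haveI : IsIso (ProEtS.epsAdj X).unit := NatIso.isIso_of_isIso_app _
  exact isWeakSerre_image (ProEtS.epsAdj X) S fun T hT ⟨A, ⟨e⟩⟩ => EpsLan.epi_epsPush_of_iso hT A e.symm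

variable (Λ : Type (u + 1)) [CommRing Λ]

theorem isWeakSerre_epsPullMod_image (P : ObjectProperty (EtModW.Mod Λ X)) [WSerre.IsWeakSerre P] :
    WSerre.IsWeakSerre (fun F : EtModW.ModP Λ X =>
      ∃ E : EtModW.Mod Λ X, P E ∧ Nonempty ((EtModW.epsPullMod Λ X).obj E ≅ F)) := by
  let R := (ProEtS.eps X).sheafPushforwardContinuous (ModuleCat.{u + 1} Λ) X.smallEtaleTopology
    (Scheme.ProEt.topology X)
  let adj : EtModW.epsPullMod Λ X ⊣ R := (ProEtS.eps X).sheafAdjunctionContinuous (ModuleCat.{u + 1} Λ)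
    X.smallEtaleTopology (Scheme.ProEt.topology X)
  haveI : ∀ F, IsIso (adj.unit.app F) := fun F => EpsLan.isIso_unitMod Λ F
  haveI : IsIso adj.unit := NatIso.isIso_of_isIso_app _
  haveI : PreservesFiniteLimits (EtModW.epsPullMod Λ X) :=
    RPlusComp.ModLan.sheafPullback_preservesFiniteLimits Λ (ProEtS.eps X) _ _
  refine isWeakSerre_image adj P fun T hT ⟨A, ⟨e⟩⟩ => ?_
  obtain ⟨eU⟩ := EpsLan.nonempty_undP_pull Λ A
  have hE : Epi ((ProEtS.epsPush X).map ((EpsLan.undP Λ).map T.g)) :=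
    EpsLan.epi_epsPush_of_iso (EpsLan.shortExact_undP Λ hT) _ ((EpsLan.undP Λ).mapIso e.symm ≪≫ eU)
  haveI hs : Sheaf.IsLocallySurjective ((ProEtS.epsPush X).map ((EpsLan.undP Λ).map T.g)) :=
    (Sheaf.isLocallySurjective_iff_epi' AddCommGrpCat.{u + 1} ((ProEtS.epsPush X).map ((EpsLan.undP Λ).map T.g))).2 hE
  haveI : Sheaf.IsLocallySurjective (R.map T.g) :=
    ⟨fun s => Presheaf.imageSieve_mem X.smallEtaleTopology
      ((ProEtS.epsPush X).map ((EpsLan.undP Λ).map T.g)).hom s⟩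
  exact (Sheaf.isLocallySurjective_iff_epi' (ModuleCat.{u + 1} Λ) (R.map T.g)).1 inferInstance

/-- constructible sheaves of modules form a weak Serre subcategory -/
theorem isWeakSerre_isConstructible [IsNoetherianRing Λ] {Y : Scheme.{u}} :
    WSerre.IsWeakSerre (fun F : EtModW.Mod Λ Y => EtModW.IsConstructible Λ F) := by
  have hz : ∀ Z : EtModW.Mod Λ Y, IsZero Z → EtModW.IsFTLocConst Λ Z := fun Z hZ => by
    rw [isFTLocConst_iff]
    intro Ω _ _ ξ
    let U : Y.Etale := Scheme.Etale.mk (𝟙 Y)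
    refine ⟨U, (Over.homMk ξ (Category.comp_id ξ) : Over.mk ξ ⟶ (Scheme.Etale.forget Y).obj U), PUnit.{u + 2},
      inferInstance, inferInstance, inferInstance, 0, ?_⟩
    rw [isTrivG_iff]
    intro Ω' _ _ ξ' x
    haveI := ModuleCat.subsingleton_of_isZero ((EtModW.stalk Λ ξ').map_isZero hZ)
    exact ⟨fun a b _ => Subsingleton.elim a b,
      fun z => ⟨0, @Subsingleton.elim ((EtModW.stalk Λ ξ').obj Z) _ _ z⟩⟩
  refine { exists_zero := ⟨_, isZero_zero _, isConstructible_of_isFTLocConst (hz _ (isZero_zero _))⟩, kernels_le := ?_, cokernels_le := ?_, prop_X₂_of_shortExact := ?_ }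
  · rintro _ ⟨f, k, hk, hf⟩
    exact IsConstructible.ofIso ((kernelIsKernel f).conePointUniqueUpToIso hk)
      (isConstructible_kernel_cokernel f hf.1 hf.2).1
  · rintro _ ⟨f, k, hk, hf⟩
    exact IsConstructible.ofIso ((cokernelIsCokernel f).coconePointUniqueUpToIso hk)
      (isConstructible_kernel_cokernel f hf.1 hf.2).2
  · exact fun hS h1 h3 => isConstructible_middle hS h1 h3

end ProEt

end Groth.Agent.EtTrivGen
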