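import Groth.Agent.EtTrivGen.AdicLisse
import Groth.Agent.EtTrivGen.EpsImage
import Groth.Agent.EpsLan.Push

/-!
Adic towers of pro-etale sheaves come from adic etale systems; pro-etale and etale inverse images agree.
-/

set_option autoImplicit false
set_option backward.isDefEq.respectTransparency false
set_option backward.isDefEq.respectTransparency.types false
set_option linter.style.haveILetI false
set_option linter.unusedSectionVars false
set_option maxHeartbeats 1000000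
set_option synthInstance.maxHeartbeats 200000

universe u v v' w w' z

open CategoryTheory CategoryTheory.Limits AlgebraicGeometry Opposite

noncomputable section

namespace Groth.Agent.EtTrivGen

section General

variable {A : Type z} [CommRing A] {C : Type w} [Category.{v} C] [Abelian C] [Linear A C]
  {D : Type w'} [Category.{v'} D] [Abelian D] [Linear A D] {L : C ⥤ D} {R : D ⥤ C}

theorem adj_map_smul (adj : L ⊣ R) [R.Additive] [Functor.Linear A R] (a : A) {X Y : C} (φ : X ⟶ Y) :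
    L.map (a • φ) = a • L.map φ := by
  rw [← Category.id_comp φ, ← Linear.smul_comp, L.map_comp, adj_map_smul_id adj, Linear.smul_comp, L.map_comp,
    L.map_id]

theorem isQuot_of_map (adj : L ⊣ R) [R.Additive] [Functor.Linear A R] [L.Full] [L.Faithful] {J : Ideal A}
    {X Q : C} {p : X ⟶ Q} (h : ARSys.IsQuot J (L.map p)) : ARSys.IsQuot J p := by
  haveI := adj.leftAdjoint_preservesColimits
  haveI : L.Additive := adj.left_adjoint_additive
  refine ⟨fun a ha => L.map_injective ?_, fun Y φ hφ => ?_⟩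
  · rw [adj_map_smul adj, L.map_id, L.map_zero]
    exact h.1 a ha
  · obtain ⟨ψ, hψ, hu⟩ := h.2 (L.obj Y) (L.map φ) fun a ha => by rw [← adj_map_smul adj, hφ a ha, L.map_zero]
    obtain ⟨ψ₀, rfl⟩ := L.map_surjective ψ
    refine ⟨ψ₀, L.map_injective (by rw [L.map_comp]; exact hψ), fun ψ' h' => L.map_injective (hu _ ?_)⟩
    dsimp only at h' ⊢
    rw [← L.map_comp, h']

theorem isQuot_congr {J : Ideal A} {X Q X' Q' : D} {p : X ⟶ Q} {p' : X' ⟶ Q'} (eX : X ≅ X') (eQ : Q ≅ Q')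
    (hp : p ≫ eQ.hom = eX.hom ≫ p') (h : ARSys.IsQuot J p') : ARSys.IsQuot J p := by
  refine ⟨fun a ha => ?_, fun Y φ hφ => ?_⟩
  · rw [← cancel_mono eQ.hom, zero_comp, Linear.smul_comp, Category.id_comp, ← Category.comp_id eQ.hom,
      ← Linear.comp_smul, h.1 a ha, comp_zero]
  · obtain ⟨ψ, hψ, hu⟩ := h.2 Y (eX.inv ≫ φ) fun a ha => by rw [← Linear.comp_smul, hφ a ha, comp_zero]
    refine ⟨eQ.hom ≫ ψ, ?_, fun ψ' h' => ?_⟩
    · dsimp only
      rw [← Category.assoc, hp, Category.assoc, hψ, Iso.hom_inv_id_assoc]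
    · rw [← hu (eQ.inv ≫ ψ') ?_, Iso.hom_inv_id_assoc]
      dsimp only at h' ⊢
      rw [← h', ← cancel_epi eX.hom, ← Category.assoc, ← hp, Category.assoc, Iso.hom_inv_id_assoc,
        Iso.hom_inv_id_assoc]

theorem isAdic_of_quotTower {I : Ideal A} {F : D} {Q : ARSys.PS D} (p : (Functor.const ℕᵒᵖ).obj F ⟶ Q)
    (hQ : ∀ n : ℕ, ARSys.IsQuot (I ^ (n + 1)) (p.app (op n))) : ARSys.IsAdic I Q := by
  refine ⟨fun n => (hQ n).1, fun n m h => ⟨(hQ n).1, fun Y φ hφ => ?_⟩⟩
  have hnat : p.app (op m) ≫ ARSys.tr Q h = p.app (op n) :=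
    (p.naturality (homOfLE h).op).symm.trans (Category.id_comp _)
  have hk : ARSys.HomKilledBy (I ^ (n + 1)) (p.app (op m) ≫ φ) := fun a ha => by
    rw [← Linear.comp_smul, hφ a ha, comp_zero]
  obtain ⟨ψ, hψ, hu⟩ := (hQ n).2 Y _ hk
  refine ⟨ψ, IsQuot.hom_ext (hQ m) ?_, fun ψ' h' => hu _ ?_⟩
  · rw [← Category.assoc, hnat]
    exact hψ
  · dsimp only at h' ⊢
    rw [← hnat, Category.assoc, h']

/-- an adic system of a reflective image comes from an adic system -/
theorem exists_adic_preimage (adj : L ⊣ R) [R.Additive] [Functor.Linear A R] [IsIso adj.unit] {I : Ideal A}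
    (P : ObjectProperty C) [P.IsClosedUnderIsomorphisms] {Q : ARSys.PS D} (hQ : ARSys.IsAdic I Q)
    (hP : ∀ n : ℕ, ∃ E, P E ∧ Nonempty (L.obj E ≅ Q.obj (op n))) :
    ∃ E : ARSys.PS C, ARSys.IsAdic I E ∧ (∀ n : ℕ, P (E.obj (op n))) ∧ Nonempty (E ⋙ L ≅ Q) := by
  let hff := adj.fullyFaithfulLOfIsIsoUnit
  haveI := hff.full; haveI := hff.faithful
  have hc : ∀ n : ℕᵒᵖ, IsIso (adj.counit.app (Q.obj n)) := fun n => by
    obtain ⟨E, -, ⟨e⟩⟩ := hP n.unop
    have h0 : IsIso (adj.counit.app (L.obj E)) := IsIso.of_isIso_fac_left (adj.left_triangle_components E)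
    exact (NatTrans.isIso_app_iff_of_iso adj.counit e).1 h0
  haveI : IsIso (Functor.whiskerLeft Q adj.counit) := by
    haveI : ∀ n, IsIso ((Functor.whiskerLeft Q adj.counit).app n) := hc
    exact NatIso.isIso_of_isIso_app _
  let e : (Q ⋙ R) ⋙ L ≅ Q := asIso (Functor.whiskerLeft Q adj.counit)
  refine ⟨Q ⋙ R, ⟨fun n a ha => L.map_injective ?_, fun n m h => isQuot_of_map adj
    (isQuot_congr (e.app (op m)) (e.app (op n)) (e.hom.naturality (homOfLE h).op) (hQ.2 n m h))⟩, fun n => ?_, ⟨e⟩⟩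
  · haveI := adj.leftAdjoint_preservesColimits
    haveI : L.Additive := adj.left_adjoint_additive
    rw [adj_map_smul adj, L.map_id, L.map_zero, ← cancel_mono (e.app (op n)).hom, zero_comp, Linear.smul_comp,
      Category.id_comp, ← Category.comp_id (e.app (op n)).hom, ← Linear.comp_smul, hQ.1 n a ha, comp_zero]
  · obtain ⟨E, hE, ⟨i⟩⟩ := hP n
    exact P.prop_of_iso (asIso (adj.unit.app E) ≪≫ R.mapIso i) hE

end General

section ProEt

variable (Λ : Type (u + 1)) [CommRing Λ] {X Y : Scheme.{u}} [ProEtS.EpsCont X] [ProEtS.EpsCont Y]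

/-- restriction from the pro-etale site -/
abbrev epsPushMod (X : Scheme.{u}) [ProEtS.EpsCont X] : EtModW.ModP Λ X ⥤ EtModW.Mod Λ X :=
  (ProEtS.eps X).sheafPushforwardContinuous (ModuleCat.{u + 1} Λ) X.smallEtaleTopology (Scheme.ProEt.topology X)

instance additive_epsPushMod : (epsPushMod Λ X).Additive where

instance linear_epsPushMod : Functor.Linear Λ (epsPushMod Λ X) where

/-- the adjunction -/
abbrev epsAdjMod (X : Scheme.{u}) [ProEtS.EpsCont X] : EtModW.epsPullMod Λ X ⊣ epsPushMod Λ X :=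
  (ProEtS.eps X).sheafAdjunctionContinuous (ModuleCat.{u + 1} Λ) X.smallEtaleTopology (Scheme.ProEt.topology X)

instance isIso_unit_epsAdjMod : IsIso (epsAdjMod Λ X).unit := by
  haveI : ∀ F, IsIso ((epsAdjMod Λ X).unit.app F) := fun F => EpsLan.isIso_unitMod Λ F
  exact NatIso.isIso_of_isIso_app _

theorem exists_etale_tower [IsNoetherianRing Λ] {I : Ideal Λ} {F : EtModW.ModP Λ X}
    {Q : ℕᵒᵖ ⥤ EtModW.ModP Λ X} (p : (Functor.const ℕᵒᵖ).obj F ⟶ Q)
    (hQ : ∀ n : ℕ, ARSys.IsQuot (I ^ (n + 1)) (p.app (op n)))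
    (hc : ∀ n : ℕ, ∃ E : EtModW.Mod Λ X, EtModW.IsConstructible Λ E ∧
      Nonempty ((EtModW.epsPullMod Λ X).obj E ≅ Q.obj (op n))) :
    ∃ E : ARSys.PS (EtModW.Mod Λ X), ARSys.IsAdic I E ∧ (∀ n : ℕ, EtModW.IsConstructible Λ (E.obj (op n))) ∧
      Nonempty (E ⋙ EtModW.epsPullMod Λ X ≅ Q) := by
  let P : ObjectProperty (EtModW.Mod Λ X) := fun E => EtModW.IsConstructible Λ E
  haveI : P.IsClosedUnderIsomorphisms := ⟨fun i h => IsConstructible.ofIso i h⟩
  exact exists_adic_preimage (epsAdjMod Λ X) P (isAdic_of_quotTower p hQ) hc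

variable (f : X ⟶ Y) [ProEtS.PCont f]

/-- direct images of modules commute with `ε_*` -/
def pushEpsMod : epsPushMod Λ X ⋙ EtModW.push Λ f ≅
    (ProEtS.bcP f).sheafPushforwardContinuous (ModuleCat.{u + 1} Λ) (Scheme.ProEt.topology Y)
      (Scheme.ProEt.topology X) ⋙ epsPushMod Λ Y :=
  NatIso.ofComponents (fun G => ObjectProperty.isoMk _ (Functor.isoWhiskerRight (NatIso.op (EpsLan.bcEps f)) G.obj))
    (fun {_ _} a => Sheaf.hom_ext (NatTrans.ext (funext fun V =>
      (a.hom.naturality ((NatIso.op (EpsLan.bcEps f)).hom.app V)).symm)))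

/-- inverse images of modules commute with `ε⁻¹` -/
def pullEpsMod : EtModW.pull Λ f ⋙ EtModW.epsPullMod Λ X ≅ EtModW.epsPullMod Λ Y ⋙
    (ProEtS.bcP f).sheafPullback (ModuleCat.{u + 1} Λ) (Scheme.ProEt.topology Y) (Scheme.ProEt.topology X) :=
  Adjunction.leftAdjointUniq
    (((EtSix.pullPushModAdj Λ f).comp (epsAdjMod Λ X)).ofNatIsoRight (pushEpsMod Λ f))
    ((epsAdjMod Λ Y).comp ((ProEtS.bcP f).sheafAdjunctionContinuous (ModuleCat.{u + 1} Λ)
      (Scheme.ProEt.topology Y) (Scheme.ProEt.topology X)))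

theorem exists_lisse_pullP {E : EtModW.Mod Λ Y} {Q : EtModW.ModP Λ Y}
    (e : (EtModW.epsPullMod Λ Y).obj E ≅ Q) (h : EtModW.IsFTLocConst Λ ((EtModW.pull Λ f).obj E)) :
    ∃ E' : EtModW.Mod Λ X, EtModW.IsFTLocConst Λ E' ∧ Nonempty ((EtModW.epsPullMod Λ X).obj E' ≅
      ((ProEtS.bcP f).sheafPullback (ModuleCat.{u + 1} Λ) (Scheme.ProEt.topology Y)
        (Scheme.ProEt.topology X)).obj Q) :=
  ⟨_, h, ⟨(pullEpsMod Λ f).app E ≪≫ ((ProEtS.bcP f).sheafPullback (ModuleCat.{u + 1} Λ) (Scheme.ProEt.topology Y)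
    (Scheme.ProEt.topology X)).mapIso e⟩⟩

end ProEt

end Groth.Agent.EtTrivGen
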