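import Groth.Agent.EtTrivGen.AdicCons
import Groth.Agent.EtTrivGen.AdicStalk
import Groth.Agent.EtTrivGen.StalkSpec
import Groth.Agent.EtTrivGen.EpsAdic

/-!
Exact faithful functors reflect being adic up to translation; finite type locally constant systems on connected
schemes.
-/

set_option autoImplicit false
set_option backward.isDefEq.respectTransparency false
set_option backward.isDefEq.respectTransparency.types false
set_option linter.style.haveILetI false
set_option linter.unusedSectionVars false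
set_option maxHeartbeats 1000000

universe u v v' w w' z

open CategoryTheory CategoryTheory.Limits AlgebraicGeometry Opposite
open scoped ZeroObject

noncomputable section

namespace Groth.Agent.EtTrivGen

section General

variable {A : Type z} [CommRing A] [IsNoetherianRing A] {C : Type w} [Category.{v} C] [Abelian C] [Linear A C]
  {D : Type w'} [Category.{v'} D] [Abelian D] [Linear A D] (L : C ⥤ D) [L.Additive] [Functor.Linear A L]
  [PreservesFiniteLimits L] [PreservesFiniteColimits L] [L.Faithful]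

theorem rng_le_iff_comp {X X' Y : C} (f : X ⟶ Y) (g : X' ⟶ Y) :
    ARLib.rng f ≤ ARLib.rng g ↔ f ≫ cokernel.π g = 0 := by
  rw [← ARLib.rng_cokernel_π (f := g), ← ARLib.img_eq_bot_iff, ← ARLib.rng_comp, ← ARLib.eq_zero_iff_rng]

theorem rng_le_of_map {X X' Y : C} (f : X ⟶ Y) (g : X' ⟶ Y)
    (h : ARLib.rng (L.map f) ≤ ARLib.rng (L.map g)) : ARLib.rng f ≤ ARLib.rng g := by
  rw [rng_le_iff_comp] at h ⊢
  refine L.map_injective ?_
  have h0 : L.map g ≫ L.map (cokernel.π g) = 0 := by rw [← L.map_comp, cokernel.condition, L.map_zero]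
  rw [L.map_comp, L.map_zero, ← cokernel.π_desc (L.map g) _ h0, ← Category.assoc, h, zero_comp]

theorem mlb_of_map {X : ARSys.PS C} {r : ℕ} (h : ARLib.MLb (X ⋙ L) r) : ARLib.MLb X r := by
  intro n m k h1 h2
  exact rng_le_of_map L _ _ (h n m k h1 h2)

theorem subLE_of_map {J : Ideal A} {X Y : C} (f : X ⟶ Y) (k : ℕ)
    (h : ARLib.ker (L.map f) ≤ ARLib.P J k ⊤) : ARLib.ker f ≤ ARLib.P J k ⊤ := by
  refine (ARLib.subLE_iff _).1 fun W φ hφ => L.map_injective ?_
  rw [L.map_comp, L.map_zero]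
  have hk : ARSys.HomKilledBy (J ^ k) (L.map φ) := fun a ha => by
    rw [← Functor.map_smul, hφ a ha, L.map_zero]
  have h1 := (ARLib.subLE_iff _).2 h _ (L.map φ) hk
  have h0 : L.map (ARLib.ker f).arrow ≫ L.map f = 0 := by
    rw [← L.map_comp, ← L.map_zero]
    exact congrArg L.map ((ARLib.ker_factors_iff f _).1 (Subobject.factors_self _))
  obtain ⟨t, ht⟩ : ∃ t, t ≫ (ARLib.ker (L.map f)).arrow = L.map (ARLib.ker f).arrow :=
    ⟨_, Subobject.factorThru_arrow _ _ ((ARLib.ker_factors_iff _ _).2 h0)⟩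
  rw [← ht, Category.assoc, h1, comp_zero]

/-- exact faithful linear functors reflect being adic up to translation -/
theorem isARAdic_of_map {J : Ideal A} {X : ARSys.PS C} (hk : ARSys.TermKilled J X)
    (h : ARSys.IsARAdic J (X ⋙ L)) : ARSys.IsARAdic J X := by
  obtain ⟨r, hr⟩ := (ARLib.isMLAR_iff _).1 (ARLib.isMLAR_of_isARAdic h)
  have hr' := mlb_of_map L hr
  let Y := ARLib.univSys hr'
  let ι : Y ⟶ X := ARLib.univι hr'
  have hι : ARSys.IsARIso ι := ARLib.isARIso_univι hr'
  have hstr : ARSys.IsStrict Y := ARLib.isStrict_univSys hr'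
  haveI : Mono ι := inferInstanceAs (Mono (ARLib.univι hr'))
  have hkY : ARSys.TermKilled J Y := ARLib.termKilled_of_mono ι hk
  have hstr' : ARSys.IsStrict (Y ⋙ L) := fun n m hnm => by
    haveI := hstr n m hnm
    exact inferInstanceAs (Epi (L.map (ARSys.tr Y hnm)))
  have hkY' : ARSys.TermKilled J (Y ⋙ L) := fun n a ha => by
    change a • 𝟙 (L.obj (Y.obj (op n))) = 0
    rw [← L.map_id, ← Functor.map_smul, hkY n a ha, L.map_zero]
  obtain ⟨t, ht⟩ := ARLib.crit_of_isARAdic hstr'
    (ARLib.isARAdic_of_isARIso' (isARIso_map ι hι) hkY' h)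
  exact ARLib.isARAdic_of_isARIso hι hk
    (ARLib.isARAdic_of_crit hstr hkY (r := t) fun n m hnm => subLE_of_map L _ _ (ht n m hnm))

end General

variable {Λ : Type (u + 1)} [CommRing Λ] [IsNoetherianRing Λ] {X : Scheme.{u}}

variable (Λ X) in
/-- finite type locally constant sheaves -/
abbrev ftP : ObjectProperty (EtModW.Mod Λ X) := fun F => EtModW.IsFTLocConst Λ F

instance isWeakSerre_ftP : WSerre.IsWeakSerre (ftP Λ X) := by
  have hz : EtModW.IsFTLocConst Λ (0 : EtModW.Mod Λ X) := by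
    rw [isFTLocConst_iff]
    intro Ω _ _ ξ
    let U : X.Etale := Scheme.Etale.mk (𝟙 X)
    refine ⟨U, (Over.homMk ξ (Category.comp_id ξ) : Over.mk ξ ⟶ (Scheme.Etale.forget X).obj U), PUnit.{u + 2},
      inferInstance, inferInstance, inferInstance, 0, ?_⟩
    rw [isTrivG_iff]
    intro Ω' _ _ ξ' x
    haveI := ModuleCat.subsingleton_of_isZero ((EtModW.stalk Λ ξ').map_isZero (isZero_zero (EtModW.Mod Λ X)))
    exact ⟨fun a b _ => Subsingleton.elim a b,
      fun z => ⟨0, @Subsingleton.elim ((EtModW.stalk Λ ξ').obj 0) _ _ z⟩⟩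
  refine { exists_zero := ⟨_, isZero_zero _, hz⟩, kernels_le := ?_, cokernels_le := ?_, prop_X₂_of_shortExact := ?_ }
  · rintro _ ⟨f, k, hk, hf⟩
    exact IsFTLocConst.ofIso ((kernelIsKernel f).conePointUniqueUpToIso hk) (isFTLocConst_kernel f hf.1 hf.2)
  · rintro _ ⟨f, k, hk, hf⟩
    exact IsFTLocConst.ofIso ((cokernelIsCokernel f).coconePointUniqueUpToIso hk)
      (isFTLocConst_cokernel f hf.1 hf.2)
  · exact fun hS h1 h3 => isFTLocConst_of_shortExact hS h1 h3

variable [IsNoetherian X] [ConnectedSpace X] {Ω : Type u} [Field Ω] [IsSepClosed Ω]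
  (s : Spec (CommRingCat.of Ω) ⟶ X)

theorem isZero_of_stalk {H : EtModW.Mod Λ X} (hH : EtModW.IsFTLocConst Λ H)
    (h : IsZero ((EtModW.stalk Λ s).obj H)) : IsZero H := by
  rw [IsZero.iff_id_eq_zero]
  let Z := (0 : EtModW.Mod Λ X)
  haveI : IsIso (0 : H ⟶ Z) := isIso_of_stalk _ fun Ω' _ _ ξ => by
    obtain ⟨e⟩ := nonempty_iso_stalks ((Functor.const ℕᵒᵖ).obj H) (fun _ => hH) s ξ
    exact ⟨⟨0, (h.of_iso (e.app (op 0)).symm).eq_of_src _ _,
      ((EtModW.stalk Λ ξ).map_isZero (isZero_zero _)).eq_of_src _ _⟩⟩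
  rw [← cancel_mono (0 : H ⟶ Z)]
  simp

theorem isARAdic_of_stalk {I : Ideal Λ} (F : ARSys.PS (EtModW.Mod Λ X))
    (hl : ∀ n : ℕ, EtModW.IsFTLocConst Λ (F.obj (op n))) (hk : ARSys.TermKilled I F)
    (h : ARSys.IsARAdic I (F ⋙ EtModW.stalk Λ s)) :
    ∃ (Y : ARSys.PS (EtModW.Mod Λ X)) (v : Y ⟶ F), ARSys.IsAdic I Y ∧
      (∀ n : ℕ, EtModW.IsConstructible Λ (Y.obj (op n))) ∧ ARSys.IsARIso v := by
  let P := ftP Λ X
  haveI : PreservesFiniteLimits P.ι := WSerre.preservesFiniteLimits_ι P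
  haveI : PreservesFiniteColimits P.ι := WSerre.preservesFiniteColimits_ι P
  let L : P.FullSubcategory ⥤ ModuleCat.{u + 1} Λ := P.ι ⋙ EtModW.stalk Λ s
  let adj : EtModW.stalk Λ s ⊣ sky s := (Scheme.pointSmallEtale s).skyscraperSheafAdjunction
  haveI : PreservesFiniteColimits (EtModW.stalk Λ s) := inferInstance
  haveI : (EtModW.stalk Λ s).Additive := adj.left_adjoint_additive
  haveI : Functor.Linear Λ (EtModW.stalk Λ s) := ⟨fun {_ _} φ a => adj_map_smul adj a φ⟩
  haveI : PreservesFiniteLimits L := comp_preservesFiniteLimits _ _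
  haveI : PreservesFiniteColimits L := comp_preservesFiniteColimits _ _
  haveI : L.Faithful := by
    refine ⟨fun {E E'} φ φ' e => ?_⟩
    rw [← sub_eq_zero]
    have h0 : L.map (φ - φ') = 0 := by rw [L.map_sub]; exact sub_eq_zero.2 e
    haveI : L.PreservesEpimorphisms := inferInstance
    haveI : Epi (L.map (factorThruImage (φ - φ'))) := L.map_epi _
    have him : IsZero (L.obj (image (φ - φ'))) := by
      rw [IsZero.iff_id_eq_zero, ← cancel_mono (L.map (image.ι (φ - φ'))), zero_comp, Category.id_comp,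
        ← cancel_epi (L.map (factorThruImage (φ - φ'))), comp_zero, ← L.map_comp, image.fac]
      exact h0
    have hz : IsZero (image (φ - φ')) := by
      have := isZero_of_stalk s (image (φ - φ')).property him
      rw [IsZero.iff_id_eq_zero] at this ⊢
      exact InducedCategory.hom_ext this
    rw [← image.fac (φ - φ'), hz.eq_zero_of_src (image.ι (φ - φ')), comp_zero]
  let F' := liftSys P F hl
  have hk' : ARSys.TermKilled I F' := fun n => (killedBy_hom_iff P _).2 (hk n)
  obtain ⟨-, Y, v, hY, hv⟩ := isARAdic_of_map L hk' (h : ARSys.IsARAdic I (F' ⋙ L))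
  exact ⟨Y ⋙ P.ι, Functor.whiskerRight v P.ι, (isAdic_ι_iff P Y).1 hY,
    fun n => isConstructible_of_isFTLocConst (Y.obj (op n)).property, (isARIso_ι_iff P v).1 hv⟩

end Groth.Agent.EtTrivGen
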