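import Groth.Agent.EtTrivGen.Adic
import Groth.Agent.EtTrivGen.Noeth
import Groth.Agent.EtTrivGen.EpsImage
import Groth.Agent.ARLib.Ker
import Mathlib.CategoryTheory.Abelian.Subcategory

/-!
Adic systems in a weak Serre subcategory; adic systems of constructible sheaves of modules.
-/

set_option autoImplicit false
set_option backward.isDefEq.respectTransparency false
set_option backward.isDefEq.respectTransparency.types false
set_option linter.style.haveILetI false
set_option linter.unusedSectionVars false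

universe u v w z

open CategoryTheory CategoryTheory.Limits AlgebraicGeometry Opposite

noncomputable section

namespace Groth.Agent.EtTrivGen

section Sub

variable {A : Type z} [CommRing A] [IsNoetherianRing A] {C : Type w} [Category.{v} C] [Abelian C] [Linear A C]
  (P : ObjectProperty C) [WSerre.IsWeakSerre P]

/-- quotient by finitely many scalars, computed in the subcategory -/
theorem exists_quot_finset (s : Finset A) (X : P.FullSubcategory) :
    ∃ (Q : P.FullSubcategory) (q : X ⟶ Q), Epi q.hom ∧ (∀ a ∈ s, a • q.hom = 0) ∧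
      ∀ (Y : C) (φ : X.obj ⟶ Y), (∀ a ∈ s, a • φ = 0) → ∃ ψ, q.hom ≫ ψ = φ := by
  classical
  induction s using Finset.cons_induction with
  | empty => exact ⟨X, 𝟙 X, (inferInstance : Epi (𝟙 X.obj)), by simp, fun Y φ _ => ⟨φ, Category.id_comp φ⟩⟩
  | cons a t _ ih =>
    obtain ⟨Q, q, hq, hz, hu⟩ := ih
    haveI := hq
    let f : Q.obj ⟶ Q.obj := a • 𝟙 Q.obj
    let π : Q ⟶ ⟨cokernel f, P.prop_cokernel f Q.property Q.property⟩ := P.homMk (cokernel.π f)
    refine ⟨_, q ≫ π, epi_comp q.hom (cokernel.π f), fun b hb => ?_, fun Y φ hφ => ?_⟩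
    · change b • (q.hom ≫ cokernel.π f) = 0
      rcases Finset.mem_cons.1 hb with rfl | hb
      · have h := cokernel.condition f
        simp only [f, Linear.smul_comp, Category.id_comp] at h
        rw [← Linear.comp_smul, h, comp_zero]
      · rw [← Linear.smul_comp, hz b hb, zero_comp]
    · obtain ⟨ψ, hψ⟩ := hu Y φ fun b hb => hφ b (Finset.mem_cons_of_mem hb)
      have hf : f ≫ ψ = 0 := by
        rw [← cancel_epi q.hom, comp_zero]
        simp only [f, Linear.smul_comp, Category.id_comp, Linear.comp_smul, hψ]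
        exact hφ a (Finset.mem_cons_self _ _)
      refine ⟨cokernel.desc f ψ hf, ?_⟩
      change (q.hom ≫ cokernel.π f) ≫ _ = φ
      rw [Category.assoc, cokernel.π_desc, hψ]

theorem homKilled_span {I : Ideal A} {X Y : C} (φ : X ⟶ Y) (s : Finset A) (hs : Ideal.span (s : Set A) = I) :
    ARSys.HomKilledBy I φ ↔ ∀ a ∈ s, a • φ = 0 := by
  constructor
  · exact fun h a ha => h a (hs ▸ Ideal.subset_span ha)
  · intro h a ha
    subst hs
    let S : Submodule A A :=
      { carrier := {a | a • φ = 0}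
        zero_mem' := zero_smul A φ
        add_mem' := fun {a b} (ha : a • φ = 0) (hb : b • φ = 0) => by
          change (a + b) • φ = 0
          rw [add_smul, ha, hb, add_zero]
        smul_mem' := fun c a (ha : a • φ = 0) => by
          change (c • a) • φ = 0
          rw [smul_eq_mul, mul_smul, ha, smul_zero] }
    exact (Submodule.span_le (p := S)).2 h ha

theorem killedBy_hom_iff {I : Ideal A} (X : P.FullSubcategory) :
    ARSys.KilledBy I X ↔ ARSys.KilledBy I X.obj := by
  refine forall₂_congr fun a _ => ⟨fun h => ?_, fun h => ?_⟩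
  · exact congrArg InducedCategory.Hom.hom h
  · exact InducedCategory.hom_ext h

theorem isQuot_hom_iff {I : Ideal A} {X Q : P.FullSubcategory} (p : X ⟶ Q) :
    ARSys.IsQuot I p ↔ ARSys.IsQuot I p.hom := by
  constructor
  · intro hp
    obtain ⟨s, hs⟩ := IsNoetherian.noetherian I
    obtain ⟨Q', q, hq, hz, hu⟩ := exists_quot_finset P s X
    haveI := hq
    have hkill : ARSys.KilledBy I Q'.obj := fun a ha => by
      rw [← cancel_epi q.hom, comp_zero, Linear.comp_smul, Category.comp_id]
      exact (homKilled_span q.hom s hs).2 hz a ha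
    have hq' : ARSys.IsQuot I q.hom :=
      ⟨hkill, fun Y φ hφ => by
        obtain ⟨ψ, hψ⟩ := hu Y φ ((homKilled_span φ s hs).1 hφ)
        exact ⟨ψ, hψ, fun ψ' h => (cancel_epi q.hom).1 (h.trans hψ.symm)⟩⟩
    have hqs : ARSys.HomKilledBy I q := fun a ha =>
      InducedCategory.hom_ext ((homKilled_span q.hom s hs).2 hz a ha)
    have hps : ARSys.HomKilledBy I p.hom := fun a ha => by
      rw [← Category.comp_id p.hom, ← Linear.comp_smul, (killedBy_hom_iff P Q).1 hp.1 a ha, comp_zero]
    obtain ⟨e, he, -⟩ := hp.2 Q' q hqs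
    obtain ⟨e', he', -⟩ := hq'.2 Q.obj p.hom hps
    have he0 : p.hom ≫ e.hom = q.hom := congrArg InducedCategory.Hom.hom he
    have h1 : e.hom ≫ e' = 𝟙 _ := by
      have := (hp.2 Q p (fun a ha => InducedCategory.hom_ext (hps a ha))).unique
        (y₁ := P.homMk (e.hom ≫ e')) (y₂ := 𝟙 Q)
        (InducedCategory.hom_ext (by
          change p.hom ≫ e.hom ≫ e' = p.hom
          rw [← Category.assoc, he0, he'])) (Category.comp_id p)
      exact congrArg InducedCategory.Hom.hom this
    have h2 : e' ≫ e.hom = 𝟙 _ := by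
      rw [← cancel_epi q.hom, ← Category.assoc, he', he0, Category.comp_id]
    refine ⟨(killedBy_hom_iff P Q).1 hp.1, fun Y φ hφ => ?_⟩
    obtain ⟨ψ, hψ, hψu⟩ := hq'.2 Y φ hφ
    refine ⟨e.hom ≫ ψ, ?_, fun ψ' h => ?_⟩
    · change p.hom ≫ e.hom ≫ ψ = φ
      rw [← Category.assoc, he0]
      exact hψ
    · have h' : p.hom ≫ ψ' = φ := h
      have := hψu (e' ≫ ψ') (by
        change q.hom ≫ e' ≫ ψ' = φ
        rw [← Category.assoc, he', h'])
      rw [← this, ← Category.assoc, h1, Category.id_comp]
  · intro hp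
    refine ⟨(killedBy_hom_iff P Q).2 hp.1, fun Y φ hφ => ?_⟩
    obtain ⟨ψ, hψ, hu⟩ := hp.2 Y.obj φ.hom fun a ha => congrArg InducedCategory.Hom.hom (hφ a ha)
    exact ⟨P.homMk ψ, InducedCategory.hom_ext hψ,
      fun ψ' h => InducedCategory.hom_ext (hu ψ'.hom (congrArg InducedCategory.Hom.hom h))⟩

theorem isAdic_ι_iff {I : Ideal A} (F : ARSys.PS P.FullSubcategory) :
    ARSys.IsAdic I F ↔ ARSys.IsAdic I (F ⋙ P.ι) := by
  refine and_congr (forall_congr' fun n => killedBy_hom_iff P _) ?_
  exact forall_congr' fun n => forall_congr' fun m => forall_congr' fun h => isQuot_hom_iff P _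

theorem isARNull_ι_iff (F : ARSys.PS P.FullSubcategory) : ARSys.IsARNull F ↔ ARSys.IsARNull (F ⋙ P.ι) :=
  exists_congr fun r => forall_congr' fun n =>
    ⟨fun h => congrArg InducedCategory.Hom.hom h, fun h => InducedCategory.hom_ext h⟩

theorem isARIso_ι_iff {F G : ARSys.PS P.FullSubcategory} (w : F ⟶ G) :
    ARSys.IsARIso w ↔ ARSys.IsARIso (Functor.whiskerRight w P.ι) := by
  refine ⟨isARIso_map w, fun h => ?_⟩
  let W := (Functor.whiskeringRight ℕᵒᵖ P.FullSubcategory C).obj P.ι
  haveI : W.Additive := ⟨fun {_ _ f g} => by ext n; rfl⟩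
  haveI : PreservesFiniteLimits W := ⟨fun J _ _ => ⟨fun {K} => preservesLimit_of_evaluation _ _ fun j =>
    inferInstanceAs (PreservesLimit K ((evaluation ℕᵒᵖ P.FullSubcategory).obj j ⋙ P.ι))⟩⟩
  haveI : PreservesFiniteColimits W := ⟨fun J _ _ => ⟨fun {K} => preservesColimit_of_evaluation _ _ fun j =>
    inferInstanceAs (PreservesColimit K ((evaluation ℕᵒᵖ P.FullSubcategory).obj j ⋙ P.ι))⟩⟩
  exact ⟨(isARNull_ι_iff P _).2 (isARNull_of_iso (PreservesKernel.iso W w).symm h.1),
    (isARNull_ι_iff P _).2 (isARNull_of_iso (PreservesCokernel.iso W w).symm h.2)⟩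

/-- lift a system with all terms in the subcategory -/
abbrev liftSys (F : ARSys.PS C) (hF : ∀ n : ℕ, P (F.obj (op n))) : ARSys.PS P.FullSubcategory :=
  P.lift F fun n => hF n.unop

/-- lift a map of systems -/
def liftHom {F G : ARSys.PS C} {hF : ∀ n : ℕ, P (F.obj (op n))} {hG : ∀ n : ℕ, P (G.obj (op n))} (w : F ⟶ G) :
    liftSys P F hF ⟶ liftSys P G hG where
  app n := P.homMk (w.app n)
  naturality _ _ f := InducedCategory.hom_ext (w.naturality f)

theorem isNoetherianObject_of_ι (X : P.FullSubcategory) (h : IsNoetherianObject X.obj) : IsNoetherianObject X := by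
  rw [isNoetherianObject_iff_monotone_chain_condition] at h ⊢
  intro c
  haveI : P.ι.PreservesMonomorphisms := inferInstance
  let c' : ℕ →o Subobject X.obj := ⟨fun k => Subobject.mk (P.ι.map (c k).arrow), fun k l hkl =>
    Subobject.mk_le_mk_of_comm (P.ι.map (Subobject.ofLE _ _ (c.monotone hkl))) (by
      rw [← Functor.map_comp, Subobject.ofLE_arrow])⟩
  obtain ⟨N, hN⟩ := h c'
  refine ⟨N, fun m hm => le_antisymm (c.monotone hm) ?_⟩
  refine Subobject.le_of_comm (P.homMk (Subobject.ofMkLEMk _ _ (hN m hm).ge)) (InducedCategory.hom_ext ?_)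
  exact Subobject.ofMkLEMk_comp (hN m hm).ge

end Sub

end Groth.Agent.EtTrivGen
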