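import Groth.Agent.EtTrivGen.Exact

/-!
Finite type locally constant sheaves of modules over a Noetherian ring: kernels, cokernels, extensions.
-/

set_option autoImplicit false
set_option backward.isDefEq.respectTransparency false
set_option linter.style.haveILetI false
set_option linter.unusedSectionVars false
set_option maxHeartbeats 1000000

universe u

open CategoryTheory CategoryTheory.Limits AlgebraicGeometry Opposite

noncomputable section

namespace Groth.Agent.EtTrivGen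

variable {Λ : Type (u + 1)} [CommRing Λ] {X : Scheme.{u}}

/-- germs of a trivialisation are bijective -/
theorem IsTrivG.bij {F : EtModW.Mod Λ X} {U : X.Etale} {M : Type (u + 1)} [AddCommGroup M] [Module Λ M]
    {σ : M →ₗ[Λ] F.obj.obj (op U)} (h : IsTrivG F U (fun m => σ m)) {Ω : Type u} [Field Ω] [IsSepClosed Ω]
    {ξ : Spec (CommRingCat.of Ω) ⟶ X} (y : (Scheme.pointSmallEtale ξ).fiber.obj U) :
    Function.Bijective (fun m => gm F y (σ m)) :=
  (isTrivG_iff F U (fun m => σ m)).1 h Ω ξ y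

theorem IsTrivG.rsComap {F : EtModW.Mod Λ X} {U U' : X.Etale} {M : Type (u + 1)} [AddCommGroup M] [Module Λ M]
    {σ : M →ₗ[Λ] F.obj.obj (op U)} (h : IsTrivG F U (fun m => σ m)) (k : U' ⟶ U) :
    IsTrivG F U' (fun m => ((rs F k).comp σ) m) :=
  h.comap k

variable {Ω : Type u} [Field Ω] [IsSepClosed Ω] {ξ : Spec (CommRingCat.of Ω) ⟶ X}

/-- a map between locally constant sheaves of finite type is locally constant -/
theorem exists_local_hom {F G : EtModW.Mod Λ X} (φ : F ⟶ G) {U : X.Etale}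
    (y : (Scheme.pointSmallEtale ξ).fiber.obj U) {M N : Type (u + 1)} [AddCommGroup M] [Module Λ M]
    [Module.Finite Λ M] [AddCommGroup N] [Module Λ N] (σ : M →ₗ[Λ] F.obj.obj (op U))
    (τ : N →ₗ[Λ] G.obj.obj (op U)) (hτ : IsTrivG G U (fun n => τ n)) :
    ∃ (V : X.Etale) (g : V ⟶ U) (y' : (Scheme.pointSmallEtale ξ).fiber.obj V),
      (Scheme.pointSmallEtale ξ).fiber.map g y' = y ∧
        ∃ f : M →ₗ[Λ] N, ∀ m, ap φ V (rs F g (σ m)) = rs G g (τ (f m)) := by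
  obtain ⟨t, ht⟩ := Module.Finite.fg_top (R := Λ) (M := M)
  obtain ⟨V, g, y', hy', hP⟩ := exists_refine t y
    (fun m V g => ∃ n, ap φ V (rs F g (σ m)) = rs G g (τ n))
    (fun m V g ⟨n, hn⟩ W k => ⟨n, by rw [← rs_rs, ap_rs, hn, rs_rs]⟩)
    (fun m _ V g v hv => by
      obtain ⟨n, hn⟩ := (hτ.bij y).2 (gm G v (ap φ V (rs F g (σ m))))
      have h1 : gm G v (ap φ V (rs F g (σ m))) = gm G v (rs G g (τ n)) := by
        rw [gm_rs G g v, hv]; exact hn.symm
      obtain ⟨W, k, z, hz, hk⟩ := ((Scheme.pointSmallEtale ξ).toPresheafFiber_eq_iff' _ _ _ _).mp h1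
      refine ⟨W, k, z, hz, n, ?_⟩
      rw [← rs_rs, ap_rs, ← rs_rs]
      exact hk)
  have hinj : ∀ n n', rs G g (τ n) = rs G g (τ n') → n = n' := fun n n' h =>
    ((hτ.rsComap g).bij y').1 (congrArg (gm G y') h)
  let S : Submodule Λ M :=
    { carrier := {m | ∃ n, ap φ V (rs F g (σ m)) = rs G g (τ n)}
      zero_mem' := ⟨0, by simp only [map_zero]⟩
      add_mem' := fun ⟨a, ha⟩ ⟨b, hb⟩ => ⟨a + b, by simp only [map_add, ha, hb]⟩
      smul_mem' := fun c m ⟨a, ha⟩ => ⟨c • a, by simp only [map_smul, ha]⟩ }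
  have hS : ∀ m, ∃ n, ap φ V (rs F g (σ m)) = rs G g (τ n) := fun m =>
    (ht ▸ Submodule.span_le.2 hP : (⊤ : Submodule Λ M) ≤ S) trivial
  choose f hf using hS
  exact ⟨V, g, y', hy',
    { toFun := f
      map_add' := fun a b => hinj _ _ (by simp only [map_add, ← hf])
      map_smul' := fun c a => hinj _ _ (by simp only [map_smul, RingHom.id_apply, ← hf]) }, hf⟩

/-- common data for a map -/
theorem exists_model {F G : EtModW.Mod Λ X} (φ : F ⟶ G) (hF : EtModW.IsFTLocConst Λ F)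
    (hG : EtModW.IsFTLocConst Λ G) (Ω : Type u) [Field Ω] [IsSepClosed Ω] (ξ : Spec (CommRingCat.of Ω) ⟶ X) :
    ∃ (V : X.Etale) (_ : (Scheme.pointSmallEtale ξ).fiber.obj V) (M N : Type (u + 1)) (_ : AddCommGroup M)
      (_ : Module Λ M) (_ : Module.Finite Λ M) (_ : AddCommGroup N) (_ : Module Λ N) (_ : Module.Finite Λ N)
      (σ : M →ₗ[Λ] F.obj.obj (op V)) (τ : N →ₗ[Λ] G.obj.obj (op V)) (f : M →ₗ[Λ] N),
      IsTrivG F V (fun m => σ m) ∧ IsTrivG G V (fun n => τ n) ∧ ∀ m, ap φ V (σ m) = τ (f m) := by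
  obtain ⟨U₁, y₁, M, _, _, _, σ, hσ⟩ := (isFTLocConst_iff F).1 hF Ω ξ
  obtain ⟨U₂, y₂, N, _, _, _, τ, hτ⟩ := (isFTLocConst_iff G).1 hG Ω ξ
  obtain ⟨W, g₁, g₂, w, -, -⟩ := exists_common y₁ y₂
  obtain ⟨V, g, v, -, f, hf⟩ := exists_local_hom φ w ((rs F g₁).comp σ) ((rs G g₂).comp τ) (hτ.rsComap g₂)
  exact ⟨V, v, M, N, inferInstance, inferInstance, inferInstance, inferInstance, inferInstance, inferInstance,
    (rs F g).comp ((rs F g₁).comp σ), (rs G g).comp ((rs G g₂).comp τ), f,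
    (hσ.rsComap g₁).rsComap g, (hτ.rsComap g₂).rsComap g, hf⟩

variable [IsNoetherianRing Λ]

/-- kernels -/
theorem isFTLocConst_kernel {F G : EtModW.Mod Λ X} (φ : F ⟶ G) (hF : EtModW.IsFTLocConst Λ F)
    (hG : EtModW.IsFTLocConst Λ G) : EtModW.IsFTLocConst Λ (kernel φ) := by
  rw [isFTLocConst_iff]
  intro Ω _ _ ξ
  obtain ⟨V, v, M, N, _, _, _, _, _, _, σ, τ, f, hσ, hτ, hf⟩ := exists_model φ hF hG Ω ξ
  haveI : IsNoetherian Λ M := isNoetherian_of_isNoetherianRing_of_finite Λ M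
  let ι := kernel.ι φ
  let S : ShortComplex (EtModW.Mod Λ X) := ShortComplex.mk ι φ (kernel.condition φ)
  have hex : S.Exact := ShortComplex.exact_of_f_is_kernel _ (kernelIsKernel φ)
  obtain ⟨t, ht⟩ := IsNoetherian.noetherian (LinearMap.ker f)
  obtain ⟨W, g, w, -, hP⟩ := exists_refine t v (fun m W g => ∃ e, ap ι W e = rs F g (σ m))
    (fun m W g ⟨e, he⟩ Z k => ⟨rs _ k e, by rw [ap_rs, he, rs_rs]⟩)
    (fun m hm Z g z hz => by
      have hm0 : f m = 0 := (ht ▸ Submodule.subset_span hm : m ∈ LinearMap.ker f)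
      have h0 : (EtModW.stalk Λ ξ).map φ (gm F z (rs F g (σ m))) = 0 := by
        rw [map_gm, ap_rs, hf, hm0]
        simp only [map_zero]
      obtain ⟨q, hq⟩ := stalk_exact ξ hex _ h0
      obtain ⟨Z', k, z', hz', e, he⟩ := exists_lift ι z _ q hq
      exact ⟨Z', k, z', hz', e, by rw [he, rs_rs]⟩)
  let T : Submodule Λ M :=
    { carrier := {m | ∃ e, ap ι W e = rs F g (σ m)}
      zero_mem' := ⟨0, by simp only [map_zero]⟩
      add_mem' := fun ⟨a, ha⟩ ⟨b, hb⟩ => ⟨a + b, by simp only [map_add, ha, hb]⟩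
      smul_mem' := fun c m ⟨a, ha⟩ => ⟨c • a, by simp only [map_smul, ha]⟩ }
  have hT : ∀ m : LinearMap.ker f, ∃ e, ap ι W e = rs F g (σ m) := fun m =>
    (ht ▸ Submodule.span_le.2 hP : LinearMap.ker f ≤ T) m.2
  choose e he using hT
  let el : LinearMap.ker f →ₗ[Λ] (kernel φ).obj.obj (op W) :=
    { toFun := e
      map_add' := fun a b => ap_injective ι W (by simp only [map_add, he, Submodule.coe_add])
      map_smul' := fun c a => ap_injective ι W (by
        simp only [map_smul, he, Submodule.coe_smul_of_tower, RingHom.id_apply]) }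
  refine ⟨W, w, LinearMap.ker f, inferInstance, inferInstance, inferInstance, el, ?_⟩
  rw [isTrivG_iff]
  intro Ω' _ _ ξ' x
  have hσ' := (hσ.rsComap g).bij x
  have hτ' := (hτ.rsComap g).bij x
  have key : ∀ m, (EtModW.stalk Λ ξ').map ι (gm _ x (el m)) = gm F x (rs F g (σ m)) := fun m => by
    rw [map_gm]
    exact congrArg _ (he m)
  refine ⟨fun a b hab => ?_, fun q => ?_⟩
  · have h1 : gm (kernel φ) x (el a) = gm (kernel φ) x (el b) := hab
    have h2 := congrArg ((EtModW.stalk Λ ξ').map ι) h1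
    rw [key, key] at h2
    exact Subtype.ext (hσ'.1 h2)
  · obtain ⟨m, hm⟩ := hσ'.2 ((EtModW.stalk Λ ξ').map ι q)
    have h0 : (EtModW.stalk Λ ξ').map φ ((EtModW.stalk Λ ξ').map ι q) = 0 := by
      rw [← ConcreteCategory.comp_apply, ← Functor.map_comp, kernel.condition, Functor.map_zero]
      rfl
    rw [← hm] at h0
    have hm0 : f m = 0 := by
      refine hτ'.1 ?_
      simp only [map_zero, LinearMap.comp_apply]
      simp only [LinearMap.comp_apply] at h0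
      rw [map_gm, ap_rs, hf] at h0
      exact h0
    refine ⟨⟨m, hm0⟩, stalk_injective ξ' ι ?_⟩
    exact (key ⟨m, hm0⟩).trans hm

/-- cokernels -/
theorem isFTLocConst_cokernel {F G : EtModW.Mod Λ X} (φ : F ⟶ G) (hF : EtModW.IsFTLocConst Λ F)
    (hG : EtModW.IsFTLocConst Λ G) : EtModW.IsFTLocConst Λ (cokernel φ) := by
  rw [isFTLocConst_iff]
  intro Ω _ _ ξ
  obtain ⟨V, v, M, N, _, _, _, _, _, _, σ, τ, f, hσ, hτ, hf⟩ := exists_model φ hF hG Ω ξ
  let π := cokernel.π φ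
  let S : ShortComplex (EtModW.Mod Λ X) := ShortComplex.mk φ π (cokernel.condition φ)
  have hex : S.Exact := ShortComplex.exact_of_g_is_cokernel _ (cokernelIsCokernel φ)
  have hq : LinearMap.range f ≤ LinearMap.ker ((ap π V).comp τ) := by
    rintro _ ⟨m, rfl⟩
    rw [LinearMap.mem_ker, LinearMap.comp_apply, ← hf]
    exact ConcreteCategory.congr_hom (congrArg (fun ψ => ψ.hom.app (op V)) (cokernel.condition φ)) (σ m)
  let q : N ⧸ LinearMap.range f →ₗ[Λ] (cokernel φ).obj.obj (op V) := Submodule.liftQ _ _ hq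
  refine ⟨V, v, N ⧸ LinearMap.range f, inferInstance, inferInstance, inferInstance, q, ?_⟩
  rw [isTrivG_iff]
  intro Ω' _ _ ξ' x
  have hσ' := hσ.bij x
  have hτ' := hτ.bij x
  have key : ∀ n, gm (cokernel φ) x (q (Submodule.Quotient.mk n)) = (EtModW.stalk Λ ξ').map π (gm G x (τ n)) :=
    fun n => by rw [map_gm]; rfl
  refine ⟨fun a b hab => ?_, fun z => ?_⟩
  · have h1 : gm (cokernel φ) x (q a) = gm (cokernel φ) x (q b) := hab
    induction a using Submodule.Quotient.induction_on with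
    | _ a =>
    induction b using Submodule.Quotient.induction_on with
    | _ b =>
    rw [Submodule.Quotient.eq]
    rw [key, key, ← sub_eq_zero, ← map_sub, ← map_sub, ← map_sub] at h1
    obtain ⟨z, hz⟩ := stalk_exact ξ' hex _ h1
    obtain ⟨m, rfl⟩ := hσ'.2 z
    refine ⟨m, hτ'.1 ?_⟩
    change gm G x (τ (f m)) = gm G x (τ (a - b))
    rw [← hf, ← map_gm]
    exact hz
  · obtain ⟨z', rfl⟩ := stalk_surjective ξ' π z
    obtain ⟨n, rfl⟩ := hτ'.2 z'
    exact ⟨Submodule.Quotient.mk n, key n⟩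

/-- extensions -/
theorem isFTLocConst_of_shortExact {S : ShortComplex (EtModW.Mod Λ X)} (hS : S.ShortExact)
    (h₁ : EtModW.IsFTLocConst Λ S.X₁) (h₃ : EtModW.IsFTLocConst Λ S.X₃) : EtModW.IsFTLocConst Λ S.X₂ := by
  classical
  haveI := hS.mono_f
  haveI := hS.epi_g
  rw [isFTLocConst_iff]
  intro Ω _ _ ξ
  obtain ⟨U₁, y₁, M, _, _, _, σ₀, hσ₀⟩ := (isFTLocConst_iff S.X₁).1 h₁ Ω ξ
  obtain ⟨U₂, y₂, N, _, _, _, τ₀, hτ₀⟩ := (isFTLocConst_iff S.X₃).1 h₃ Ω ξ
  obtain ⟨U, g₁, g₂, u, -, -⟩ := exists_common y₁ y₂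
  let σ := (rs S.X₁ g₁).comp σ₀
  let τ := (rs S.X₃ g₂).comp τ₀
  have hσ : IsTrivG S.X₁ U (fun m => σ m) := hσ₀.rsComap g₁
  have hτ : IsTrivG S.X₃ U (fun n => τ n) := hτ₀.rsComap g₂
  obtain ⟨r, p, hp⟩ := Module.Finite.exists_fin' Λ N
  obtain ⟨V, g, v, -, hP⟩ := exists_refine (Finset.univ : Finset (Fin r)) u
    (fun i V g => ∃ e, ap S.g V e = rs S.X₃ g (τ (p (Pi.single i 1))))
    (fun i V g ⟨e, he⟩ W k => ⟨rs S.X₂ k e, by rw [ap_rs, he, rs_rs]⟩)
    (fun i _ V g v hv => by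
      obtain ⟨z, hz⟩ := stalk_surjective ξ S.g (gm S.X₃ v (rs S.X₃ g (τ (p (Pi.single i 1)))))
      obtain ⟨W, k, w, hw, e, he⟩ := exists_lift S.g v _ z hz
      exact ⟨W, k, w, hw, e, by rw [he, rs_rs]⟩)
  choose e he using fun i => hP i (Finset.mem_univ i)
  let E : (Fin r → Λ) →ₗ[Λ] S.X₂.obj.obj (op V) := (Pi.basisFun Λ (Fin r)).constr Λ e
  have hE : ∀ a, ap S.g V (E a) = rs S.X₃ g (τ (p a)) := by
    intro a
    refine LinearMap.congr_fun (f := (ap S.g V).comp E) (g := (rs S.X₃ g).comp (τ.comp p))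
      ((Pi.basisFun Λ (Fin r)).ext fun i => ?_) a
    rw [LinearMap.comp_apply]
    change ap S.g V ((Pi.basisFun Λ (Fin r)).constr Λ e (Pi.basisFun Λ (Fin r) i)) = _
    rw [Module.Basis.constr_basis, he, Pi.basisFun_apply]
    rfl
  obtain ⟨t, ht⟩ := IsNoetherian.noetherian (LinearMap.ker p)
  obtain ⟨W, k, w, -, hQ⟩ := exists_refine t v
    (fun a W k => ∃ m, ap S.f W (rs S.X₁ k (rs S.X₁ g (σ m))) = rs S.X₂ k (E a))
    (fun a W k ⟨m, hm⟩ Z l => ⟨m, by rw [← rs_rs, ap_rs, hm, rs_rs]⟩)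
    (fun a ha Z k z hz => by
      have ha0 : p a = 0 := (ht ▸ Submodule.subset_span ha : a ∈ LinearMap.ker p)
      have h0 : (EtModW.stalk Λ ξ).map S.g (gm S.X₂ z (rs S.X₂ k (E a))) = 0 := by
        rw [map_gm, ap_rs, hE, ha0]
        simp only [map_zero]
      obtain ⟨q, hq⟩ := stalk_exact ξ hS.exact _ h0
      obtain ⟨m, hm⟩ := (((hσ.rsComap g).rsComap k).bij z).2 q
      simp only [LinearMap.comp_apply] at hm
      rw [← hm, map_gm] at hq
      obtain ⟨Z', l, z', hz', hl⟩ := ((Scheme.pointSmallEtale ξ).toPresheafFiber_eq_iff' _ _ _ _).mp hq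
      refine ⟨Z', l, z', hz', m, ?_⟩
      rw [← rs_rs, ap_rs, ← rs_rs]
      exact hl)
  let T : Submodule Λ (Fin r → Λ) :=
    { carrier := {a | ∃ m, ap S.f W (rs S.X₁ k (rs S.X₁ g (σ m))) = rs S.X₂ k (E a)}
      zero_mem' := ⟨0, by simp only [map_zero]⟩
      add_mem' := fun ⟨a, ha⟩ ⟨b, hb⟩ => ⟨a + b, by simp only [map_add, ha, hb]⟩
      smul_mem' := fun c m ⟨a, ha⟩ => ⟨c • a, by simp only [map_smul, ha]⟩ }
  have hT : LinearMap.ker p ≤ T := ht ▸ Submodule.span_le.2 hQ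
  let i : M →ₗ[Λ] S.X₂.obj.obj (op W) := (ap S.f W).comp ((rs S.X₁ k).comp ((rs S.X₁ g).comp σ))
  let E' : (Fin r → Λ) →ₗ[Λ] S.X₂.obj.obj (op W) := (rs S.X₂ k).comp E
  let P : Submodule Λ (S.X₂.obj.obj (op W)) := LinearMap.range (i.coprod E')
  refine ⟨W, w, P, inferInstance, inferInstance, inferInstance, P.subtype, ?_⟩
  rw [isTrivG_iff]
  intro Ω' _ _ ξ' x
  have hσ' := ((hσ.rsComap g).rsComap k).bij x
  have hτ' := ((hτ.rsComap g).rsComap k).bij x
  have hgi : ∀ m, (EtModW.stalk Λ ξ').map S.g (gm S.X₂ x (i m)) = 0 := fun m => by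
    change (EtModW.stalk Λ ξ').map S.g (gm S.X₂ x (ap S.f W (rs S.X₁ k (rs S.X₁ g (σ m))))) = 0
    rw [← map_gm, ← ConcreteCategory.comp_apply, ← Functor.map_comp, S.zero, Functor.map_zero]
    rfl
  have hgE : ∀ a, (EtModW.stalk Λ ξ').map S.g (gm S.X₂ x (E' a)) = gm S.X₃ x (rs S.X₃ k (rs S.X₃ g (τ (p a)))) :=
    fun a => by
    change (EtModW.stalk Λ ξ').map S.g (gm S.X₂ x (rs S.X₂ k (E a))) = _
    rw [map_gm, ap_rs, hE]
  refine ⟨(injective_iff_map_eq_zero ((gm S.X₂ x).comp P.subtype)).2 ?_, fun (z : (EtModW.stalk Λ ξ').obj S.X₂) => ?_⟩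
  · rintro ⟨_, ⟨m, a⟩, rfl⟩ hab
    have h0 : gm S.X₂ x (i m + E' a) = 0 := by
      change gm S.X₂ x (i.coprod E' (m, a)) = 0 at hab
      rwa [LinearMap.coprod_apply] at hab
    have h1 := congrArg ((EtModW.stalk Λ ξ').map S.g) h0
    rw [map_add, map_add, hgi, hgE, zero_add, map_zero] at h1
    have ha : p a = 0 := hτ'.1 (by simpa only [map_zero, LinearMap.comp_apply] using h1)
    obtain ⟨m', hm'⟩ := hT ha
    have hm : i (m + m') = i m + E' a := by
      rw [map_add]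
      exact congrArg (i m + ·) hm'
    rw [← hm] at h0
    have h2 : m + m' = 0 := by
      refine hσ'.1 (stalk_injective ξ' S.f ?_)
      simp only [LinearMap.comp_apply]
      rw [map_gm, map_gm]
      refine h0.trans ?_
      simp only [map_zero]
    refine Subtype.ext ?_
    change i.coprod E' (m, a) = 0
    rw [LinearMap.coprod_apply, ← hm, h2, map_zero]
  · obtain ⟨n, hn⟩ := hτ'.2 ((EtModW.stalk Λ ξ').map S.g z)
    obtain ⟨a, rfl⟩ := hp n
    have h0 : (EtModW.stalk Λ ξ').map S.g (z - gm S.X₂ x (E' a)) = 0 := by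
      rw [map_sub, hgE, ← hn]
      exact sub_self _
    obtain ⟨q, hq⟩ := stalk_exact ξ' hS.exact _ h0
    obtain ⟨m, rfl⟩ := hσ'.2 q
    simp only [LinearMap.comp_apply] at hq
    rw [map_gm] at hq
    refine ⟨⟨i m + E' a, ⟨(m, a), LinearMap.coprod_apply _ _ _⟩⟩, ?_⟩
    change gm S.X₂ x (i m + E' a) = z
    rw [map_add]
    exact (congrArg (· + _) hq).trans (sub_add_cancel _ _)

end Groth.Agent.EtTrivGen
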